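import Mathlib
import Cfsg.Agent.Lib.Blocks.Orthogonality
import Cfsg.Agent.Lib.Characters.Burnside
import Cfsg.Agent.Lib.Characters.Kernel
import Cfsg.Agent.BlockCharsA.DefectZeroVanish
import Cfsg.Agent.Lib.Cores.Basic
import Cfsg.Agent.Lib.Cores.Fitting
import Cfsg.Agent.Lib.Components.Fitting

/-!
# Kazarin's theorem: elements with a conjugacy class of prime power size

If the class of `x` has size a power of a prime `p` then the normal closure of `x` is soluble,
and the commutator of two conjugates of `x` lies in the `p`-core.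
-/

set_option linter.style.haveILetI false

namespace Cfsg.Agent.SolvStruct.Kazarin

open scoped ComplexConjugate commutatorElement
open Cfsg.Agent.Characters Cfsg.Agent.Blocks

universe u

/-- A number all of whose prime divisors are among `p` and `r` is `p ^ a * r ^ b`. -/
theorem exists_pow_mul_pow {p r n : ℕ} (hp : p.Prime) (hn : n ≠ 0)
    (h : ∀ q : ℕ, q.Prime → q ∣ n → q = p ∨ q = r) : ∃ a b, n = p ^ a * r ^ b := by
  obtain ⟨a, m, hm, rfl⟩ := Nat.exists_eq_pow_mul_and_not_dvd hn p hp.ne_one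
  refine ⟨a, m.primeFactorsList.length, ?_⟩
  congr 1
  refine Nat.eq_prime_pow_of_unique_prime_dvd (fun h0 => hm (h0 ▸ dvd_zero p)) fun {d} hd hdm => ?_
  exact (h d hd (hdm.trans (dvd_mul_left _ _))).resolve_left fun e => hm (e ▸ hdm)

/-- The commutator identity for a normal subgroup with cyclic quotient of prime order
generated by `x`, where the class of `x` has prime power size. -/
theorem exists_normal_of_class {H : Type u} [Group H] [Finite H] (K : Subgroup H) [K.Normal]
    {p r a : ℕ} (hp : p.Prime) (hr : r.Prime) {x : H} (hxr : x ^ r = 1)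
    (hgen : ∀ h : H, ∃ k ∈ K, ∃ i : ℕ, h = k * x ^ i)
    (hclass : (Subgroup.centralizer ({x} : Set H)).index = p ^ a)
    (hK : ¬ Group.IsSolvable K) :
    ∃ N : Subgroup H, N.Normal ∧ ¬ K ≤ N ∧ ∀ k ∈ K, ⁅k, x⁆ ∈ N := by
  classical
  obtain ⟨q, hq, hqK, hqp, hqr⟩ : ∃ q : ℕ, q.Prime ∧ q ∣ Nat.card K ∧ q ≠ p ∧ q ≠ r := by
    by_contra hcon
    push Not at hcon
    obtain ⟨u, w, huw⟩ := exists_pow_mul_pow (r := r) hp (Nat.card_pos (α := K)).ne'
      fun q hq hqK => or_iff_not_imp_left.2 fun hne => hcon q hq hqK hne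
    exact hK (burnside_pa_qb hp hr huw)
  haveI := Fact.mk hq
  obtain ⟨v, hv⟩ := exists_prime_orderOf_dvd_card' q hqK
  obtain ⟨M, hM⟩ := BlockCharsA.DefectZeroVanish.exists_modular hq
  haveI := Fintype.ofFinite (Cfsg.IrrCharacter H)
  by_contra hno
  set B := Cfsg.principalBlock M H
  have hqa : ¬ q ∣ p ^ a := fun h => hqp ((Nat.prime_dvd_prime_iff_eq hq hp).1 (hq.dvd_of_dvd_pow h))
  have hdiv : ∀ χ ∈ B, χ ≠ trivIrr H → ∃ m : ℕ, (χ : H → ℂ) 1 = ((p * m : ℕ) : ℂ) := by
    intro χ hχ hne
    by_contra hm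
    have hcg : Cfsg.MemLocalIdeal M ((p ^ a : ℕ) -
        (p ^ a : ℕ) * (χ : H → ℂ) x / (χ : H → ℂ) 1) := by
      have h := hχ x
      simpa only [Cfsg.centralChar, hclass, mul_one, div_one] using h
    have hker : ¬ ∀ k ∈ K, (χ : H → ℂ) k = (χ : H → ℂ) 1 := by
      intro hK1
      obtain ⟨ψ, hψc, hψ, hψi⟩ := exists_deflate_quotient K (irr_isCharacter χ) hK1
      have hpow : ∀ u : H ⧸ K, ∃ i : ℕ, u = (x : H ⧸ K) ^ i := fun u => by
        obtain ⟨h, rfl⟩ := QuotientGroup.mk_surjective u
        obtain ⟨k, hk, i, rfl⟩ := hgen h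
        exact ⟨i, by simp [(QuotientGroup.eq_one_iff k).2 hk]⟩
      have hcomm : ∀ u w : H ⧸ K, u * w = w * u := fun u w => by
        obtain ⟨i, rfl⟩ := hpow u
        obtain ⟨j, rfl⟩ := hpow w
        exact ((Commute.refl _).pow_pow i j).eq
      have hψ1 := irr_degree_one_of_comm hcomm (hψi χ.2)
      have h1 : (χ : H → ℂ) 1 = 1 := by rw [← hψ, QuotientGroup.mk_one, hψ1]
      have hx1 : (χ : H → ℂ) x = 1 := by
        have hpw : (χ : H → ℂ) x ^ r = 1 := by
          rw [← linearOfDegreeOne_apply (irr_isCharacter χ) h1 x, ← Units.val_pow_eq_pow_val,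
            ← map_pow, hxr, map_one, Units.val_one]
        refine eq_one_of_cong_one hM (fun h => hqr ((Nat.prime_dvd_prime_iff_eq hq hr).1 h))
          hpw (cong_symm hM ?_)
        rw [h1, div_one] at hcg
        have h2 := ideal_mul_left hM (ring_inv_natCast hM hqa) hcg
        have h0 : ((p ^ a : ℕ) : ℂ) ≠ 0 := Nat.cast_ne_zero.2 (pow_ne_zero _ hp.ne_zero)
        rw [mul_sub, inv_mul_cancel₀ h0, inv_mul_cancel_left₀ h0] at h2
        exact h2
      refine hne (Subtype.ext (funext fun h => ?_))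
      obtain ⟨k, hk, i, rfl⟩ := hgen h
      show (χ : H → ℂ) (k * x ^ i) = 1
      rw [← linearOfDegreeOne_apply (irr_isCharacter χ) h1, map_mul, map_pow, Units.val_mul,
        Units.val_pow_eq_pow_val, linearOfDegreeOne_apply, linearOfDegreeOne_apply, hK1 k hk, h1,
        hx1, one_pow, one_mul]
    have hx0 : (χ : H → ℂ) x ≠ 0 := fun h0 => by
      rw [h0, mul_zero, zero_div, sub_zero] at hcg
      exact hqa ((ideal_natCast_iff hM _).1 hcg)
    obtain ⟨n, ρ, hρ, hchar⟩ := χ.2
    rw [← hchar] at hm hx0 hker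
    have hn : ¬ p ∣ Module.finrank ℂ (Fin n → ℂ) := fun ⟨m, e⟩ =>
      hm ⟨m, by rw [ρ.char_one, e]⟩
    have hnorm := (char_eq_zero_or_norm_eq_of_coprime ρ x
      (by rw [hclass]; exact Nat.Coprime.pow_right _ ((hp.coprime_iff_not_dvd.2 hn).symm))).resolve_left
      hx0
    obtain ⟨c, hc⟩ := rep_apply_eq_smul_of_norm_eq ρ x hnorm
    refine hno ⟨ρ.asGroupHom.ker, inferInstance, fun hle => hker fun k hk => ?_, fun k hk => ?_⟩
    · refine rep_char_eq_of_apply_eq_id ?_
      have := congrArg Units.val (MonoidHom.mem_ker.1 (hle hk))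
      rw [Representation.asGroupHom_apply] at this
      exact this.trans (by rfl)
    · rw [MonoidHom.mem_ker, map_commutatorElement, commutatorElement_eq_one_iff_mul_comm]
      refine Units.ext ?_
      simp [Representation.asGroupHom_apply, hc, Module.End.mul_eq_comp]
  -- orthogonality between `1` and `v`
  have h0 := sum_block_reg_sing hM (intEl_blockIdem hM (isPBlock_principal M H))
    (x := (1 : H)) (y := (v : H)) (by simp [hq.ne_one])
    (by rw [Subgroup.orderOf_coe, hv])
  rw [finsum_mem_def, finsum_eq_sum_of_fintype] at h0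
  rw [← Finset.add_sum_erase _ _ (Finset.mem_univ (trivIrr H)),
    Set.indicator_of_mem (trivIrr_mem_principal hM)] at h0
  have hint : IsIntegral ℤ ((∑ χ ∈ Finset.univ.erase (trivIrr H),
      B.indicator (fun χ : Cfsg.IrrCharacter H =>
        (χ : H → ℂ) 1 * conj ((χ : H → ℂ) (v : H))) χ) / (p : ℂ)) := by
    rw [Finset.sum_div]
    refine IsIntegral.sum _ fun χ hχ => ?_
    by_cases hB : χ ∈ B
    · obtain ⟨m, hm⟩ := hdiv χ hB (Finset.ne_of_mem_erase hχ)
      rw [Set.indicator_of_mem hB, hm, Nat.cast_mul, mul_assoc,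
        mul_div_cancel_left₀ _ (Nat.cast_ne_zero.2 hp.ne_zero)]
      exact (isIntegral_algebraMap (R := ℤ) (x := (m : ℤ))).mul
        (isIntegral_conj (char_value_isIntegral (irr_isCharacter χ) _))
    · rw [Set.indicator_of_notMem hB, zero_div]
      exact isIntegral_zero
  rw [trivIrr_coe, map_one, mul_one] at h0
  rw [show (∑ χ ∈ Finset.univ.erase (trivIrr H), B.indicator (fun χ : Cfsg.IrrCharacter H =>
        (χ : H → ℂ) 1 * conj ((χ : H → ℂ) (v : H))) χ) = -1 by linear_combination h0] at hint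
  have h2 := hint.neg
  rw [neg_div, neg_neg] at h2
  exact hp.not_dvd_one (dvd_of_isIntegral_div (a := 1) hp.ne_zero (by simpa using h2))

variable {G : Type u} [Group G]

/-- An element of prime order normalizing `K`, with a class of prime power size in `K⟨x⟩`,
centralizes `K` when `K` has no abelian subnormal subgroup. -/
theorem le_centralizer [Finite G] {p r a : ℕ} (hp : p.Prime) (hr : r.Prime) {x : G}
    (hxr : x ^ r = 1) (K : Subgroup G) (hxK : x ∈ Subgroup.normalizer (K : Set G))
    (hab : ∀ A ≤ K, (A.subgroupOf K).IsSubnormal → (∀ u ∈ A, ∀ w ∈ A, u * w = w * u) → A = ⊥)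
    (hC : (Subgroup.centralizer ({x} : Set G)).relIndex K ∣ p ^ a) :
    K ≤ Subgroup.centralizer ({x} : Set G) := by
  induction hd : Nat.card K using Nat.strong_induction_on generalizing K with
  | _ n ih =>
    subst hd
    set C := Subgroup.centralizer ({x} : Set G)
    by_cases hsol : Group.IsSolvable K
    · -- a nontrivial soluble group has a nontrivial abelian normal subgroup
      rcases subsingleton_or_nontrivial K with hs | hs
      · intro k hk
        rw [show k = 1 from congrArg Subtype.val (Subsingleton.elim (⟨k, hk⟩ : K) 1)]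
        exact one_mem _
      exfalso
      haveI := hsol
      haveI := Cores.fittingSubgroup_isNilpotent (G := K)
      have hF := Cores.fittingSubgroup_ne_bot (G := K)
      haveI : Nontrivial (Cfsg.fittingSubgroup K) := (Subgroup.nontrivial_iff_ne_bot _).2 hF
      set Z := (Subgroup.center (Cfsg.fittingSubgroup K)).map (Cfsg.fittingSubgroup K).subtype
      haveI : Z.Normal := Cores.normal_map_subtype _ _
      refine Group.IsNilpotent.center_ne_bot (G := Cfsg.fittingSubgroup K) ?_
      have hZ : Z.map K.subtype = ⊥ := by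
        refine hab _ (Subgroup.map_subtype_le _) ?_ ?_
        · rw [Subgroup.subgroupOf, Subgroup.comap_map_eq_self_of_injective K.subtype_injective]
          exact Subgroup.Normal.isSubnormal inferInstance
        · rintro _ ⟨_, ⟨u, hu, rfl⟩, rfl⟩ _ ⟨_, ⟨w, _, rfl⟩, rfl⟩
          rw [← map_mul, ← map_mul, ← map_mul, ← map_mul, Subgroup.mem_center_iff.1 hu w]
      exact (Subgroup.map_eq_bot_iff_of_injective _ (Cfsg.fittingSubgroup K).subtype_injective).1
        ((Subgroup.map_eq_bot_iff_of_injective _ K.subtype_injective).1 hZ)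
    -- pass to `H = K⟨x⟩`
    set H := K ⊔ Subgroup.zpowers x
    have hKH : K ≤ H := le_sup_left
    set x' : H := ⟨x, le_sup_right (a := K) (Subgroup.mem_zpowers x)⟩
    haveI : (K.subgroupOf H).Normal := Subgroup.normal_subgroupOf_iff_le_normalizer hKH |>.2
      (sup_le Subgroup.le_normalizer (Subgroup.zpowers_le.2 hxK))
    have htop : K.subgroupOf H ⊔ Subgroup.zpowers x' = ⊤ := by
      apply Subgroup.map_injective H.subtype_injective
      rw [Subgroup.map_sup, Subgroup.map_subgroupOf_eq_of_le hKH, MonoidHom.map_zpowers,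
        ← MonoidHom.range_eq_map, Subgroup.range_subtype]
      rfl
    have hgen : ∀ h : H, ∃ k ∈ K.subgroupOf H, ∃ i : ℕ, h = k * x' ^ i := by
      intro h
      obtain ⟨k, hk, z, hz, hkz⟩ := Subgroup.mem_sup_of_normal_left.1
        (show h ∈ K.subgroupOf H ⊔ Subgroup.zpowers x' from htop ▸ Subgroup.mem_top h)
      obtain ⟨i, rfl⟩ := mem_powers_iff_mem_zpowers.2 hz
      exact ⟨k, hk, i, hkz.symm⟩
    have hCeq : Subgroup.centralizer ({x'} : Set H) = C.subgroupOf H := by
      ext h
      rw [Subgroup.mem_centralizer_singleton_iff, Subgroup.mem_subgroupOf,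
        Subgroup.mem_centralizer_singleton_iff, Subtype.ext_iff]
      rfl
    have hidx : (Subgroup.centralizer ({x'} : Set H)).index ∣ p ^ a := by
      refine dvd_trans ?_ hC
      rw [← Subgroup.relIndex_subgroupOf hKH, hCeq]
      have hsup : C.subgroupOf H ⊔ K.subgroupOf H = ⊤ := by
        rw [eq_top_iff, ← htop, sup_comm (C.subgroupOf H)]
        refine sup_le_sup_left ?_ _
        rw [Subgroup.zpowers_le, Subgroup.mem_subgroupOf, Subgroup.mem_centralizer_singleton_iff]
      have h1 := Cores.card_sup_mul_card_inf (C.subgroupOf H) (K.subgroupOf H)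
      rw [hsup, Subgroup.card_top, ← (C.subgroupOf H).card_mul_index, mul_assoc] at h1
      have h2 := Nat.eq_of_mul_eq_mul_left Nat.card_pos h1
      have h3 : (C.subgroupOf H).relIndex (K.subgroupOf H) *
          Nat.card ↥(C.subgroupOf H ⊓ K.subgroupOf H) = Nat.card (K.subgroupOf H) := by
        rw [← Subgroup.inf_relIndex_right, mul_comm, ← Subgroup.relIndex_bot_left,
          Subgroup.relIndex_mul_relIndex ⊥ _ _ bot_le inf_le_right, Subgroup.relIndex_bot_left]
      exact (Nat.eq_of_mul_eq_mul_right Nat.card_pos (h2.trans h3.symm)).dvd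
    obtain ⟨b, -, hb⟩ := (Nat.dvd_prime_pow hp).1 hidx
    obtain ⟨N, hN, hKN, hcomN⟩ := exists_normal_of_class (K.subgroupOf H) hp hr (x := x')
      (Subtype.ext hxr) hgen hb
      (fun h => hsol (solvable_of_surjective (f := (Subgroup.subgroupOfEquivOfLe hKH).toMonoidHom)
        (Subgroup.subgroupOfEquivOfLe hKH).surjective))
    haveI : (N ⊓ K.subgroupOf H).Normal := inferInstance
    set N' := (N ⊓ K.subgroupOf H).map H.subtype with hN'
    have hN'K : N' ≤ K := (Subgroup.map_mono inf_le_right).trans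
      (Subgroup.map_subgroupOf_eq_of_le hKH).le
    have hlt : Nat.card N' < Nat.card K := by
      refine lt_of_le_of_ne (Subgroup.card_le_of_le hN'K) fun h => hKN ?_
      have h1 : N' = K := Subgroup.eq_of_le_of_card_ge hN'K h.ge
      intro k hk
      have h2 : (k : G) ∈ N' := by rw [h1]; exact hk
      obtain ⟨k', hk', e⟩ := h2
      rw [← H.subtype_injective e]
      exact hk'.1
    have hnorm : ∀ h ∈ H, ∀ m ∈ N', h * m * h⁻¹ ∈ N' := by
      rintro h hh _ ⟨m, hm, rfl⟩
      exact ⟨⟨h, hh⟩ * m * ⟨h, hh⟩⁻¹,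
        (inferInstance : (N ⊓ K.subgroupOf H).Normal).conj_mem m hm ⟨h, hh⟩, rfl⟩
    have hxN' : x ∈ Subgroup.normalizer (N' : Set G) := by
      refine Subgroup.mem_normalizer_iff.2 fun m => ⟨hnorm x x'.2 m, fun h => ?_⟩
      simpa [mul_assoc] using hnorm x⁻¹ (inv_mem x'.2) _ h
    haveI hN'n : (N'.subgroupOf K).Normal :=
      ⟨fun m hm k => hnorm k (hKH k.2) m hm⟩
    have hcomap : ∀ A ≤ N', (A.subgroupOf N').IsSubnormal → (A.subgroupOf K).IsSubnormal := by
      intro A hA hAs
      refine Subgroup.IsSubnormal.trans (Subgroup.comap_mono hA) ?_ hN'n.isSubnormal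
      have := hAs.comap (Subgroup.subgroupOfEquivOfLe hN'K).toMonoidHom
      exact this
    have hCN : N' ≤ C := by
      refine ih _ hlt N' hxN'
        (fun A hA hAs hAc => hab A (hA.trans hN'K) (hcomap A hA hAs) hAc) ?_ rfl
      refine dvd_trans ?_ hC
      rw [← Subgroup.relIndex_subgroupOf hN'K]
      exact Cores.relIndex_dvd_index_right_normal _ _
    -- the commutators `⁅k, x⁆` lie in the centre of `N'`, which is trivial
    set A := N' ⊓ Subgroup.centralizer (N' : Set G) with hA
    have hA1 : A = ⊥ := by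
      refine hab A (inf_le_left.trans hN'K) (Subgroup.Normal.isSubnormal ⟨?_⟩)
        fun u hu w hw => (hu.2 w hw.1).symm
      intro u hu k
      refine ⟨hnorm k (hKH k.2) u hu.1, fun m hm => ?_⟩
      have h1 : (k : G)⁻¹ * m * k ∈ N' := by
        simpa using hnorm (k : G)⁻¹ (inv_mem (hKH k.2)) m hm
      have h2 : (k : G)⁻¹ * m * k * u = u * ((k : G)⁻¹ * m * k) := hu.2 _ h1
      show m * ((k : G) * u * (k : G)⁻¹) = (k : G) * u * (k : G)⁻¹ * m
      calc m * ((k : G) * u * (k : G)⁻¹) = k * ((k : G)⁻¹ * m * k * u) * (k : G)⁻¹ := by group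
        _ = k * (u * ((k : G)⁻¹ * m * k)) * (k : G)⁻¹ := by rw [h2]
        _ = _ := by group
    intro k hk
    have hn : ⁅k, x⁆ ∈ N' := by
      refine ⟨⁅(⟨k, hKH hk⟩ : H), x'⁆, ⟨hcomN _ hk, ?_⟩, map_commutatorElement H.subtype _ _⟩
      show ((⁅(⟨k, hKH hk⟩ : H), x'⁆ : H) : G) ∈ K
      rw [show ((⁅(⟨k, hKH hk⟩ : H), x'⁆ : H) : G) = k * (x * k⁻¹ * x⁻¹) by
        simp [commutatorElement_def, x', mul_assoc]]
      exact mul_mem hk ((Subgroup.mem_normalizer_iff.1 hxK _).1 (inv_mem hk))
    have hn1 : ⁅k, x⁆ ∈ A := by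
      refine ⟨hn, fun m hm => ?_⟩
      have h1 : Commute m x := Subgroup.mem_centralizer_singleton_iff.1 (hCN hm)
      have h2 : Commute (k⁻¹ * m * k) x := Subgroup.mem_centralizer_singleton_iff.1
        (hCN (by simpa using hnorm k⁻¹ (inv_mem (hKH hk)) m hm))
      have h3 : Commute m (k * x * k⁻¹) := by
        have := h2.map (MulAut.conj k).toMonoidHom
        simpa [MulAut.conj_apply, mul_assoc] using this
      rw [commutatorElement_def]
      exact h3.mul_right h1.inv_right
    rw [hA1, Subgroup.mem_bot, commutatorElement_eq_one_iff_mul_comm] at hn1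
    exact Subgroup.mem_centralizer_singleton_iff.2 hn1

/-- Kazarin's theorem. -/
theorem isSolvable_normalClosure [Finite G] {p a : ℕ} (hp : p.Prime) {x : G}
    (hx : (Subgroup.centralizer ({x} : Set G)).index = p ^ a) :
    Group.IsSolvable (Subgroup.normalClosure ({x} : Set G)) := by
  obtain ⟨R, -, hR⟩ := (Set.toFinite {N : Subgroup G | N.Normal ∧ Group.IsSolvable N}).exists_le_maximal
    (show (⊥ : Subgroup G) ∈ {N : Subgroup G | N.Normal ∧ Group.IsSolvable N} from
      ⟨inferInstance, inferInstance⟩)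
  haveI := hR.prop.1
  haveI := hR.prop.2
  -- the quotient has no nontrivial soluble normal subgroup
  have hbot : ∀ S : Subgroup (G ⧸ R), S.Normal → Group.IsSolvable S → S = ⊥ := by
    intro S hS hSs
    set T := S.comap (QuotientGroup.mk' R)
    have hRT : R ≤ T := fun y hy => by
      show QuotientGroup.mk' R y ∈ S
      rw [show QuotientGroup.mk' R y = 1 from (QuotientGroup.eq_one_iff y).2 hy]
      exact one_mem _
    haveI : Group.IsSolvable T := by
      refine (Group.isSolvable_iff_subgroup_quotient (R.subgroupOf T)).2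
        ⟨solvable_of_surjective (f := (Subgroup.subgroupOfEquivOfLe hRT).symm.toMonoidHom)
          (Subgroup.subgroupOfEquivOfLe hRT).symm.surjective, ?_⟩
      let f : T →* S := (QuotientGroup.mk' R).subgroupComap S
      refine solvable_of_solvable_injective (f := QuotientGroup.lift (R.subgroupOf T) f ?_) ?_
      · intro t ht
        exact Subtype.ext ((QuotientGroup.eq_one_iff (t : G)).2 ht)
      · rw [← MonoidHom.ker_eq_bot_iff, eq_bot_iff]
        intro t ht
        obtain ⟨t, rfl⟩ := QuotientGroup.mk_surjective t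
        rw [Subgroup.mem_bot, QuotientGroup.eq_one_iff]
        exact (QuotientGroup.eq_one_iff (t : G)).1 (congrArg Subtype.val (MonoidHom.mem_ker.1 ht))
    have hTR : T ≤ R := hR.le_of_ge ⟨inferInstance, inferInstance⟩ hRT
    rw [eq_bot_iff]
    intro y hy
    obtain ⟨y, rfl⟩ := QuotientGroup.mk_surjective y
    exact (QuotientGroup.eq_one_iff y).2 (hTR hy)
  by_cases hxR : x ∈ R
  · exact solvable_of_solvable_injective (Subgroup.inclusion_injective
      (Subgroup.normalClosure_le_normal (N := R) (Set.singleton_subset_iff.2 hxR)))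
  exfalso
  set y := QuotientGroup.mk' R x with hy
  have hy1 : orderOf y ≠ 1 := fun h => hxR ((QuotientGroup.eq_one_iff x).1 (orderOf_eq_one_iff.1 h))
  obtain ⟨r, hr, hrd⟩ := Nat.exists_prime_and_dvd hy1
  set z := y ^ (orderOf y / r)
  have hzr : z ^ r = 1 := by rw [← pow_mul, Nat.div_mul_cancel hrd, pow_orderOf_eq_one]
  have hz1 : z ≠ 1 := by
    intro h
    have h1 := Nat.le_of_dvd (Nat.div_pos (Nat.le_of_dvd (orderOf_pos y) hrd) hr.pos)
      (orderOf_dvd_of_pow_eq_one h)
    exact absurd (Nat.div_lt_self (orderOf_pos y) hr.one_lt) (not_lt.2 h1)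
  have hidx : (Subgroup.centralizer ({z} : Set (G ⧸ R))).index ∣ p ^ a := by
    refine dvd_trans (Subgroup.index_dvd_of_le ?_)
      (hx ▸ Subgroup.index_map_dvd (H := Subgroup.centralizer ({x} : Set G))
        (QuotientGroup.mk'_surjective R))
    rintro _ ⟨c, hc, rfl⟩
    rw [Subgroup.mem_centralizer_singleton_iff]
    exact ((show Commute c x from Subgroup.mem_centralizer_singleton_iff.1 hc).map
      (QuotientGroup.mk' R)).pow_right _
  have htop := le_centralizer (r := r) hp hr hzr ⊤ (Subgroup.mem_normalizer_iff.2 (by simp)) (fun A _ hA hAc => by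
    have hA' : A.IsSubnormal := hA.trans le_top (Subgroup.Normal.isSubnormal inferInstance)
    haveI : IsMulCommutative A := ⟨⟨fun u w => Subtype.ext (hAc u u.2 w w.2)⟩⟩
    refine le_bot_iff.1 ((Components.Fitting.le_fitting_of_isSubnormal hA'
      (Components.Fitting.isNilpotent_of_isMulCommutative A)).trans ?_)
    exact (hbot _ inferInstance (Components.Fitting.fitting_isSolvable)).le)
    (by rwa [Subgroup.relIndex_top_right])
  have hzc : z ∈ Subgroup.center (G ⧸ R) := Subgroup.mem_center_iff.2 fun g =>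
    Subgroup.mem_centralizer_singleton_iff.1 (htop (Subgroup.mem_top g))
  rw [hbot (Subgroup.center (G ⧸ R)) inferInstance (Group.isSolvable_of_comm fun u w =>
    Subtype.ext (Subgroup.mem_center_iff.1 w.2 u)), Subgroup.mem_bot] at hzc
  exact hz1 hzc

/-- Commutators of conjugates of an element with a class of `p`-power size lie in `O_p(G)`. -/
theorem commutator_mem_pCore [Finite G] {p a : ℕ} (hp : p.Prime) {x : G}
    (hx : (Subgroup.centralizer ({x} : Set G)).index = p ^ a) (g h : G) :
    ⁅g * x * g⁻¹, h * x * h⁻¹⁆ ∈ Cfsg.pCore p G := by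
  haveI := Fact.mk hp
  haveI : (Cfsg.pCore p G).Normal := Cores.pCore_normal p
  set π := QuotientGroup.mk' (Cfsg.pCore p G)
  set y := π x with hy
  have hidx : (Subgroup.centralizer ({y} : Set (G ⧸ Cfsg.pCore p G))).index ∣ p ^ a := by
    refine dvd_trans (Subgroup.index_dvd_of_le ?_)
      (hx ▸ Subgroup.index_map_dvd (H := Subgroup.centralizer ({x} : Set G))
        (QuotientGroup.mk'_surjective (Cfsg.pCore p G)))
    rintro _ ⟨c, hc, rfl⟩
    rw [Subgroup.mem_centralizer_singleton_iff]
    exact (show Commute c x from Subgroup.mem_centralizer_singleton_iff.1 hc).map π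
  obtain ⟨b, -, hb⟩ := (Nat.dvd_prime_pow hp).1 hidx
  set N := Subgroup.normalClosure ({y} : Set (G ⧸ Cfsg.pCore p G))
  haveI : Group.IsSolvable N := isSolvable_normalClosure hp hb
  haveI : N.Normal := Subgroup.normalClosure_normal
  haveI : (Cfsg.fittingSubgroup N).Characteristic := Cores.fittingSubgroup_characteristic
  set F := (Cfsg.fittingSubgroup N).map N.subtype with hF
  haveI : F.Normal := Cores.normal_map_subtype _ _
  have hpF : ¬ p ∣ Nat.card F := by
    rw [hF, Subgroup.card_map_of_injective N.subtype_injective]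
    intro hdvd
    obtain ⟨P⟩ := (inferInstance : Nonempty (Sylow p (Cfsg.fittingSubgroup N)))
    refine P.ne_bot_of_dvd_card hdvd ?_
    have h1 := Cores.map_pCore_subtype_eq_inf p N
    rw [Cores.pCore_quotient_self p, bot_inf_eq,
      Subgroup.map_eq_bot_iff_of_injective _ N.subtype_injective] at h1
    have h2 := Cores.sylow_fitting_map P
    rw [h1, Subgroup.map_eq_bot_iff_of_injective _ (Cfsg.fittingSubgroup N).subtype_injective] at h2
    exact h2
  have hFC : F ≤ Subgroup.centralizer ({y} : Set (G ⧸ Cfsg.pCore p G)) := by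
    rw [← Subgroup.relIndex_eq_one]
    refine Nat.eq_one_of_dvd_coprimes ?_
      ((Cores.relIndex_dvd_index_right_normal _ F).trans hidx) (Subgroup.relIndex_dvd_card _ F)
    exact Nat.Coprime.pow_left _ (hp.coprime_iff_not_dvd.2 hpF)
  have hNF : N ≤ Subgroup.centralizer (F : Set (G ⧸ Cfsg.pCore p G)) :=
    Subgroup.normalClosure_le_normal (Set.singleton_subset_iff.2 fun f hf =>
      Subgroup.mem_centralizer_singleton_iff.1 (hFC hf))
  have hNF' : N ≤ F := by
    intro n hn
    refine ⟨⟨n, hn⟩, Cores.centralizer_fittingSubgroup_le (G := N) ?_, rfl⟩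
    exact fun f hf => Subtype.ext (hNF hn f ⟨f, hf, rfl⟩)
  have hmem : ∀ u : G, π (u * x * u⁻¹) ∈ N := fun u => by
    rw [map_mul, map_mul, map_inv]
    exact (inferInstance : N.Normal).conj_mem _ (Subgroup.subset_normalClosure rfl) _
  rw [← QuotientGroup.eq_one_iff]
  show π ⁅g * x * g⁻¹, h * x * h⁻¹⁆ = 1
  rw [map_commutatorElement, commutatorElement_eq_one_iff_mul_comm]
  exact hNF (hmem h) _ (hNF' (hmem g))

end Cfsg.Agent.SolvStruct.Kazarin
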