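import Cfsg.Agent.SolvStruct.SystemNormalizer
import Cfsg.Agent.Solvable.Carter
import Cfsg.Agent.Lib.Cores.Fitting

/-!
Carter subgroups and system normalizers.
-/

set_option autoImplicit false

namespace Cfsg.Agent.SolvStruct.SystemCarter

open Cfsg Cfsg.Agent.Cores Cfsg.Agent.Coprime Cfsg.Agent.Solvable SystemNormalizer
open scoped Pointwise

/-- The complement system `K` reduces into `C`. -/
def Reduces {G : Type*} [Group G] (K : Nat.Primes → Subgroup G) (C : Subgroup G) : Prop :=
  ∀ p : Nat.Primes, ∀ x ∈ C, ¬ (p : ℕ) ∣ orderOf x → x ∈ K p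

variable {G : Type*} [Group G] [Finite G]

theorem exists_reduces [Group.IsSolvable G] {C : Subgroup G} [Group.IsNilpotent C] :
    ∃ K : Nat.Primes → Subgroup G, IsComplementSystem K ∧ Reduces K C := by
  have h : ∀ p : Nat.Primes, ∃ H : Subgroup G, IsPiHall {(p : ℕ)}ᶜ H ∧
      ∀ x ∈ C, ¬ (p : ℕ) ∣ orderOf x → x ∈ H := by
    intro p
    obtain ⟨U, hU⟩ := Hall.exists_hall {(p : ℕ)}ᶜ C
    have hUn := Carter.normal_hall_of_nilpotent hU
    obtain ⟨H, hH, hUH⟩ := Hall.exists_le_hall (IsPi.map hU.1 C.subtype)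
    refine ⟨H, hH, fun x hx hord => hUH ⟨⟨x, hx⟩, ?_, rfl⟩⟩
    refine mem_of_normalizing hU ?_ (by rwa [← Subgroup.orderOf_coe])
    rw [Subgroup.normalizer_eq_top_iff.2 hUn]
    trivial
  choose K hK hK' using h
  exact ⟨K, isComplementSystem_iff.2 hK, hK'⟩

theorem not_dvd_relIndex {K : Nat.Primes → Subgroup G} {C : Subgroup G} (h : Reduces K C)
    (p : Nat.Primes) {r : ℕ} (hr : r.Prime) (hne : r ≠ (p : ℕ)) :
    ¬ r ∣ (K p).relIndex C := by
  haveI := Fact.mk hr
  obtain ⟨S⟩ := (inferInstance : Nonempty (Sylow r C))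
  have hle : (S : Subgroup C) ≤ (K p).subgroupOf C := fun x hx => by
    refine Subgroup.mem_subgroupOf.2 (h p x x.2 fun hd => ?_)
    obtain ⟨k, hk⟩ := S.2 ⟨x, hx⟩
    have h1 : orderOf (x : G) ∣ r ^ k := by
      rw [Subgroup.orderOf_coe]
      exact orderOf_dvd_of_pow_eq_one (congrArg Subtype.val hk)
    exact hne ((Nat.prime_dvd_prime_iff_eq p.2 hr).1 (p.2.dvd_of_dvd_pow (hd.trans h1))).symm
  exact fun hd => S.not_dvd_index (hd.trans (Subgroup.index_dvd_of_le hle))

theorem isCarter_map [Group.IsSolvable G] {C : Subgroup G} (hC : Carter.IsCarter C)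
    (N : Subgroup G) [N.Normal] : Carter.IsCarter (C.map (QuotientGroup.mk' N)) := by
  refine ⟨haveI := hC.1;
    Group.nilpotent_of_surjective ((QuotientGroup.mk' N).subgroupMap C)
      ((QuotientGroup.mk' N).subgroupMap_surjective C), ?_⟩
  refine Subgroup.comap_injective (QuotientGroup.mk'_surjective N) ?_
  rw [Subgroup.comap_normalizer_eq_of_surjective _ (QuotientGroup.mk'_surjective N),
    Subgroup.comap_map_eq, QuotientGroup.ker_mk']
  refine le_antisymm (fun x hx => ?_) Subgroup.le_normalizer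
  set L := C ⊔ N
  have hCL : C ≤ L := le_sup_left
  have hxL : MulAut.conj x • C ≤ L := by
    rw [← conj_smul_eq_self_iff.mpr hx]
    exact Subgroup.pointwise_smul_le_pointwise_smul_iff.mpr hCL
  obtain ⟨g, hg⟩ := (Carter.carter_aux _ L rfl).2 _ _ (Carter.isCarter_subgroupOf hC hCL)
    (Carter.isCarter_subgroupOf (Carter.isCarter_conj hC x) hxL)
  have h1 := congrArg (Subgroup.map L.subtype) hg
  rw [map_conj_smul, Subgroup.map_subgroupOf_eq_of_le hCL,
    Subgroup.map_subgroupOf_eq_of_le hxL] at h1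
  have h2 : (g : G)⁻¹ * x ∈ C := by
    rw [← hC.2]
    refine conj_smul_eq_self_iff.mp ?_
    rw [conj_smul_mul, ← h1]
    exact conj_inv_smul_smul _ _
  have h3 := mul_mem g.2 (hCL h2)
  rwa [mul_inv_cancel_left] at h3

theorem reduces_map {K : Nat.Primes → Subgroup G} {C : Subgroup G} (h : Reduces K C)
    (N : Subgroup G) [N.Normal] :
    Reduces (fun p => (K p).map (QuotientGroup.mk' N)) (C.map (QuotientGroup.mk' N)) := by
  rintro p _ ⟨x, hx, rfl⟩ hord
  obtain ⟨e, m, hm, hn⟩ := Nat.exists_eq_pow_mul_and_not_dvd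
    (orderOf_pos x).ne' (p : ℕ) p.2.ne_one
  have h1 : x ^ (p : ℕ) ^ e ∈ K p := by
    refine h p _ (pow_mem hx _) fun hd => hm (hd.trans ?_)
    refine orderOf_dvd_of_pow_eq_one ?_
    rw [← pow_mul, ← hn, pow_orderOf_eq_one]
  obtain ⟨j, hj⟩ := exists_pow_eq_self_of_coprime (x := QuotientGroup.mk' N x)
    (n := (p : ℕ) ^ e) (Nat.Coprime.pow_left e ((p.2.coprime_iff_not_dvd).2 hord))
  exact ⟨(x ^ (p : ℕ) ^ e) ^ j, pow_mem h1 j, by rw [map_pow, map_pow, hj]⟩

/-- If a complement system reduces into a Carter subgroup, its system normalizer lies in it. -/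
theorem systemNormalizer_le_carter : ∀ (n : ℕ) (G : Type*) [Group G] [Finite G]
    [Group.IsSolvable G], Nat.card G = n → ∀ (K : Nat.Primes → Subgroup G) (C : Subgroup G),
      IsComplementSystem K → Carter.IsCarter C → Reduces K C → systemNormalizer K ≤ C := by
  intro n
  induction n using Nat.strongRecOn with
  | ind n ih =>
  intro G _ _ _ hn K C hK hC hred
  rcases subsingleton_or_nontrivial G with hs | hnt
  · intro x _
    rw [Subsingleton.elim x 1]
    exact one_mem C
  obtain ⟨M, hMn, -, hM, hMmin⟩ := Hall.exists_minimal_normal (⊤ : Subgroup G) top_ne_bot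
  obtain ⟨q, hq, -, hMq, -⟩ := Hall.minimal_normal_isElementaryAbelian hM hMmin
  haveI : Fact q.Prime := ⟨hq⟩
  set f := QuotientGroup.mk' M with hf
  have hlt : Nat.card (G ⧸ M) < n := by
    rw [← hn, M.card_eq_card_quotient_mul_card_subgroup]
    exact lt_mul_of_one_lt_right Nat.card_pos (M.one_lt_card_iff_ne_bot.2 hM)
  have hq' := ih _ hlt (G ⧸ M) rfl _ _ (isComplementSystem_map hK M) (isCarter_map hC M)
    (reduces_map hred M)
  rw [systemNormalizer_map hK M] at hq'
  set L := C ⊔ M
  have hCL : C ≤ L := le_sup_left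
  have hDL : systemNormalizer K ≤ L := by
    refine (Subgroup.le_comap_map f _).trans ((Subgroup.comap_mono hq').trans (le_of_eq ?_))
    rw [Subgroup.comap_map_eq, QuotientGroup.ker_mk']
  have hH := isComplementSystem_iff.1 hK
  have hCM : C.relIndex L ∣ Nat.card M := by
    refine ⟨Nat.card ↥(C ⊓ M), ?_⟩
    have h1 := card_sup_mul_card_inf C M
    have h2 := Subgroup.relIndex_mul_relIndex ⊥ C L bot_le hCL
    rw [Subgroup.relIndex_bot_left, Subgroup.relIndex_bot_left] at h2
    rw [← h2, mul_assoc] at h1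
    exact (Nat.eq_of_mul_eq_mul_left Nat.card_pos h1).symm
  by_cases hL : L = ⊤
  · -- `G / M` is nilpotent and `C` normalizes no less than the Hall `q'`-subgroup
    haveI : Group.IsNilpotent (G ⧸ M) := by
      haveI := (isCarter_map hC M).1
      have htop : C.map f = ⊤ := by
        refine Subgroup.comap_injective (QuotientGroup.mk'_surjective M) ?_
        rw [Subgroup.comap_map_eq, QuotientGroup.ker_mk']
        exact hL
      rw [htop] at this
      exact Group.nilpotent_of_mulEquiv Subgroup.topEquiv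
    let Q : Nat.Primes := ⟨q, hq⟩
    haveI := hC.1
    set U := (K Q).subgroupOf C with hU
    have hidx : C.index ∣ Nat.card M := by
      rw [← Subgroup.relIndex_top_right, ← hL]
      exact hCM
    have hle : K Q ≤ C := by
      have h2 : IsPiHall {q}ᶜ (K Q ⊓ C) := by
        refine ⟨IsPi.to_le (hH Q).1 inf_le_left, fun r hr hrq hd => ?_⟩
        rw [← Subgroup.relIndex_mul_index (inf_le_right : K Q ⊓ C ≤ C),
          Subgroup.inf_relIndex_right] at hd
        rcases hr.dvd_mul.1 hd with h1 | h1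
        · exact not_dvd_relIndex hred Q hr hrq h1
        · exact hrq ((isPi_iff_isPGroup M).2 hMq r hr (h1.trans hidx))
      rw [← Hall.isPiHall_eq_of_le h2 (hH Q).1 inf_le_left]
      exact inf_le_right
    have hUh : IsPiHall {q}ᶜ U := ⟨IsPi.subgroupOf (hH Q).1 C, fun r hr hrq hd =>
      (hH Q).2 r hr hrq (hd.trans (Subgroup.relIndex_dvd_index_of_le hle))⟩
    have hCN : C ≤ Subgroup.normalizer (K Q : Set G) :=
      (Subgroup.normal_subgroupOf_iff_le_normalizer hle).1 (Carter.normal_hall_of_nilpotent hUh)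
    have hnil := Carter.nilpotent_normalizer_hall (p := q) hq hMq (H := K Q) (hH Q)
    rw [Carter.eq_of_le_nilpotent hnil hCN hC.2]
    exact systemNormalizer_le_normalizer K Q
  -- recursion inside `L`
  have hlt' : Nat.card L < n := hn ▸ lt_of_le_of_ne (Subgroup.card_le_card_group L)
    (fun h => hL (Subgroup.eq_top_of_card_eq L h))
  have hK' : IsComplementSystem (fun p => (K p).subgroupOf L) := by
    refine isComplementSystem_iff.2 fun p => ⟨IsPi.subgroupOf (hH p).1 L, fun r hr hrp hd => ?_⟩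
    have h0 := not_dvd_relIndex hred p hr hrp
    by_cases hqp : q = (p : ℕ)
    · have h1 : (K p).relIndex L ∣ (K p).relIndex C * C.relIndex L := by
        rw [← Subgroup.inf_relIndex_right (K p) C,
          Subgroup.relIndex_mul_relIndex _ _ _ inf_le_right hCL]
        exact Subgroup.relIndex_dvd_of_le_left L inf_le_left
      rcases hr.dvd_mul.1 (hd.trans h1) with h2 | h2
      · exact h0 h2
      · have h3 := (isPi_iff_isPGroup M).2 hMq r hr (h2.trans hCM)
        exact hrp (Set.mem_singleton_iff.2 (by rw [Set.mem_singleton_iff.1 h3, hqp]))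
    · have hMK : M ≤ K p := le_hall_of_normal (hH p) fun s hs hd' => by
        rw [Set.mem_singleton_iff.1 ((isPi_iff_isPGroup M).2 hMq s hs hd')]
        exact hqp
      have hmap : ∀ T : Subgroup G, ((K p).map f).relIndex (T.map f) = (K p).relIndex T :=
        fun T => by
          rw [← Subgroup.relIndex_comap, Subgroup.comap_map_eq, QuotientGroup.ker_mk',
            sup_eq_left.2 hMK]
      refine h0 ?_
      rw [← hmap C]
      have h4 : L.map f = C.map f := by
        rw [Subgroup.map_sup, hf, QuotientGroup.map_mk'_self, sup_bot_eq]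
      rw [← h4, hmap L]
      exact hd
  have hred' : Reduces (fun p => (K p).subgroupOf L) (C.subgroupOf L) := fun p x hx hord =>
    Subgroup.mem_subgroupOf.2 (hred p x hx (by rwa [Subgroup.orderOf_coe]))
  have h1 := ih _ hlt' L rfl _ _ hK' (Carter.isCarter_subgroupOf hC hCL) hred'
  intro d hd
  have h2 : (⟨d, hDL hd⟩ : L) ∈ systemNormalizer (fun p => (K p).subgroupOf L) := by
    simp only [systemNormalizer, Subgroup.mem_iInf]
    intro p
    refine Subgroup.mem_normalizer_iff.2 fun y => ?_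
    simp only [Subgroup.mem_subgroupOf, Subgroup.coe_mul, Subgroup.coe_inv]
    exact Subgroup.mem_normalizer_iff.1 (systemNormalizer_le_normalizer K p hd) y
  exact Subgroup.mem_subgroupOf.1 (h1 h2)

theorem exists_system_le_carter [Group.IsSolvable G] {C : Subgroup G}
    (hC : IsCarterSubgroup C) :
    ∃ K : Nat.Primes → Subgroup G, IsComplementSystem K ∧ Reduces K C ∧
      systemNormalizer K ≤ C := by
  haveI := hC.1
  obtain ⟨K, hK, hred⟩ := exists_reduces (C := C)
  exact ⟨K, hK, hred, systemNormalizer_le_carter _ G rfl K C hK hC hred⟩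

theorem exists_carter_ge [Group.IsSolvable G] {K : Nat.Primes → Subgroup G}
    (hK : IsComplementSystem K) :
    ∃ C : Subgroup G, IsCarterSubgroup C ∧ systemNormalizer K ≤ C := by
  obtain ⟨C, hC⟩ := (Carter.carter_aux _ G rfl).1
  obtain ⟨K₀, hK₀, -, hle⟩ := exists_system_le_carter hC
  obtain ⟨g, hg⟩ := exists_conj_eq hK₀ hK
  refine ⟨MulAut.conj g • C, Carter.isCarter_conj hC g, ?_⟩
  rw [systemNormalizer_conj hg]
  exact Subgroup.pointwise_smul_le_pointwise_smul_iff.2 hle

theorem carter_le_systemNormalizer [Group.IsSolvable G] {F : Subgroup G} [F.Normal]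
    (hF : Group.IsNilpotent F) (hGF : Group.IsNilpotent (G ⧸ F)) {C : Subgroup G}
    (hC : IsCarterSubgroup C) {K : Nat.Primes → Subgroup G} (hK : IsComplementSystem K)
    (hred : Reduces K C) : C ≤ systemNormalizer K := by
  haveI := hC.1
  have hCF : C ⊔ F = ⊤ := by
    have h1 : C.map (QuotientGroup.mk' F) = ⊤ := Carter.eq_of_le_nilpotent
      (Group.nilpotent_of_mulEquiv Subgroup.topEquiv.symm) le_top (isCarter_map hC F).2
    have h2 := congrArg (Subgroup.comap (QuotientGroup.mk' F)) h1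
    rwa [Subgroup.comap_map_eq, QuotientGroup.ker_mk', Subgroup.comap_top] at h2
  have hH := isComplementSystem_iff.1 hK
  refine le_iInf fun p => ?_
  haveI := Fact.mk p.2
  set F' : Subgroup G := (pPrimeCore (p : ℕ) F).map F.subtype with hF'
  haveI : (pPrimeCore (p : ℕ) F).Characteristic := by
    rw [Subgroup.characteristic_iff_map_eq]
    exact fun e => map_pPrimeCore_eq e _
  haveI hF'n : F'.Normal := normal_map_subtype F _
  have hF'pi : IsPi {(p : ℕ)}ᶜ F' :=
    IsPi.map ((isPi_iff_coprime _ _).2 (pPrimeCore_card_coprime _)) F.subtype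
  have hF'F : F' ≤ F := Subgroup.map_subtype_le _
  have hFidx : ∀ r : ℕ, r.Prime → r ≠ (p : ℕ) → ¬ r ∣ F'.relIndex F := by
    intro r hr hne hd
    obtain ⟨U, hU⟩ := Hall.exists_hall {(p : ℕ)}ᶜ F
    haveI := Carter.normal_hall_of_nilpotent hU
    have h1 : U ≤ pPrimeCore (p : ℕ) F := le_pPrimeCore ((isPi_iff_coprime _ _).1 hU.1)
    refine hU.2 r hr hne (hd.trans ?_)
    rw [hF', Subgroup.relIndex, Subgroup.subgroupOf,
      Subgroup.comap_map_eq_self_of_injective F.subtype_injective]
    exact Subgroup.index_dvd_of_le h1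
  set U : Subgroup G := K p ⊓ C with hUdef
  set V : Subgroup G := C ⊔ F'
  have hW : IsPiHall {(p : ℕ)}ᶜ (U ⊔ F') := by
    refine ⟨IsPi.sup (IsPi.to_le (hH p).1 inf_le_left) hF'pi, fun r hr hne hd => ?_⟩
    rw [← Subgroup.relIndex_mul_index (sup_le_sup_right inf_le_right F' : U ⊔ F' ≤ V)] at hd
    rcases hr.dvd_mul.1 hd with h1 | h1
    · refine not_dvd_relIndex hred p hr hne ?_
      have hmap : ∀ T : Subgroup G, ((U ⊔ F').map (QuotientGroup.mk' F')).relIndex
          (T.map (QuotientGroup.mk' F')) = (U ⊔ F').relIndex T := fun T => by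
        rw [← Subgroup.relIndex_comap, Subgroup.comap_map_eq, QuotientGroup.ker_mk',
          sup_assoc, sup_idem]
      have h4 : V.map (QuotientGroup.mk' F') = C.map (QuotientGroup.mk' F') := by
        rw [Subgroup.map_sup, QuotientGroup.map_mk'_self, sup_bot_eq]
      rw [← hmap V, h4, hmap C] at h1
      rw [← Subgroup.inf_relIndex_right]
      exact h1.trans (Subgroup.relIndex_dvd_of_le_left C le_sup_left)
    · refine hFidx r hr hne (h1.trans ?_)
      have h5 := card_sup_mul_card_inf V F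
      have hVF : V ⊔ F = ⊤ := top_le_iff.1 (hCF ▸ sup_le_sup_right le_sup_left F)
      rw [hVF, Subgroup.card_top, ← V.card_mul_index, mul_assoc] at h5
      have h6 := Nat.eq_of_mul_eq_mul_left Nat.card_pos h5
      have h7 := Subgroup.relIndex_mul_relIndex ⊥ F' F bot_le hF'F
      rw [Subgroup.relIndex_bot_left, Subgroup.relIndex_bot_left] at h7
      obtain ⟨c, hc⟩ := Subgroup.card_dvd_of_le (le_inf le_sup_right hF'F : F' ≤ V ⊓ F)
      refine ⟨c, Nat.eq_of_mul_eq_mul_left (Nat.card_pos (α := F')) ?_⟩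
      rw [h7, ← h6, hc]
      ring
  have hUW : U ⊔ F' ≤ K p := sup_le inf_le_left (le_hall_of_normal (hH p) hF'pi)
  have heq := Hall.isPiHall_eq_of_le hW (hH p).1 hUW
  intro c hc
  rw [← conj_smul_eq_self_iff]
  conv_lhs => rw [← heq]
  have hFc : MulAut.conj c • F' = F' := conj_smul_eq_self_iff.2 (by
    rw [Subgroup.normalizer_eq_top_iff.2 hF'n]; trivial)
  rw [Subgroup.smul_sup, hFc]
  have hUn : C ≤ Subgroup.normalizer (U : Set G) := by
    refine (Subgroup.normal_subgroupOf_iff_le_normalizer inf_le_right).1 ?_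
    refine Carter.normal_hall_of_nilpotent (π := {(p : ℕ)}ᶜ)
      ⟨IsPi.subgroupOf (IsPi.to_le (hH p).1 inf_le_left) C, fun r hr hne hd => ?_⟩
    refine not_dvd_relIndex hred p hr hne ?_
    rwa [← Subgroup.inf_relIndex_right]
  rw [conj_smul_eq_self_iff.2 (hUn hc), heq]

theorem isCarter_iff_systemNormalizer {F : Subgroup G} [F.Normal]
    (hF : Group.IsNilpotent F) (hGF : Group.IsNilpotent (G ⧸ F)) (C : Subgroup G) :
    IsCarterSubgroup C ↔
      ∃ K : Nat.Primes → Subgroup G, IsComplementSystem K ∧ C = systemNormalizer K := by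
  haveI : Group.IsSolvable G :=
    HallOrder.isSolvable_of_quotient (N := F) inferInstance inferInstance
  have key : ∀ C : Subgroup G, IsCarterSubgroup C →
      ∃ K : Nat.Primes → Subgroup G, IsComplementSystem K ∧ C = systemNormalizer K := by
    intro C hC
    obtain ⟨K, hK, hred, hle⟩ := exists_system_le_carter hC
    exact ⟨K, hK, le_antisymm (carter_le_systemNormalizer hF hGF hC hK hred) hle⟩
  refine ⟨key C, ?_⟩
  rintro ⟨K, hK, rfl⟩
  obtain ⟨C₀, hC₀⟩ := (Carter.carter_aux _ G rfl).1
  obtain ⟨K₀, hK₀, he⟩ := key C₀ hC₀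
  obtain ⟨g, hg⟩ := exists_conj_eq hK₀ hK
  rw [systemNormalizer_conj hg, ← he]
  exact Carter.isCarter_conj hC₀ g

end Cfsg.Agent.SolvStruct.SystemCarter
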