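import Cfsg.Agent.S0046
import Cfsg.Agent.Lib.Transfer.NilpotentHall
import Cfsg.Agent.Lib.Hall.MinimalNormal
import Cfsg.Agent.Lib.Coprime.Basic

/-!
Wielandt: a nilpotent Hall `π`-subgroup dominates all `π`-subgroups.
-/

set_option autoImplicit false

namespace Cfsg.Agent.SolvStruct.WielandtHall

open Cfsg Cfsg.Agent.Coprime
open scoped Pointwise

universe u

theorem index_eq_of_card_eq {G : Type*} [Group G] [Finite G] {A B : Subgroup G}
    (h : Nat.card A = Nat.card B) : A.index = B.index := by
  have h1 := A.card_mul_index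
  rw [← B.card_mul_index, h] at h1
  exact Nat.eq_of_mul_eq_mul_left Nat.card_pos h1

theorem le_conj_nilpotent_hall : ∀ (n : ℕ) (G : Type u) [Group G] [Finite G] (H : Subgroup G),
    Nat.card G = n → Group.IsNilpotent H → (Nat.card H).Coprime H.index → ∀ K : Subgroup G,
    (∀ p : ℕ, p.Prime → p ∣ Nat.card K → p ∣ Nat.card H) → ∃ x : G, K ≤ MulAut.conj x • H := by
  intro n
  induction n using Nat.strongRecOn with
  | ind n ih =>
  intro G _ _ H hn hH hHall K
  induction hm : Nat.card K using Nat.strongRecOn generalizing K with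
  | ind m ihm =>
  intro hK
  subst hm
  rcases eq_or_ne K ⊥ with rfl | hK0
  · exact ⟨1, bot_le⟩
  have hnilconj : ∀ x : G, Group.IsNilpotent ↥(MulAut.conj x • H) := fun x =>
    Group.nilpotent_of_mulEquiv (Subgroup.equivSMul (MulAut.conj x) H)
  -- proper subgroups of `K` are nilpotent, so `K` is solvable
  haveI hKs : Group.IsSolvable K := by
    refine S0046.result fun M hM => ?_
    have hlt : Nat.card (M.map K.subtype) < Nat.card K := by
      rw [Subgroup.card_map_of_injective K.subtype_injective]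
      exact lt_of_le_of_ne (Subgroup.card_le_card_group M)
        (fun h => hM.1 (Subgroup.eq_top_of_card_eq M h))
    obtain ⟨x, hx⟩ := ihm _ hlt (M.map K.subtype) rfl fun p hp hd =>
      hK p hp (hd.trans (Subgroup.card_dvd_of_le (Subgroup.map_subtype_le M)))
    haveI := hnilconj x
    haveI : Group.IsNilpotent (M.map K.subtype) :=
      Group.nilpotent_of_mulEquiv (Subgroup.subgroupOfEquivOfLe hx)
    exact Group.nilpotent_of_mulEquiv (M.equivMapOfInjective _ K.subtype_injective).symm
  haveI : Nontrivial K := K.nontrivial_iff_ne_bot.2 hK0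
  obtain ⟨Q₀, hQn, -, hQ0, hmin⟩ := Hall.exists_minimal_normal (⊤ : Subgroup K) top_ne_bot
  obtain ⟨q, hq, hqd, hQq, -⟩ := Hall.minimal_normal_isElementaryAbelian hQ0 hmin
  haveI : Fact q.Prime := ⟨hq⟩
  set Q : Subgroup G := Q₀.map K.subtype with hQdef
  have hQK : Q ≤ K := Subgroup.map_subtype_le _
  have hQ : IsPGroup q Q := hQq.map K.subtype
  have hQne : Q ≠ ⊥ := fun h => hQ0 ((Subgroup.map_eq_bot_iff_of_injective _
    K.subtype_injective).1 h)
  have hqH : q ∣ Nat.card H := hK q hq (hqd.trans Q₀.card_subgroup_dvd_card)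
  set N := Subgroup.normalizer (Q : Set G) with hN
  have hKN : K ≤ N := by
    refine (Subgroup.normal_subgroupOf_iff_le_normalizer hQK).1 ?_
    rw [hQdef, Subgroup.subgroupOf, Subgroup.comap_map_eq_self_of_injective K.subtype_injective]
    exact hQn
  have hQN : Q ≤ N := Subgroup.le_normalizer
  -- choose a conjugate of `H` containing a Sylow subgroup of `N`
  obtain ⟨R₁, hR₁⟩ : ∃ R₁ : Sylow q N, Q.subgroupOf N ≤ R₁ :=
    (hQ.comap_of_injective N.subtype N.subtype_injective).exists_le_sylow
  obtain ⟨R, hR⟩ := (R₁.2.map N.subtype).exists_le_sylow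
  obtain ⟨S⟩ := (inferInstance : Nonempty (Sylow q H))
  obtain ⟨P, hP⟩ := Transfer.NilpotentHall.exists_sylow_map_eq hHall hqH S
  obtain ⟨x, hx⟩ := MulAction.exists_smul_eq G P R
  set H' := MulAut.conj x • H with hH'
  have hcH : Nat.card H' = Nat.card H := card_conj_smul x H
  have hHall' : (Nat.card H').Coprime H'.index := by
    rwa [index_eq_of_card_eq hcH, hcH]
  haveI hH'n : Group.IsNilpotent H' := hnilconj x
  have hRH : (R : Subgroup G) ≤ H' := by
    rw [← hx, Sylow.smul_def, Sylow.pointwise_smul_def, hH', hP]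
    exact Subgroup.pointwise_smul_le_pointwise_smul_iff.2 (Subgroup.map_subtype_le _)
  have hR₁R : (R₁ : Subgroup N).map N.subtype ≤ (R : Subgroup G) := hR
  have hQR : Q ≤ (R : Subgroup G) := by
    rw [← Subgroup.map_subgroupOf_eq_of_le hQN]
    exact (Subgroup.map_mono hR₁).trans hR₁R
  have hidx : ∀ r : ℕ, r.Prime → r ∣ Nat.card H → ¬ r ∣ H'.relIndex N := by
    intro r hr hrd hd
    haveI := Fact.mk hr
    by_cases hrq : r = q
    · subst hrq
      have hle : (R₁ : Subgroup N) ≤ H'.subgroupOf N := fun y hy =>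
        Subgroup.mem_subgroupOf.2 (hRH (hR₁R ⟨y, hy, rfl⟩))
      exact R₁.not_dvd_index (hd.trans (Subgroup.index_dvd_of_le hle))
    · obtain ⟨T⟩ := (inferInstance : Nonempty (Sylow r H'))
      obtain ⟨P', hP'⟩ := Transfer.NilpotentHall.exists_sylow_map_eq hHall' (hcH ▸ hrd) T
      have hTN : (P' : Subgroup G) ≤ H' ⊓ N := by
        rw [hP']
        refine le_inf (Subgroup.map_subtype_le _) ?_
        refine le_trans (fun t ht => ?_) (Subgroup.centralizer_le_normalizer _)
        obtain ⟨t', ht', rfl⟩ := ht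
        refine Subgroup.mem_centralizer_iff.2 fun z hz => ?_
        obtain ⟨U, hU⟩ :=
          ((hQ.comap_of_injective H'.subtype H'.subtype_injective).exists_le_sylow)
        exact congrArg Subtype.val (Subgroup.commute_of_normal_of_disjoint (U : Subgroup H') T
          inferInstance inferInstance (IsPGroup.disjoint_of_ne q r (Ne.symm hrq) _ _ U.2 T.2)
          ⟨z, hRH (hQR hz)⟩ t' (hU hz) ht').eq
      exact P'.not_dvd_index ((hd.trans (dvd_of_eq (Subgroup.inf_relIndex_right H' N).symm)).trans
        ((Subgroup.relIndex_dvd_index_of_le inf_le_right).trans (Subgroup.index_dvd_of_le hTN)))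
  by_cases hNT : N = ⊤
  · haveI hQnG : Q.Normal := Subgroup.normalizer_eq_top_iff.1 hNT
    set f := QuotientGroup.mk' Q
    have hlt : Nat.card (G ⧸ Q) < n := by
      rw [← hn, Q.card_eq_card_quotient_mul_card_subgroup]
      exact lt_mul_of_one_lt_right Nat.card_pos (Q.one_lt_card_iff_ne_bot.2 hQne)
    have hQH : Q ≤ H' := hQR.trans hRH
    have hcm : (H'.map f).comap f = H' := by
      rw [Subgroup.comap_map_eq, QuotientGroup.ker_mk', sup_eq_left.2 hQH]
    have hnil : Group.IsNilpotent (H'.map f) :=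
      Group.nilpotent_of_surjective (f.subgroupMap H') (f.subgroupMap_surjective H')
    obtain ⟨g, hg⟩ := ih _ hlt (G ⧸ Q) (H'.map f) rfl hnil
      ((hHall'.coprime_dvd_left (H'.card_map_dvd f)).coprime_dvd_right
        (H'.index_map_dvd (QuotientGroup.mk'_surjective Q))) (K.map f) fun p hp hd => by
      by_contra hne
      have hd1 : p ∣ (H'.map f).index := by
        have h2 := hd.trans (K.map f).card_subgroup_dvd_card
        rw [← (H'.map f).card_mul_index] at h2
        exact (hp.dvd_mul.1 h2).resolve_left hne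
      exact hp.ne_one (Nat.eq_one_of_dvd_coprimes hHall'
        (hcH ▸ hK p hp (hd.trans (K.card_map_dvd f)))
        (hd1.trans (H'.index_map_dvd (QuotientGroup.mk'_surjective Q))))
    obtain ⟨g, rfl⟩ := QuotientGroup.mk'_surjective Q g
    refine ⟨g * x, fun k hk => ?_⟩
    rw [conj_smul_mul, mem_conj_smul]
    have h1 := hg (Subgroup.mem_map_of_mem f hk)
    rw [mem_conj_smul, ← map_inv, ← map_mul, ← map_mul] at h1
    rw [← hH', ← hcm]
    exact h1
  · have hlt : Nat.card N < n := hn ▸ lt_of_le_of_ne (Subgroup.card_le_card_group N)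
      (fun h => hNT (Subgroup.eq_top_of_card_eq N h))
    have hc : ∀ r : ℕ, r.Prime → r ∣ Nat.card H → r ∣ Nat.card N →
        r ∣ Nat.card (H'.subgroupOf N) := by
      intro r hr hrd hrN
      rw [← (H'.subgroupOf N).card_mul_index] at hrN
      exact (hr.dvd_mul.1 hrN).resolve_right (hidx r hr hrd)
    have hcd : Nat.card (H'.subgroupOf N) ∣ Nat.card H' := by
      rw [← Subgroup.card_map_of_injective N.subtype_injective, Subgroup.subgroupOf_map_subtype]
      exact Subgroup.card_dvd_of_le inf_le_left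
    have hnil : Group.IsNilpotent (H'.subgroupOf N) := by
      haveI : Group.IsNilpotent ↥(H' ⊓ N : Subgroup G) :=
        Group.nilpotent_of_mulEquiv (Subgroup.subgroupOfEquivOfLe inf_le_left)
      refine Group.nilpotent_of_mulEquiv ((MulEquiv.subgroupCongr
        (Subgroup.subgroupOf_map_subtype H' N).symm).trans
          ((H'.subgroupOf N).equivMapOfInjective _ N.subtype_injective).symm)
    obtain ⟨y, hy⟩ := ih _ hlt N (H'.subgroupOf N) rfl hnil
      (Nat.coprime_of_dvd fun r hr hd hd' => hidx r hr (hcH ▸ hd.trans hcd) hd') (K.subgroupOf N)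
      fun p hp hd => by
        refine hc p hp ?_ (hd.trans (Subgroup.card_subgroup_dvd_card _))
        exact hK p hp (by rwa [← Nat.card_congr (Subgroup.subgroupOfEquivOfLe hKN).toEquiv])
    refine ⟨(y : G) * x, fun k hk => ?_⟩
    rw [conj_smul_mul, mem_conj_smul]
    have h1 := hy (show (⟨k, hKN hk⟩ : N) ∈ K.subgroupOf N from hk)
    rw [mem_conj_smul, Subgroup.mem_subgroupOf] at h1
    exact h1

end Cfsg.Agent.SolvStruct.WielandtHall
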