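import Cfsg.Agent.S0046
import Cfsg.Agent.Lib.Cores.Fitting
import Cfsg.Agent.Lib.Coprime.PGroup
import Cfsg.Agent.Lib.Coprime.Basic
import Cfsg.Prelude.Def_SolvableStructure
import Cfsg.Prelude.Def_Transfer

/-!
Minimal non-nilpotent (Schmidt) groups and minimal non-abelian groups.
-/

set_option autoImplicit false

namespace Cfsg.Agent.SolvStruct.Schmidt

open Cfsg Cfsg.Agent.Cores
open scoped Pointwise commutatorElement

variable {G : Type*} [Group G]

theorem isPGroup_zpowers {p k : ℕ} {x : G} (h : x ^ p ^ k = 1) :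
    IsPGroup p (Subgroup.zpowers x) := by
  rintro ⟨z, i, rfl⟩
  refine ⟨k, Subtype.ext ?_⟩
  change (x ^ i) ^ (p ^ k) = 1
  rw [← zpow_natCast, ← zpow_mul, mul_comm, zpow_mul, zpow_natCast, h, one_zpow]

theorem commute_of_nilpotent [Finite G] {T P Q : Subgroup G} [Group.IsNilpotent T] {p q : ℕ}
    [Fact p.Prime] [Fact q.Prime] (hpq : p ≠ q) (hP : IsPGroup p P) (hQ : IsPGroup q Q)
    {x y : G} (hxT : x ∈ T) (hyT : y ∈ T) (hx : x ∈ P) (hy : y ∈ Q) : x * y = y * x := by
  obtain ⟨k, hk⟩ := hP ⟨x, hx⟩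
  obtain ⟨l, hl⟩ := hQ ⟨y, hy⟩
  obtain ⟨S, hS⟩ := (isPGroup_zpowers (x := (⟨x, hxT⟩ : T)) (p := p) (k := k)
    (Subtype.ext (congrArg Subtype.val hk :))).exists_le_sylow
  obtain ⟨U, hU⟩ := (isPGroup_zpowers (x := (⟨y, hyT⟩ : T)) (p := q) (k := l)
    (Subtype.ext (congrArg Subtype.val hl :))).exists_le_sylow
  exact congrArg Subtype.val (Subgroup.commute_of_normal_of_disjoint (S : Subgroup T) U
    inferInstance inferInstance (IsPGroup.disjoint_of_ne p q hpq _ _ S.2 U.2) ⟨x, hxT⟩ ⟨y, hyT⟩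
    (hS (Subgroup.mem_zpowers _)) (hU (Subgroup.mem_zpowers _))).eq

theorem not_normal_of_commute [Finite G] {P Q : Subgroup G}
    (h : P ⊔ Q = ⊤) (hc : ∀ x ∈ P, ∀ y ∈ Q, x * y = y * x) : P.Normal :=
  Subgroup.normalizer_eq_top_iff.1 (top_le_iff.1 (h ▸ sup_le Subgroup.le_normalizer
    ((show Q ≤ Subgroup.centralizer (P : Set G) from
      fun y hy => Subgroup.mem_centralizer_iff.2 fun x hx => hc x hx y hy).trans
        (Subgroup.centralizer_le_normalizer _))))

/-- Schmidt's theorem on the structure of minimal non-nilpotent groups. -/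
theorem schmidt [Finite G] (hG : Cfsg.IsMinimalNonNilpotent G) :
    ∃ p q : ℕ, p.Prime ∧ q.Prime ∧ p ≠ q ∧ ∃ (P : Sylow p G) (Q : Sylow q G),
      IsCyclic P ∧ (Q : Subgroup G).Normal ∧ (P : Subgroup G) ⊔ Q = ⊤ ∧
      ¬ (P : Subgroup G).Normal := by
  obtain ⟨hnn, hprop⟩ := hG
  haveI : Group.IsSolvable G := S0046.result fun M hM => hprop M hM.1
  haveI : Nontrivial G := by
    by_contra h
    rw [not_nontrivial_iff_subsingleton] at h
    exact hnn inferInstance
  have hlt := IsSolvable.commutator_lt_top_of_nontrivial (G := G)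
  obtain ⟨M, hM, hCM⟩ := (eq_top_or_exists_le_coatom (_root_.commutator G)).resolve_left hlt.ne
  haveI hMn : M.Normal := Subgroup.Normal.of_commutator_le G hCM
  haveI := hprop M hM.1
  obtain ⟨p, hp, hidx⟩ : ∃ p : ℕ, p.Prime ∧ M.index = p := by
    haveI : Nontrivial (G ⧸ M) := QuotientGroup.nontrivial_iff.2 hM.1
    obtain ⟨q, hq, hqd⟩ := Nat.exists_prime_and_dvd
      (Finite.one_lt_card (α := G ⧸ M)).ne'
    haveI : Fact q.Prime := ⟨hq⟩
    obtain ⟨z, hz⟩ := exists_prime_orderOf_dvd_card' q hqd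
    set T := (Subgroup.zpowers z).comap (QuotientGroup.mk' M)
    have hMT : M ≤ T := fun m hm => by
      rw [Subgroup.mem_comap, show QuotientGroup.mk' M m = 1 from
        (QuotientGroup.eq_one_iff m).2 hm]
      exact one_mem _
    rcases hM.le_iff.1 hMT with h | h
    · have h1 : Subgroup.zpowers z = ⊤ := by
        rw [← Subgroup.map_comap_eq_self_of_surjective (QuotientGroup.mk'_surjective M)
          (Subgroup.zpowers z)]
        change T.map _ = ⊤
        rw [h, Subgroup.map_top_of_surjective _ (QuotientGroup.mk'_surjective M)]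
      refine ⟨q, hq, ?_⟩
      rw [Subgroup.index_eq_card, ← Subgroup.card_top (G := G ⧸ M), ← h1, Nat.card_zpowers, hz]
    · have h1 : Subgroup.zpowers z = ⊥ := by
        rw [← Subgroup.map_comap_eq_self_of_surjective (QuotientGroup.mk'_surjective M)
          (Subgroup.zpowers z)]
        change T.map _ = ⊥
        rw [h, QuotientGroup.map_mk'_self]
      rw [Subgroup.zpowers_eq_bot] at h1
      rw [h1, orderOf_one] at hz
      exact absurd hz.symm hq.ne_one
  haveI : Fact p.Prime := ⟨hp⟩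
  have hnorm : ∀ q : ℕ, ∀ _ : Fact q.Prime, q ≠ p → ∀ Q : Sylow q G, (Q : Subgroup G).Normal := by
    intro q hq hqp Q
    obtain ⟨S⟩ := (inferInstance : Nonempty (Sylow q M))
    have hS : (S : Subgroup M).Characteristic := S.characteristic_of_normal inferInstance
    haveI hn : ((S : Subgroup M).map M.subtype).Normal := normal_map_subtype M _
    have hidx' : ¬ q ∣ ((S : Subgroup M).map M.subtype).index := by
      rw [Subgroup.index_map_subtype, hidx]
      exact Nat.Prime.not_dvd_mul hq.out S.not_dvd_index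
        fun h => hqp ((Nat.prime_dvd_prime_iff_eq hq.out hp).1 h)
    rw [((S.2.map M.subtype).toSylow hidx').3 Q.2
      (IsPGroup.le_sylow_of_normal (S.2.map M.subtype) Q)]
    exact hn
  obtain ⟨P⟩ := (inferInstance : Nonempty (Sylow p G))
  have hPn : ¬ (P : Subgroup G).Normal := by
    intro hPn
    refine hnn (((Group.isNilpotent_of_finite_tfae (G := G)).out 0 3).mpr ?_)
    intro r hr S
    by_cases hrp : r = p
    · subst hrp
      haveI := hPn
      rw [show (S : Subgroup G) = P from P.3 S.2 (IsPGroup.le_sylow_of_normal P.2 S)]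
      exact hPn
    · exact hnorm r hr hrp S
  obtain ⟨q, hq, hqp, Q, hPQ⟩ : ∃ q : ℕ, ∃ _ : Fact q.Prime, q ≠ p ∧
      ∃ Q : Sylow q G, (P : Subgroup G) ⊔ Q = ⊤ := by
    by_contra hne
    push Not at hne
    refine hPn (Subgroup.normalizer_eq_top_iff.1 (eq_top_of_sylow_le fun r hr _ => ?_))
    haveI hr' : Fact r.Prime := ⟨hr⟩
    by_cases hrp : r = p
    · subst hrp
      exact ⟨P, Subgroup.le_normalizer⟩
    obtain ⟨Q⟩ := (inferInstance : Nonempty (Sylow r G))
    refine ⟨Q, fun y hy => Subgroup.centralizer_le_normalizer _ ?_⟩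
    haveI := hprop _ (hne r hr' hrp Q)
    exact Subgroup.mem_centralizer_iff.2 fun x hx =>
      commute_of_nilpotent (Ne.symm hrp) P.2 Q.2
        (Subgroup.mem_sup_left hx : x ∈ (P : Subgroup G) ⊔ Q) (Subgroup.mem_sup_right hy) hx hy
  haveI hQn := hnorm q hq hqp Q
  refine ⟨p, q, hp, hq.out, Ne.symm hqp, P, Q, ?_, hQn, hPQ, hPn⟩
  -- cyclicity
  have hdis : ∀ T : Subgroup G, T ≤ P → T ⊔ Q = ⊤ → T = P := by
    intro T hT hTQ
    refine le_antisymm hT fun x hx => ?_
    obtain ⟨t, ht, y, hy, rfl⟩ :=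
      Subgroup.mem_sup_of_normal_right.1 (show x ∈ T ⊔ (Q : Subgroup G) from hTQ ▸ trivial)
    have h1 : y ∈ (P : Subgroup G) ⊓ Q :=
      Subgroup.mem_inf.2 ⟨by simpa using mul_mem (inv_mem (hT ht)) hx, hy⟩
    rw [(IsPGroup.disjoint_of_ne p q (Ne.symm hqp) _ _ P.2 Q.2).eq_bot, Subgroup.mem_bot] at h1
    rwa [h1, mul_one]
  by_contra hcyc
  refine hPn (not_normal_of_commute hPQ fun x hx y hy => ?_)
  have hne : Subgroup.zpowers x ⊔ (Q : Subgroup G) ≠ ⊤ := fun h => hcyc (by
    rw [show (P : Subgroup G) = Subgroup.zpowers x from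
      (hdis _ (Subgroup.zpowers_le.2 hx) h).symm]
    infer_instance)
  haveI := hprop _ hne
  exact commute_of_nilpotent (Ne.symm hqp) P.2 Q.2
    (Subgroup.mem_sup_left (Subgroup.mem_zpowers x) : x ∈ Subgroup.zpowers x ⊔ (Q : Subgroup G))
    (Subgroup.mem_sup_right hy) hx hy


theorem isMulCommutative_of_sylow [Finite G] [Group.IsNilpotent G]
    (h : ∀ r : ℕ, r.Prime → ∀ S : Sylow r G, ∀ a ∈ S, ∀ b ∈ S, a * b = b * a) :
    IsMulCommutative G := by
  refine ⟨⟨fun a b => ?_⟩⟩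
  have hcen : Subgroup.center G = ⊤ := by
    refine eq_top_of_sylow_le fun r hr _ => ?_
    haveI hr' : Fact r.Prime := ⟨hr⟩
    obtain ⟨S⟩ := (inferInstance : Nonempty (Sylow r G))
    refine ⟨S, fun x hx => Subgroup.mem_center_iff.2 fun g => ?_⟩
    have htop : Subgroup.centralizer {x} = ⊤ := by
      refine eq_top_of_sylow_le fun t ht _ => ?_
      haveI ht' : Fact t.Prime := ⟨ht⟩
      obtain ⟨T⟩ := (inferInstance : Nonempty (Sylow t G))
      refine ⟨T, fun y hy => Subgroup.mem_centralizer_singleton_iff.2 ?_⟩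
      by_cases hrt : r = t
      · subst hrt
        have hST : (T : Subgroup G) ≤ S := IsPGroup.le_sylow_of_normal T.2 S
        exact h r hr S y (hST hy) x hx
      · exact ((Subgroup.commute_of_normal_of_disjoint (S : Subgroup G) T inferInstance
          inferInstance (IsPGroup.disjoint_of_ne r t hrt _ _ S.2 T.2) x y hx hy).eq).symm
    exact Subgroup.mem_centralizer_singleton_iff.1 (htop ▸ Subgroup.mem_top g)
  exact (Subgroup.mem_center_iff.1 (hcen ▸ Subgroup.mem_top b : b ∈ Subgroup.center G)) a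

theorem quotient_minimal_nonabelian [Finite G] (hG : Cfsg.IsMinimalNonNilpotent G) {q : ℕ}
    [Fact q.Prime] (hq : q ∣ Nat.card G) (Q : Sylow q G) (hQ : (Q : Subgroup G).Normal)
    (D : Subgroup G) [D.Normal]
    (hD : D = (_root_.commutator ↥(Q : Subgroup G)).map (Q : Subgroup G).subtype) :
    ¬ IsMulCommutative (G ⧸ D) ∧
      ∀ K : Subgroup (G ⧸ D), K ≠ ⊤ → IsMulCommutative K := by
  obtain ⟨p, q', hp, hq', hpq, P, Q', hcyc, hQ'n, hPQ, hPn⟩ := schmidt hG
  haveI : Fact p.Prime := ⟨hp⟩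
  haveI : Fact q'.Prime := ⟨hq'⟩
  have hcard : Nat.card G = Nat.card (P : Subgroup G) * Nat.card (Q' : Subgroup G) := by
    have h := card_sup_mul_card_inf (P : Subgroup G) (Q' : Subgroup G)
    rwa [hPQ, (IsPGroup.disjoint_of_ne p q' hpq _ _ P.2 Q'.2).eq_bot, Subgroup.card_top,
      Subgroup.card_bot, mul_one] at h
  have hprimes : ∀ r : ℕ, r.Prime → r ∣ Nat.card G → r = p ∨ r = q' := by
    intro r hr hd
    rw [hcard] at hd
    obtain ⟨a, ha⟩ := IsPGroup.iff_card.1 P.2
    obtain ⟨b, hb⟩ := IsPGroup.iff_card.1 Q'.2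
    rw [ha, hb] at hd
    exact (hr.dvd_mul.1 hd).imp (fun h => (Nat.prime_dvd_prime_iff_eq hr hp).1 (hr.dvd_of_dvd_pow h))
      fun h => (Nat.prime_dvd_prime_iff_eq hr hq').1 (hr.dvd_of_dvd_pow h)
  haveI := hQ
  obtain rfl : q = q' := by
    rcases hprimes q Fact.out hq with rfl | h
    · refine absurd ?_ hPn
      rw [show (P : Subgroup G) = Q from Q.3 P.2 (IsPGroup.le_sylow_of_normal Q.2 P)]
      exact hQ
    · exact h
  have hQQ : (Q' : Subgroup G) = Q := Q.3 Q'.2 (IsPGroup.le_sylow_of_normal Q.2 Q')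
  rw [hQQ] at hPQ
  set f := QuotientGroup.mk' D with hf
  have hDQ : D ≤ (Q : Subgroup G) := hD ▸ Subgroup.map_subtype_le _
  constructor
  · intro hab
    have hc : _root_.commutator G ≤ (P : Subgroup G) ⊔ D := by
      refine le_trans ?_ le_sup_right
      rw [commutator_def, Subgroup.commutator_le]
      intro a _ b _
      rw [← QuotientGroup.eq_one_iff, ← QuotientGroup.mk'_apply, map_commutatorElement,
        commutatorElement_eq_one_iff_mul_comm]
      exact hab.is_comm.comm _ _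
    haveI hTn : ((P : Subgroup G) ⊔ D).Normal := Subgroup.Normal.of_commutator_le G hc
    have hT : (P : Subgroup G) ⊔ D ≠ ⊤ := by
      intro h
      haveI : Group.IsNilpotent ↥(Q : Subgroup G) := Q.2.isNilpotent
      have hQb : (Q : Subgroup G) ≠ ⊥ := Q.ne_bot_of_dvd_card hq
      haveI : Nontrivial ↥(Q : Subgroup G) := (Q : Subgroup G).nontrivial_iff_ne_bot.2 hQb
      refine (IsSolvable.commutator_lt_top_of_nontrivial (G := ↥(Q : Subgroup G))).ne
        (top_le_iff.1 fun y _ => ?_)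
      obtain ⟨x, hx, d, hd, hxd⟩ :=
        Subgroup.mem_sup_of_normal_right.1 (show (y : G) ∈ (P : Subgroup G) ⊔ D from h ▸ trivial)
      have h1 : x ∈ (P : Subgroup G) ⊓ Q := Subgroup.mem_inf.2 ⟨hx, by
        have h2 := mul_mem y.2 (inv_mem (hDQ hd))
        rw [← hxd] at h2
        simpa using h2⟩
      rw [(IsPGroup.disjoint_of_ne p q hpq _ _ P.2 Q.2).eq_bot, Subgroup.mem_bot] at h1
      rw [h1, one_mul] at hxd
      rw [hxd, hD] at hd
      obtain ⟨z, hz, hzy⟩ := hd
      rwa [Subtype.ext hzy] at hz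
    haveI := hG.2 _ hT
    set T := (P : Subgroup G) ⊔ D
    have hPT : (P : Subgroup G) ≤ T := le_sup_left
    let PT : Sylow p T := P.subtype hPT
    haveI : (PT : Subgroup T).Normal := inferInstance
    haveI : (PT : Subgroup T).Characteristic := PT.characteristic_of_normal inferInstance
    refine hPn ?_
    have h2 : (PT : Subgroup T).map T.subtype = P := by
      rw [Sylow.coe_subtype, Subgroup.map_subgroupOf_eq_of_le hPT]
    rw [← h2]
    exact normal_map_subtype T _
  · intro K hK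
    have hH : K.comap f ≠ ⊤ := fun h => hK (by
      rw [← Subgroup.map_comap_eq_self_of_surjective (QuotientGroup.mk'_surjective D) K, ← hf, h,
        Subgroup.map_top_of_surjective _ (QuotientGroup.mk'_surjective D)])
    haveI := hG.2 _ hH
    haveI : Group.IsNilpotent K := by
      haveI : Group.IsNilpotent ↥((K.comap f).map f) :=
        Group.nilpotent_of_surjective (f.subgroupMap (K.comap f)) (f.subgroupMap_surjective _)
      rwa [Subgroup.map_comap_eq_self_of_surjective (QuotientGroup.mk'_surjective D) K] at this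
    refine isMulCommutative_of_sylow fun r hr S a ha b hb => Subtype.ext ?_
    haveI hr' : Fact r.Prime := ⟨hr⟩
    obtain ⟨R, hR⟩ := (S.2.map K.subtype).exists_le_sylow
    have haR : (a : G ⧸ D) ∈ R := hR ⟨a, ha, rfl⟩
    have hbR : (b : G ⧸ D) ∈ R := hR ⟨b, hb, rfl⟩
    by_cases hrd : r ∣ Nat.card G
    · have key : ∀ R₀ : Sylow r G, (∀ u ∈ R₀, ∀ v ∈ R₀, f u * f v = f v * f u) →
          (a : G ⧸ D) * b = b * a := by
        intro R₀ hR₀
        obtain ⟨g, hg⟩ := MulAction.exists_smul_eq (G ⧸ D)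
          (R₀.mapSurjective (QuotientGroup.mk'_surjective D)) R
        rw [← hg] at haR hbR
        obtain ⟨u, hu, hua⟩ := Coprime.mem_conj_smul.1
          (show (a : G ⧸ D) ∈ MulAut.conj g • ((R₀ : Subgroup G).map f) from haR)
        obtain ⟨v, hv, hvb⟩ := Coprime.mem_conj_smul.1
          (show (b : G ⧸ D) ∈ MulAut.conj g • ((R₀ : Subgroup G).map f) from hbR)
        have h3 := hR₀ u hu v hv
        rw [hua, hvb] at h3
        have h4 : g⁻¹ * ((a : G ⧸ D) * b) * g = g⁻¹ * ((b : G ⧸ D) * a) * g := by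
          simp only [mul_assoc, mul_inv_cancel_left] at h3 ⊢
          exact h3
        exact mul_left_cancel (mul_right_cancel h4)
      rcases hprimes r hr hrd with rfl | rfl
      · refine key P fun u hu v hv => ?_
        haveI := hcyc
        rw [← map_mul, ← map_mul]
        exact congrArg f (congrArg Subtype.val
          ((IsCyclic.commGroup (α := (P : Subgroup G))).mul_comm ⟨u, hu⟩ ⟨v, hv⟩))
      · refine key Q fun u hu v hv => ?_
        rw [← commutatorElement_eq_one_iff_mul_comm, ← map_commutatorElement]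
        refine (QuotientGroup.eq_one_iff _).2 ?_
        rw [hD]
        exact ⟨⁅⟨u, hu⟩, ⟨v, hv⟩⁆,
          Subgroup.commutator_mem_commutator (Subgroup.mem_top _) (Subgroup.mem_top _), rfl⟩
    · obtain ⟨k, hk⟩ := R.2 ⟨(a : G ⧸ D), haR⟩
      have h1 : orderOf (a : G ⧸ D) ∣ r ^ k :=
        orderOf_dvd_of_pow_eq_one (congrArg Subtype.val hk :)
      have h2 : orderOf (a : G ⧸ D) = 1 := by
        obtain ⟨j, -, hj⟩ := (Nat.dvd_prime_pow hr).1 h1
        rcases Nat.eq_zero_or_pos j with rfl | hj0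
        · simpa using hj
        · exact absurd ((dvd_pow_self r hj0.ne').trans
            (hj ▸ (orderOf_dvd_natCard _).trans (Subgroup.card_quotient_dvd_card D))) hrd
      rw [orderOf_eq_one_iff] at h2
      rw [Subgroup.coe_mul, Subgroup.coe_mul, h2, one_mul, mul_one]

/-- Minimal non-abelian groups. -/
theorem minimal_nonabelian [Finite G] (hna : ¬ IsMulCommutative G)
    (h : ∀ H : Subgroup G, H ≠ ⊤ → IsMulCommutative H) :
    (∃ p : ℕ, p.Prime ∧ IsPGroup p G) ∨
      ∃ p q : ℕ, p.Prime ∧ q.Prime ∧ p ≠ q ∧ ∃ (P : Sylow p G) (Q : Sylow q G),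
        IsCyclic P ∧ (Q : Subgroup G).Normal ∧
        Cfsg.IsElementaryAbelian q (Q : Subgroup G) ∧ (P : Subgroup G) ⊔ Q = ⊤ := by
  by_cases hnil : Group.IsNilpotent G
  · left
    by_contra hne
    push Not at hne
    refine hna (isMulCommutative_of_sylow fun r hr S a ha b hb => ?_)
    have hS : (S : Subgroup G) ≠ ⊤ := fun ht => hne r hr (by
      have h1 := S.2
      rw [ht] at h1
      exact h1.of_equiv Subgroup.topEquiv)
    exact congrArg Subtype.val ((h _ hS).is_comm.comm ⟨a, ha⟩ ⟨b, hb⟩)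
  right
  obtain ⟨p, q, hp, hq, hpq, P, Q, hc, hQn, hPQ, hPn⟩ :=
    schmidt ⟨hnil, fun H hH => by
      haveI := h H hH
      exact ⟨⟨1, by
        rw [Subgroup.upperCentralSeries_one, eq_top_iff]
        exact fun a _ => Subgroup.mem_center_iff.2 fun b => (h H hH).is_comm.comm b a⟩⟩⟩
  haveI : Fact p.Prime := ⟨hp⟩
  haveI : Fact q.Prime := ⟨hq⟩
  refine ⟨p, q, hp, hq, hpq, P, Q, hc, hQn, ?_, hPQ⟩
  have hQtop : (Q : Subgroup G) ≠ ⊤ := fun ht => hnil (by
    have h1 := Q.2
    rw [ht] at h1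
    exact (h1.of_equiv Subgroup.topEquiv).isNilpotent)
  have hQc := h _ hQtop
  refine ⟨hQc, ?_⟩
  have hcm : ∀ a ∈ (Q : Subgroup G), ∀ b ∈ (Q : Subgroup G), a * b = b * a := fun a ha b hb =>
    congrArg Subtype.val (hQc.is_comm.comm ⟨a, ha⟩ ⟨b, hb⟩)
  let Q₀ : Subgroup G :=
    { carrier := {a | a ∈ (Q : Subgroup G) ∧ a ^ q = 1}
      one_mem' := ⟨one_mem _, one_pow _⟩
      mul_mem' := fun {a b} ha hb => ⟨mul_mem ha.1 hb.1, by
        have hab : Commute a b := hcm a ha.1 b hb.1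
        rw [hab.mul_pow, ha.2, hb.2, one_mul]⟩
      inv_mem' := fun {a} ha => ⟨inv_mem ha.1, by rw [inv_pow, ha.2, inv_one]⟩ }
  haveI hQ₀n : Q₀.Normal :=
    ⟨fun a ha g => ⟨hQn.conj_mem a ha.1 g, by rw [conj_pow, ha.2, mul_one, mul_inv_cancel]⟩⟩
  by_contra hne
  push Not at hne
  obtain ⟨w, hw, hw1⟩ := hne
  have hT : (P : Subgroup G) ⊔ Q₀ ≠ ⊤ := by
    intro ht
    obtain ⟨x, hx, d, hd, rfl⟩ :=
      Subgroup.mem_sup_of_normal_right.1 (show w ∈ (P : Subgroup G) ⊔ Q₀ from ht ▸ trivial)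
    have h1 : x ∈ (P : Subgroup G) ⊓ Q :=
      Subgroup.mem_inf.2 ⟨hx, by simpa using mul_mem hw (inv_mem hd.1)⟩
    rw [(IsPGroup.disjoint_of_ne p q hpq _ _ P.2 Q.2).eq_bot, Subgroup.mem_bot] at h1
    rw [h1, one_mul] at hw1
    exact hw1 hd.2
  have hTc : ∀ x ∈ (P : Subgroup G), ∀ c ∈ Q₀, x * c = c * x := fun x hx c hcQ =>
    congrArg Subtype.val
      ((h _ hT).is_comm.comm ⟨x, Subgroup.mem_sup_left hx⟩ ⟨c, Subgroup.mem_sup_right hcQ⟩)
  refine hPn (not_normal_of_commute hPQ fun x hx y hy => ?_)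
  suffices hmain : ∀ l : ℕ, ∀ y ∈ (Q : Subgroup G), y ^ q ^ l = 1 → x * y = y * x by
    obtain ⟨l, hl⟩ := Q.2 ⟨y, hy⟩
    exact hmain l y hy (congrArg Subtype.val hl :)
  intro l
  induction l with
  | zero =>
    intro y _ hy1
    rw [pow_zero, pow_one] at hy1
    rw [hy1, mul_one, one_mul]
  | succ l ih =>
    intro y hy hyl
    have h1 : x * y ^ q = y ^ q * x := ih (y ^ q) (pow_mem hy q) (by rw [← pow_mul, ← pow_succ', hyl])
    set c := x * y * x⁻¹ * y⁻¹
    have hcy : x * y * x⁻¹ ∈ (Q : Subgroup G) := hQn.conj_mem y hy x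
    have hc0 : c ∈ Q₀ := by
      refine ⟨mul_mem hcy (inv_mem hy), ?_⟩
      have h2 : Commute (x * y * x⁻¹) y⁻¹ := hcm _ hcy _ (inv_mem hy)
      rw [h2.mul_pow, conj_pow, h1, mul_inv_cancel_right, inv_pow, mul_inv_cancel]
    have hk : ∀ k : ℕ, x ^ k * y * (x ^ k)⁻¹ = c ^ k * y := by
      intro k
      induction k with
      | zero => simp
      | succ k ihk =>
        have h3 : x * c ^ k = c ^ k * x := hTc x hx _ (pow_mem hc0 k)
        calc x ^ (k + 1) * y * (x ^ (k + 1))⁻¹ = x * (x ^ k * y * (x ^ k)⁻¹) * x⁻¹ := by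
              rw [pow_succ', mul_inv_rev]; simp only [mul_assoc]
          _ = c ^ k * (x * y * x⁻¹) := by
              rw [ihk, ← mul_assoc x, h3]; simp only [mul_assoc]
          _ = c ^ (k + 1) * y := by
              rw [pow_succ, mul_assoc]; simp [c, mul_assoc]
    obtain ⟨a, ha⟩ := P.2 ⟨x, hx⟩
    have hxa : x ^ p ^ a = 1 := congrArg Subtype.val ha
    have h4 := hk (p ^ a)
    rw [hxa, one_mul, inv_one, mul_one] at h4
    have h5 : c ^ p ^ a = 1 := right_eq_mul.1 h4
    have h6 : c = 1 := by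
      have h7 : (q : ℕ).Coprime (p ^ a) :=
        Nat.Coprime.pow_right _ ((Nat.coprime_primes hq hp).2 (Ne.symm hpq))
      have h8 : orderOf c ∣ Nat.gcd q (p ^ a) :=
        Nat.dvd_gcd (orderOf_dvd_of_pow_eq_one hc0.2) (orderOf_dvd_of_pow_eq_one h5)
      rw [h7.gcd_eq_one, Nat.dvd_one, orderOf_eq_one_iff] at h8
      exact h8
    exact mul_inv_eq_iff_eq_mul.1 (mul_inv_eq_one.1 h6)

end Cfsg.Agent.SolvStruct.Schmidt

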