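import Mathlib

/-!
Private helpers of the structure-of-solvable-groups block.
-/

set_option autoImplicit false

open scoped commutatorElement

namespace Cfsg.Agent.SolvStruct

variable {G : Type*} [Group G]

theorem mulAut_commute_of_isCyclic {N : Type*} [Group N] [IsCyclic N] (φ ψ : MulAut N) :
    φ * ψ = ψ * φ := by
  obtain ⟨g, hg⟩ := IsCyclic.exists_zpow_surjective (G := N)
  obtain ⟨a, ha⟩ := hg (φ g)
  obtain ⟨b, hb⟩ := hg (ψ g)
  refine MulEquiv.ext fun x => ?_
  obtain ⟨k, rfl⟩ := hg x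
  simp only [MulAut.mul_apply, map_zpow] at ha hb ⊢
  rw [← hb, map_zpow, ← ha, map_zpow, ← hb, ← zpow_mul, ← zpow_mul]
  simp only [← zpow_mul]
  ring_nf

/-- The derived subgroup centralises every cyclic normal subgroup. -/
theorem commutator_le_centralizer_of_isCyclic (N : Subgroup G) [N.Normal] [IsCyclic N] :
    commutator G ≤ Subgroup.centralizer (N : Set G) := by
  rw [commutator_def, Subgroup.commutator_le]
  intro g _ h _ x hx
  have hc : ∀ a b : G, MulAut.conjNormal (H := N) (a * b) = MulAut.conjNormal (b * a) := by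
    intro a b
    rw [map_mul, map_mul, mulAut_commute_of_isCyclic]
  have h1 : MulAut.conjNormal (H := N) ⁅g, h⁆ = 1 := by
    rw [commutatorElement_def, map_mul, map_mul, map_mul, map_inv, map_inv,
      mulAut_commute_of_isCyclic (MulAut.conjNormal g) (MulAut.conjNormal h)]
    group
  have h2 := congrArg (fun φ : MulAut N => ((φ ⟨x, hx⟩ : N) : G)) h1
  simp only [MulAut.conjNormal_apply, MulAut.one_apply] at h2
  rw [mul_inv_eq_iff_eq_mul] at h2
  exact h2.symm

/-- A generator of a subgroup modulo a normal subgroup with cyclic quotient. -/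
theorem exists_gen_of_isCyclic_quotient {A B : Subgroup G} [(B.subgroupOf A).Normal]
    (h : IsCyclic (A ⧸ B.subgroupOf A)) :
    ∃ a ∈ A, ∀ x ∈ A, ∃ n : ℤ, (a ^ n)⁻¹ * x ∈ B := by
  obtain ⟨z, hz⟩ := h.exists_zpow_surjective
  obtain ⟨a, rfl⟩ := QuotientGroup.mk_surjective z
  refine ⟨a, a.2, fun x hx => ?_⟩
  obtain ⟨n, hn⟩ := hz (⟨x, hx⟩ : A)
  change (a : A ⧸ B.subgroupOf A) ^ n = _ at hn
  rw [← QuotientGroup.mk_zpow, QuotientGroup.eq, Subgroup.mem_subgroupOf] at hn
  exact ⟨n, by simpa using hn⟩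

/-- Subgroups are preserved by conjugation as soon as one inclusion holds for all elements. -/
theorem le_normalizer_of_conj_mem {H K : Subgroup G}
    (h : ∀ g ∈ H, ∀ x ∈ K, g * x * g⁻¹ ∈ K) : H ≤ Subgroup.normalizer (K : Set G) := by
  intro g hg
  rw [Subgroup.mem_normalizer_iff]
  refine fun x => ⟨fun hx => h g hg x hx, fun hx => ?_⟩
  have h1 := h g⁻¹ (H.inv_mem hg) _ hx
  simpa [mul_assoc] using h1

end Cfsg.Agent.SolvStruct
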