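import Cfsg.Agent.Lib.Characters.Burnside

/-!
At most two prime divisors force solvability.
-/

set_option autoImplicit false

namespace Cfsg.Agent.SolvStruct

theorem isSolvable_of_primeFactors_card_le_two {G : Type*} [Group G] [Finite G]
    (hc : (Nat.card G).primeFactors.card ≤ 2) : Group.IsSolvable G := by
  obtain ⟨p, q, hp, hq, hne, hsub⟩ : ∃ p q : ℕ, p.Prime ∧ q.Prime ∧ p ≠ q ∧
      (Nat.card G).primeFactors ⊆ {p, q} := by
    obtain ⟨s, hs, hsc, hsp⟩ : ∃ s : Finset ℕ, (Nat.card G).primeFactors ⊆ s ∧ s.card = 2 ∧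
        ∀ p ∈ s, p.Prime := by
      rcases Nat.lt_or_ge (Nat.card G).primeFactors.card 2 with hlt | hge
      · rcases Nat.eq_zero_or_pos (Nat.card G).primeFactors.card with h0 | h0
        · exact ⟨{2, 3}, by simp [Finset.card_eq_zero.mp h0], rfl, by
            simp [Nat.prime_two, Nat.prime_three]⟩
        · obtain ⟨a, ha⟩ :=
            Finset.card_eq_one.mp (by omega : (Nat.card G).primeFactors.card = 1)
          have hap : a.Prime := Nat.prime_of_mem_primeFactors (ha ▸ Finset.mem_singleton_self a)
          by_cases h2 : a = 2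
          · exact ⟨{2, 3}, by simp [ha, h2], rfl, by simp [Nat.prime_two, Nat.prime_three]⟩
          · exact ⟨{a, 2}, by simp [ha], Finset.card_pair h2, by simp [hap, Nat.prime_two]⟩
      · exact ⟨_, subset_rfl, le_antisymm hc hge, fun p hp => Nat.prime_of_mem_primeFactors hp⟩
    obtain ⟨a, b, hab, rfl⟩ := Finset.card_eq_two.mp hsc
    exact ⟨a, b, hsp a (by simp), hsp b (by simp), hab, hs⟩
  refine Cfsg.Agent.Characters.burnside_pa_qb hp hq (a := (Nat.card G).factorization p)
    (b := (Nat.card G).factorization q) ?_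
  conv_lhs => rw [← Nat.prod_factorization_pow_eq_self (Nat.card_pos (α := G)).ne']
  rw [Finsupp.prod, Nat.support_factorization, Finset.prod_subset hsub fun x _ hx => by
    rw [← Nat.support_factorization, Finsupp.notMem_support_iff] at hx
    rw [hx, pow_zero], Finset.prod_pair hne]

end Cfsg.Agent.SolvStruct
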