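import Cfsg.Agent.InvChar.Extraspecial
import Cfsg.Agent.Lib.PGroups.Extraspecial
import Cfsg.Agent.Lib.PGroups.UniqueSubgroup

/-!
# Extraspecial 2-groups are determined by their order and number of involutions
-/

set_option autoImplicit false

namespace Cfsg.Agent.SolvStruct.ExtraspecialTwo

universe u v

/-- A central element of order two containing all squares and commutators, generating the centre. -/
structure Good (E : Type*) [Group E] (z : E) : Prop where
  ne_one : z ≠ 1
  sq : z * z = 1
  center : ∀ w : E, w ∈ Subgroup.center E ↔ w = 1 ∨ w = z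
  comm : ∀ x y : E, x * y = y * x ∨ x * y = z * (y * x)
  squares : ∀ x : E, x * x = 1 ∨ x * x = z

theorem good_of_isExtraspecial {E : Type*} [Group E] [Finite E] (hE : Cfsg.IsExtraspecial 2 E) :
    ∃ z : E, Good E z := by
  haveI : Fact (Nat.Prime 2) := ⟨Nat.prime_two⟩
  haveI : Nontrivial (Subgroup.center E) := Finite.one_lt_card_iff_nontrivial.1 (by rw [hE.2]; norm_num)
  obtain ⟨⟨z, hz⟩, hz1⟩ := exists_ne (1 : Subgroup.center E)
  have hz1' : z ≠ 1 := fun e => hz1 (Subtype.ext e)
  obtain ⟨hall, hzz, hcomm, hsq⟩ := InvChar.Extraspecial.facts hE hz hz1'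
  exact ⟨z, hz1', hzz, fun w => ⟨hall w, by rintro (rfl | rfl); exacts [one_mem _, hz]⟩, hcomm,
    fun x => hall _ (hsq x)⟩

variable {E : Type*} [Group E] {z : E}

theorem Good.mem_center (h : Good E z) : z ∈ Subgroup.center E := (h.center z).2 (Or.inr rfl)

theorem Good.zcomm (h : Good E z) (x : E) : x * z = z * x :=
  Subgroup.mem_center_iff.1 h.mem_center x

/-- The structure of a split off dihedral group of order eight. -/
structure Split (E : Type*) [Group E] (z u w : E) : Prop where
  u2 : u * u = 1
  w2 : w * w = 1
  wu : w * u = z * (u * w)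

/-- The centralizer of the dihedral group. -/
def rest (u w : E) : Subgroup E :=
  Subgroup.centralizer ({u} : Set E) ⊓ Subgroup.centralizer ({w} : Set E)

theorem rest_comm {u w c : E} (hc : c ∈ rest u w) : Commute c u ∧ Commute c w :=
  ⟨Subgroup.mem_centralizer_singleton_iff.1 hc.1, Subgroup.mem_centralizer_singleton_iff.1 hc.2⟩

theorem Good.mem_rest (h : Good E z) (u w : E) : z ∈ rest u w :=
  ⟨Subgroup.center_le_centralizer _ h.mem_center, Subgroup.center_le_centralizer _ h.mem_center⟩

/-- The coordinates. -/
def coord (u w : E) (t : (Bool × Bool) × ↥(rest u w)) : E :=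
  (if t.1.1 then u else 1) * (if t.1.2 then w else 1) * t.2

/-- The sign element. -/
def zeta (z : E) (b : Bool) : E := if b then z else 1

/-- `x` commutes with `g` up to the sign `b`. -/
def Sign (z g x : E) (b : Bool) : Prop := x * g = zeta z b * (g * x)

theorem Good.zeta_comm (h : Good E z) (b : Bool) (x : E) : x * zeta z b = zeta z b * x := by
  rcases b <;> simp [zeta, h.zcomm]

theorem Good.zeta_mul (h : Good E z) (a b : Bool) : zeta z a * zeta z b = zeta z (xor a b) := by
  rcases a <;> rcases b <;> simp [zeta, h.sq]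

theorem Good.sign_mul (h : Good E z) {g x y : E} {a b : Bool} (hx : Sign z g x a)
    (hy : Sign z g y b) : Sign z g (x * y) (xor a b) := by
  unfold Sign at *
  calc x * y * g = x * zeta z b * (g * y) := by rw [mul_assoc, hy, mul_assoc]
    _ = zeta z b * (x * g) * y := by rw [h.zeta_comm]; group
    _ = _ := by rw [hx, ← mul_assoc (zeta z b), h.zeta_mul, Bool.xor_comm]; group

theorem Good.sign_unique (h : Good E z) {g x : E} {a b : Bool} (hx : Sign z g x a)
    (hy : Sign z g x b) : a = b := by
  have e := mul_right_cancel (hx.symm.trans hy)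
  rcases a <;> rcases b <;> simp_all [zeta, h.ne_one, h.ne_one.symm]

theorem Good.exists_sign (h : Good E z) (g x : E) : ∃ b, Sign z g x b := by
  rcases h.comm x g with e | e
  · exact ⟨false, by simpa [Sign, zeta] using e⟩
  · exact ⟨true, by simpa [Sign, zeta] using e⟩

theorem sign_false_iff {g x : E} : Sign z g x false ↔ Commute x g := by
  simp [Sign, zeta, Commute, SemiconjBy]

theorem coord_sign (h : Good E z) {u w : E} (s : Split E z u w) (a b : Bool) :
    Sign z u ((if a then u else 1) * (if b then w else 1)) b ∧
      Sign z w ((if a then u else 1) * (if b then w else 1)) a := by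
  have huw : u * w = z * (w * u) := by rw [s.wu, ← mul_assoc, h.sq, one_mul]
  have hu : Sign z u (if a then u else 1) false ∧ Sign z w (if a then u else 1) a := by
    rcases a <;> simp [Sign, zeta, huw]
  have hw : Sign z u (if b then w else 1) b ∧ Sign z w (if b then w else 1) false := by
    rcases b <;> simp [Sign, zeta, s.wu]
  refine ⟨?_, ?_⟩
  · have := h.sign_mul hu.1 hw.1; rwa [Bool.false_xor] at this
  · have := h.sign_mul hu.2 hw.2; rwa [Bool.xor_false] at this

theorem coord_bijective (h : Good E z) {u w : E} (s : Split E z u w) :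
    Function.Bijective (coord u w) := by
  constructor
  · rintro ⟨⟨a, b⟩, c, hc⟩ ⟨⟨a', b'⟩, c', hc'⟩ e
    simp only [coord] at e
    have k : ∀ (a b : Bool) (c : E), c ∈ rest u w →
        Sign z u ((if a then u else 1) * (if b then w else 1) * c) b ∧
          Sign z w ((if a then u else 1) * (if b then w else 1) * c) a := by
      intro a b c hc
      obtain ⟨h1, h2⟩ := coord_sign h s a b
      refine ⟨?_, ?_⟩
      · have := h.sign_mul h1 (sign_false_iff.2 (rest_comm hc).1); rwa [Bool.xor_false] at this
      · have := h.sign_mul h2 (sign_false_iff.2 (rest_comm hc).2); rwa [Bool.xor_false] at this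
    have k1 := k a b c hc
    have k2 := k a' b' c' hc'
    rw [e] at k1
    obtain rfl := h.sign_unique k1.1 k2.1
    obtain rfl := h.sign_unique k1.2 k2.2
    obtain rfl := mul_left_cancel e
    rfl
  · intro x
    obtain ⟨b, hb⟩ := h.exists_sign u x
    obtain ⟨a, ha⟩ := h.exists_sign w x
    obtain ⟨h1, h2⟩ := coord_sign h s a b
    set t := (if a then u else 1) * (if b then w else 1)
    refine ⟨((a, b), ⟨t⁻¹ * x, ?_⟩), by simp [coord, t, mul_assoc]⟩
    have key : ∀ g : E, ∀ d : Bool, Sign z g t d → Sign z g x d → Commute (t⁻¹ * x) g := by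
      intro g d ht hx
      obtain ⟨d', hd⟩ := h.exists_sign g (t⁻¹ * x)
      have h3 := h.sign_mul ht hd
      rw [mul_inv_cancel_left] at h3
      have h4 := h.sign_unique h3 hx
      have : d' = false := by rcases d <;> rcases d' <;> simp at h4 <;> rfl
      subst this
      exact sign_false_iff.1 hd
    exact ⟨Subgroup.mem_centralizer_singleton_iff.2 (key u b h1 hb),
      Subgroup.mem_centralizer_singleton_iff.2 (key w a h2 ha)⟩

theorem coord_mul (h : Good E z) {u w : E} (s : Split E z u w) (a b a' b' : Bool)
    (c c' : ↥(rest u w)) :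
    coord u w ((a, b), c) * coord u w ((a', b'), c') =
      coord u w ((xor a a', xor b b'),
        (if (b && a') then ⟨z, h.mem_rest u w⟩ else 1) * (c * c')) := by
  obtain ⟨hcu, hcw⟩ := rest_comm c.2
  have h1 : Commute (c : E) ((if a' then u else 1) * (if b' then w else 1)) := by
    refine Commute.mul_right ?_ ?_
    · rcases a' <;> simp [hcu]
    · rcases b' <;> simp [hcw]
  have h2 : (if b then w else 1) * (if a' then u else 1) =
      zeta z (b && a') * ((if a' then u else 1) * (if b then w else 1)) := by
    rcases b <;> rcases a' <;> simp [zeta, s.wu]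
  have h3 : (if a then u else 1) * (if a' then u else 1) = (if xor a a' then u else 1) := by
    rcases a <;> rcases a' <;> simp [s.u2]
  have h4 : (if b then w else 1) * (if b' then w else 1) = (if xor b b' then w else 1) := by
    rcases b <;> rcases b' <;> simp [s.w2]
  have h5 : (((if (b && a') then ⟨z, h.mem_rest u w⟩ else 1 : ↥(rest u w))) : E) =
      zeta z (b && a') := by
    rcases (b && a') with _ | _ <;> rfl
  calc coord u w ((a, b), c) * coord u w ((a', b'), c')
      = (if a then u else 1) * (if b then w else 1) *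
          ((c : E) * ((if a' then u else 1) * (if b' then w else 1))) * c' := by
        simp only [coord]; group
    _ = (if a then u else 1) * ((if b then w else 1) * (if a' then u else 1)) *
          (if b' then w else 1) * ((c : E) * c') := by rw [h1.eq]; group
    _ = (if a then u else 1) * zeta z (b && a') * ((if a' then u else 1) *
          ((if b then w else 1) * (if b' then w else 1))) * ((c : E) * c') := by rw [h2]; group
    _ = zeta z (b && a') * ((if xor a a' then u else 1) * (if xor b b' then w else 1)) *
          ((c : E) * c') := by rw [h.zeta_comm, ← h3, ← h4]; group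
    _ = _ := by
      simp only [coord, Subgroup.coe_mul, h5]
      rw [← h.zeta_comm (b && a'), mul_assoc]

theorem good_rest (h : Good E z) {u w : E} (s : Split E z u w) :
    Good ↥(rest u w) ⟨z, h.mem_rest u w⟩ where
  ne_one e := h.ne_one (congrArg Subtype.val e)
  sq := Subtype.ext h.sq
  comm x y := (h.comm x y).imp (fun e => Subtype.ext e) fun e => Subtype.ext e
  squares x := (h.squares x).imp (fun e => Subtype.ext e) fun e => Subtype.ext e
  center c := by
    constructor
    · intro hc
      have hcE : (c : E) ∈ Subgroup.center E := Subgroup.mem_center_iff.2 fun x => by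
        obtain ⟨⟨⟨a, b⟩, d⟩, rfl⟩ := (coord_bijective h s).2 x
        obtain ⟨h1, h2⟩ := rest_comm c.2
        have h3 : Commute (d : E) c := congrArg Subtype.val (Subgroup.mem_center_iff.1 hc d)
        refine (Commute.mul_left (Commute.mul_left ?_ ?_) h3).eq
        · rcases a <;> simp [h1.symm]
        · rcases b <;> simp [h2.symm]
      exact ((h.center c).1 hcE).imp (fun e => Subtype.ext e) fun e => Subtype.ext e
    · rintro (rfl | rfl)
      · exact one_mem _
      · exact Subgroup.mem_center_iff.2 fun g => Subtype.ext (h.zcomm g)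

/-- Number of solutions of `x * x = 1`. -/
noncomputable def invs (E : Type*) [Group E] : ℕ := Nat.card {x : E // x * x = 1}

theorem card_eq [Finite E] (h : Good E z) {u w : E} (s : Split E z u w) :
    Nat.card E = 4 * Nat.card ↥(rest u w) ∧
      invs E = 2 * invs ↥(rest u w) + Nat.card ↥(rest u w) := by
  classical
  haveI := Fintype.ofFinite E
  let e := Equiv.ofBijective _ (coord_bijective h s)
  refine ⟨by rw [← Nat.card_congr e]; simp [Nat.card_prod], ?_⟩
  have hsq : ∀ a b c, coord u w ((a, b), c) * coord u w ((a, b), c) = 1 ↔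
      (if (b && a) then c * c = ⟨z, h.mem_rest u w⟩ else c * c = 1) := by
    intro a b c
    rw [coord_mul h s]
    simp only [Bool.xor_self, coord, Bool.false_eq_true, if_false, one_mul]
    rcases (b && a) with _ | _
    · simp [Subtype.ext_iff]
    · simp only [if_true, Subgroup.coe_mul, Subtype.ext_iff]
      constructor
      · intro e1
        calc (c : E) * c = z * (z * (c * c)) := by rw [← mul_assoc z z, h.sq, one_mul]
          _ = z := by rw [e1, mul_one]
      · intro e1; rw [e1, h.sq]
  have hz : Nat.card {c : ↥(rest u w) // c * c = ⟨z, h.mem_rest u w⟩} + invs ↥(rest u w) =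
      Nat.card ↥(rest u w) := by
    rw [invs, ← Nat.card_sum]
    refine Nat.card_congr ?_
    refine (Equiv.sumCongr (Equiv.subtypeEquivRight fun c => ?_) (Equiv.refl _)).trans
      ((Equiv.sumComm _ _).trans (Equiv.sumCompl fun c : ↥(rest u w) => c * c = 1))
    constructor
    · intro e1 e2
      exact h.ne_one (congrArg Subtype.val (e1.symm.trans e2))
    · exact fun e1 => ((good_rest h s).squares c).resolve_left e1
  have hcount : invs E = ∑ ab : Bool × Bool, Nat.card {c : ↥(rest u w) //
      if (ab.2 && ab.1) then c * c = ⟨z, h.mem_rest u w⟩ else c * c = 1} := by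
    rw [invs, ← Nat.card_sigma]
    refine Nat.card_congr ((e.subtypeEquiv (p := fun t => e t * e t = 1) fun t => Iff.rfl).symm.trans ?_)
    refine { toFun := fun t => ⟨t.1.1, t.1.2, (hsq _ _ _).1 t.2⟩
             invFun := fun t => ⟨(t.1, t.2.1), (hsq _ _ _).2 t.2.2⟩
             left_inv := fun t => rfl
             right_inv := fun t => rfl }
  rw [hcount, Fintype.sum_prod_type, Fintype.sum_bool, Fintype.sum_bool, Fintype.sum_bool]
  simp only [Bool.and_true, Bool.and_false, Bool.false_eq_true, if_true, if_false,
    Bool.and_self, ← hz, invs]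
  ring

theorem exists_split (h : Good E z) (hi : ∃ u : E, u * u = 1 ∧ u ∉ Subgroup.center E) :
    ∃ u w : E, Split E z u w := by
  obtain ⟨u, hu, huc⟩ := hi
  obtain ⟨w, hw⟩ : ∃ w : E, w * u ≠ u * w := by
    by_contra hcon
    push Not at hcon
    exact huc (Subgroup.mem_center_iff.2 hcon)
  have hwu := (h.comm w u).resolve_left hw
  rcases h.squares w with h2 | h2
  · exact ⟨u, w, hu, h2, hwu⟩
  · refine ⟨u, u * w, hu, ?_, ?_⟩
    · calc u * w * (u * w) = u * (w * u) * w := by group
        _ = z * (u * u) * (w * w) := by rw [hwu, ← mul_assoc u z, h.zcomm]; group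
        _ = 1 := by rw [hu, h2, mul_one, h.sq]
    · calc u * w * u = u * (z * (u * w)) := by rw [mul_assoc, hwu]
        _ = z * (u * (u * w)) := by rw [← mul_assoc, h.zcomm, mul_assoc]

theorem no_split_case [Finite E] (h : Good E z)
    (hn : ∀ u : E, u * u = 1 → u ∈ Subgroup.center E) :
    invs E = 2 ∧ (Nat.card E = 2 ∨ (Nat.card E = 8 ∧ Nonempty (E ≃* QuaternionGroup 2))) := by
  classical
  haveI := Fintype.ofFinite E
  haveI : Fact (Nat.Prime 2) := ⟨Nat.prime_two⟩
  have hset : ∀ x : E, x * x = 1 ↔ x = 1 ∨ x = z := fun x =>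
    ⟨fun e => (h.center x).1 (hn x e), by rintro (rfl | rfl); exacts [one_mul 1, h.sq]⟩
  refine ⟨?_, ?_⟩
  · rw [invs, Nat.card_eq_fintype_card, Fintype.card_subtype,
      show Finset.univ.filter (fun x : E => x * x = 1) = {1, z} by ext x; simp [hset],
      Finset.card_pair h.ne_one.symm]
  have hp : IsPGroup 2 E := fun x => ⟨2, by
    rw [pow_two 2, pow_mul, pow_two, pow_two]
    rcases h.squares x with e | e <;> rw [e]
    · exact one_mul 1
    · exact h.sq⟩
  have huniq : ∀ H K : Subgroup E, Nat.card H = 2 → Nat.card K = 2 → H = K := by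
    suffices hH : ∀ H : Subgroup E, Nat.card H = 2 → H = Subgroup.zpowers z from
      fun H K a b => (hH H a).trans (hH K b).symm
    intro H hH
    have hz2 : orderOf z = 2 := orderOf_eq_prime (by rw [pow_two]; exact h.sq) h.ne_one
    refine Subgroup.eq_of_le_of_card_ge (fun x hx => ?_) (by rw [Nat.card_zpowers, hz2, hH])
    have h1 : x * x = 1 := by
      have := pow_card_eq_one' (x := (⟨x, hx⟩ : H))
      rw [hH, pow_two] at this
      exact congrArg Subtype.val this
    rcases (hset x).1 h1 with rfl | rfl
    · exact one_mem _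
    · exact Subgroup.mem_zpowers _
  rcases PGroups.UniqueSubgroup.isCyclic_or_quaternion hp huniq with hc | ⟨-, n, ⟨e⟩⟩
  · left
    haveI := hc
    letI := IsCyclic.commGroup (α := E)
    have hall : ∀ x : E, x = 1 ∨ x = z := fun x =>
      (h.center x).1 (Subgroup.mem_center_iff.2 fun y => mul_comm y x)
    rw [Nat.card_eq_fintype_card, ← Finset.card_univ,
      show (Finset.univ : Finset E) = {1, z} by ext x; simpa using hall x,
      Finset.card_pair h.ne_one.symm]
  · right
    have hcard : Nat.card E = 4 * 2 ^ n := by
      haveI : NeZero (2 ^ n) := ⟨pow_ne_zero _ two_ne_zero⟩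
      rw [Nat.card_congr e.toEquiv, Nat.card_eq_fintype_card, QuaternionGroup.card]
    have hn1 : n = 1 := by
      by_contra hne
      rcases Nat.lt_or_gt_of_ne hne with hlt | hgt
      · -- `C₄` is abelian
        obtain rfl : n = 0 := by omega
        have hab : ∀ x : E, x ∈ Subgroup.center E := fun x => Subgroup.mem_center_iff.2 fun y =>
          e.injective (by
            rw [map_mul, map_mul]
            generalize e x = a
            generalize e y = b
            revert a b
            decide)
        have : Fintype.card E ≤ ({1, z} : Finset E).card := Finset.card_le_card fun x _ => by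
          simpa using (h.center x).1 (hab x)
        rw [Finset.card_pair h.ne_one.symm, ← Nat.card_eq_fintype_card, hcard] at this
        norm_num at this
      · -- exponent at most four
        have h4 : ∀ x : E, orderOf x ∣ 4 := fun x => orderOf_dvd_of_pow_eq_one (by
          rw [show 4 = 2 * 2 from rfl, pow_mul, pow_two, pow_two]
          rcases h.squares x with e' | e' <;> rw [e']
          · exact one_mul 1
          · exact h.sq)
        have h5 := h4 (e.symm (QuaternionGroup.a 1))
        rw [MulEquiv.orderOf_eq, QuaternionGroup.orderOf_a_one] at h5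
        have h6 : 2 * 2 ^ 2 ≤ 2 * 2 ^ n := by
          have := Nat.pow_le_pow_right two_pos hgt
          omega
        have := Nat.le_of_dvd (by norm_num) h5
        omega
    subst hn1
    exact ⟨by rw [hcard]; norm_num, ⟨e⟩⟩

theorem count : ∀ (n : ℕ) (E : Type u) [Group E] [Finite E] (z : E), Good E z → Nat.card E = n →
    ∃ m : ℕ, Nat.card E = 2 ^ (2 * m + 1) ∧
      (invs E = 2 ^ (2 * m) + 2 ^ m ∨ invs E + 2 ^ m = 2 ^ (2 * m)) := by
  intro n
  induction n using Nat.strong_induction_on with
  | _ n ih =>
    intro E _ _ z h hn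
    by_cases hi : ∃ u : E, u * u = 1 ∧ u ∉ Subgroup.center E
    · obtain ⟨u, w, s⟩ := exists_split h hi
      obtain ⟨hc, hj⟩ := card_eq h s
      have hpos : 0 < Nat.card ↥(rest u w) := Nat.card_pos
      obtain ⟨m, hm, hm'⟩ := ih _ (by omega) ↥(rest u w) _ (good_rest h s) rfl
      refine ⟨m + 1, by rw [hc, hm]; ring, ?_⟩
      rw [hj, hm, show 2 * (m + 1) = 2 * m + 2 by ring, pow_succ (2 : ℕ) m, pow_succ 2 (2 * m),
        pow_add]
      rcases hm' with e | e
      · left; omega
      · right; omega
    · push Not at hi
      obtain ⟨hj, hc | ⟨hc, -⟩⟩ := no_split_case h hi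
      · exact ⟨0, by simpa using hc, Or.inl (by rw [hj]; rfl)⟩
      · exact ⟨1, by rw [hc]; norm_num, Or.inr (by rw [hj]; norm_num)⟩

theorem iso : ∀ (n : ℕ) (E : Type u) [Group E] [Finite E] (E' : Type v) [Group E'] [Finite E']
    (z : E) (z' : E'), Good E z → Good E' z' → Nat.card E = n → Nat.card E' = n →
    invs E' = invs E → ∃ e : E ≃* E', e z = z' := by
  intro n
  induction n using Nat.strong_induction_on with
  | _ n ih =>
    intro E _ _ E' _ _ z z' h h' hn hn' hj
    suffices hne : Nonempty (E ≃* E') by
      obtain ⟨e⟩ := hne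
      refine ⟨e, ((h'.center _).1 ?_).resolve_left fun he => h.ne_one (e.injective (by rw [he, map_one]))⟩
      refine Subgroup.mem_center_iff.2 fun y => ?_
      obtain ⟨x, rfl⟩ := e.surjective y
      rw [← map_mul, ← map_mul, h.zcomm]
    by_cases hi : ∃ u : E, u * u = 1 ∧ u ∉ Subgroup.center E
    · obtain ⟨u, w, s⟩ := exists_split h hi
      obtain ⟨hc, hjc⟩ := card_eq h s
      have hi' : ∃ u : E', u * u = 1 ∧ u ∉ Subgroup.center E' := by
        by_contra hcon
        push Not at hcon
        obtain ⟨hj', -⟩ := no_split_case h' hcon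
        have hpos : 0 < Nat.card ↥(rest u w) := Nat.card_pos
        obtain ⟨m, hm, hm'⟩ := count _ ↥(rest u w) _ (good_rest h s) rfl
        rw [hj', hjc, hm] at hj
        rcases hm' with e | e
        · have h1 := Nat.one_le_two_pow (n := m)
          have h2 := Nat.one_le_two_pow (n := 2 * m)
          omega
        · have h1 : 2 ^ (2 * m + 1) = 2 * 2 ^ (2 * m) := pow_succ' 2 _
          have h2 := Nat.one_le_two_pow (n := 2 * m)
          have h3 : invs ↥(rest u w) ≠ 0 := by
            haveI : Nonempty {x : ↥(rest u w) // x * x = 1} := ⟨⟨1, one_mul 1⟩⟩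
            exact Nat.card_pos.ne'
          omega
      obtain ⟨u', w', s'⟩ := exists_split h' hi'
      obtain ⟨hc', hjc'⟩ := card_eq h' s'
      have hpos : 0 < Nat.card ↥(rest u w) := Nat.card_pos
      obtain ⟨ψ, hψ⟩ := ih _ (by omega) ↥(rest u w) ↥(rest u' w') _ _ (good_rest h s)
        (good_rest h' s') rfl (by omega) (by omega)
      let e := (Equiv.ofBijective _ (coord_bijective h s)).symm.trans
        (((Equiv.refl (Bool × Bool)).prodCongr ψ.toEquiv).trans
          (Equiv.ofBijective _ (coord_bijective h' s')))
      refine ⟨MulEquiv.mk' e fun x y => ?_⟩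
      obtain ⟨⟨⟨a, b⟩, c⟩, rfl⟩ := (coord_bijective h s).2 x
      obtain ⟨⟨⟨a', b'⟩, c'⟩, rfl⟩ := (coord_bijective h s).2 y
      rw [coord_mul h s]
      have he : ∀ t, e (coord u w t) = coord u' w' (t.1, ψ t.2) := fun t => by
        simp only [e, Equiv.trans_apply, Equiv.ofBijective_symm_apply_apply]
        rfl
      rw [he, he, he, coord_mul h' s']
      refine congrArg (coord u' w') (Prod.ext rfl ?_)
      show ψ (_ * (c * c')) = _ * (ψ c * ψ c')
      rw [map_mul, map_mul]
      congr 1
      rcases (b && a') with _ | _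
      · exact map_one ψ
      · exact hψ
    · push Not at hi
      obtain ⟨hj2, hq⟩ := no_split_case h hi
      have hi' : ∀ u : E', u * u = 1 → u ∈ Subgroup.center E' := by
        by_contra hcon
        push Not at hcon
        obtain ⟨u', hu', huc'⟩ := hcon
        obtain ⟨u', w', s'⟩ := exists_split h' ⟨u', hu', huc'⟩
        obtain ⟨hc', hjc'⟩ := card_eq h' s'
        have hpos : 0 < Nat.card ↥(rest u' w') := Nat.card_pos
        rw [hjc', hj2] at hj
        have h3 : invs ↥(rest u' w') ≠ 0 := by
          haveI : Nonempty {x : ↥(rest u' w') // x * x = 1} := ⟨⟨1, one_mul 1⟩⟩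
          exact Nat.card_pos.ne'
        omega
      obtain ⟨-, hq'⟩ := no_split_case h' hi'
      rcases hq with hc | ⟨hc, ⟨e⟩⟩
      · haveI : Fact (Nat.Prime 2) := ⟨Nat.prime_two⟩
        haveI : IsCyclic E := isCyclic_of_prime_card hc
        haveI : IsCyclic E' := isCyclic_of_prime_card (p := 2) (by rw [hn', ← hn, hc])
        exact ⟨mulEquivOfCyclicCardEq (by rw [hn, hn'])⟩
      · rcases hq' with hc' | ⟨-, ⟨e'⟩⟩
        · omega
        · exact ⟨e.trans e'.symm⟩

end Cfsg.Agent.SolvStruct.ExtraspecialTwo
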