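import Cfsg.Agent.Lib.Hall.Solvable
import Cfsg.Agent.Lib.Cores.Fitting
import Cfsg.Agent.Lib.Cores.Nilpotent
import Cfsg.Agent.Lib.Coprime.PGroup
import Mathlib.GroupTheory.Frattini

/-!
Primitive groups, core-free maximal subgroups and supplements of abelian normal subgroups.
-/

set_option autoImplicit false

namespace Cfsg.Agent.SolvStruct.Primitive

open Cfsg Cfsg.Agent.Cores Cfsg.Agent.Coprime
open scoped Pointwise

variable {G : Type*} [Group G]

theorem normal_of_normalized {H X Y : Subgroup G} (hX : X ≤ Subgroup.normalizer (H : Set G))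
    (hY : Y ≤ Subgroup.normalizer (H : Set G)) (h : X ⊔ Y = ⊤) : H.Normal :=
  Subgroup.normalizer_eq_top_iff.1 (top_le_iff.1 (h ▸ sup_le hX hY))

theorem le_normalizer_inf {H U : Subgroup G} [H.Normal] :
    U ≤ Subgroup.normalizer ((H ⊓ U : Subgroup G) : Set G) := fun u hu => by
  rw [← conj_smul_eq_self_iff, Subgroup.smul_inf, conj_smul_eq_self_iff.2 (Subgroup.le_normalizer hu),
    conj_smul_eq_self_iff.2 (Subgroup.normalizer_eq_top_iff.2 (inferInstance : H.Normal) ▸ trivial)]

theorem le_normalizer_of_le_centralizer {H X : Subgroup G}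
    (h : X ≤ Subgroup.centralizer (H : Set G)) : X ≤ Subgroup.normalizer (H : Set G) :=
  h.trans (Subgroup.centralizer_le_normalizer _)

theorem eq_bot_of_normal_le {U H : Subgroup G} (hcore : U.normalCore = ⊥) [H.Normal]
    (h : H ≤ U) : H = ⊥ :=
  le_bot_iff.1 (hcore ▸ Subgroup.normal_le_normalCore.2 h)

theorem sup_eq_top {U A : Subgroup G} (hU : IsCoatom U) (hcore : U.normalCore = ⊥) [A.Normal]
    (hA : A ≠ ⊥) : A ⊔ U = ⊤ :=
  hU.2 _ (lt_of_le_of_ne le_sup_right fun h => hA (eq_bot_of_normal_le hcore (h ▸ le_sup_left)))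

theorem centralizer_inf_eq_bot {U A : Subgroup G} (hU : IsCoatom U) (hcore : U.normalCore = ⊥)
    [A.Normal] (hA : A ≠ ⊥) : Subgroup.centralizer (A : Set G) ⊓ U = ⊥ := by
  haveI : (Subgroup.centralizer (A : Set G) ⊓ U).Normal :=
    normal_of_normalized
      (le_normalizer_of_le_centralizer fun a ha => Subgroup.mem_centralizer_iff.2 fun z hz =>
        ((Subgroup.mem_centralizer_iff.1 hz.1) a ha).symm)
      le_normalizer_inf (sup_eq_top hU hcore hA)
  exact eq_bot_of_normal_le hcore inf_le_right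

theorem isComplement'_of_sup {A U : Subgroup G} [A.Normal] (h1 : A ⊓ U = ⊥) (h2 : A ⊔ U = ⊤) :
    Subgroup.IsComplement' A U :=
  Subgroup.isComplement'_of_disjoint_and_mul_eq_univ (disjoint_iff.2 h1) (by
    rw [← Subgroup.normal_mul, h2, Subgroup.coe_top])

/-- A subgroup meeting `B` trivially is isomorphic to its image modulo `B`. -/
theorem equiv_map_mk' {X B : Subgroup G} [B.Normal] (h : X ⊓ B = ⊥) :
    Nonempty (X ≃* X.map (QuotientGroup.mk' B)) := by
  refine ⟨MulEquiv.ofBijective ((QuotientGroup.mk' B).subgroupMap X)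
    ⟨(injective_iff_map_eq_one _).2 fun x hx => ?_, (QuotientGroup.mk' B).subgroupMap_surjective X⟩⟩
  have h1 : (x : G) ∈ X ⊓ B := ⟨x.2, (QuotientGroup.eq_one_iff _).1 (congrArg Subtype.val hx)⟩
  rw [h, Subgroup.mem_bot] at h1
  exact Subtype.ext h1

theorem map_eq_of_sup_eq {X Y B : Subgroup G} [B.Normal] (h : X ⊔ B = Y ⊔ B) :
    X.map (QuotientGroup.mk' B) = Y.map (QuotientGroup.mk' B) := by
  have := congrArg (Subgroup.map (QuotientGroup.mk' B)) h
  rwa [Subgroup.map_sup, Subgroup.map_sup, QuotientGroup.map_mk'_self, sup_bot_eq, sup_bot_eq]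
    at this

theorem primitive_two {U A B : Subgroup G} (hU : IsCoatom U) (hcore : U.normalCore = ⊥)
    [A.Normal] [B.Normal] (hA : A ≠ ⊥) (hB : B ≠ ⊥) (hd : A ⊓ B = ⊥) :
    Subgroup.centralizer (B : Set G) = A ∧ A ⊓ U = ⊥ ∧ Nonempty (A ≃* ↥((A ⊔ B) ⊓ U)) := by
  have hAC : A ≤ Subgroup.centralizer (B : Set G) := fun a ha =>
    Subgroup.mem_centralizer_iff.2 fun b hb =>
      (Subgroup.commute_of_normal_of_disjoint B A inferInstance inferInstance
        (disjoint_iff.2 (by rwa [inf_comm])) b a hb ha).eq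
  have hC := centralizer_inf_eq_bot hU hcore hB
  refine ⟨le_antisymm (fun c hc => ?_) hAC, le_bot_iff.1 (hC ▸ inf_le_inf_right U hAC), ?_⟩
  · have h1 : c ∈ A ⊔ U := sup_eq_top hU hcore hA ▸ trivial
    obtain ⟨a, ha, u, hu, rfl⟩ := Subgroup.mem_sup_of_normal_left.1 h1
    have h2 : u ∈ Subgroup.centralizer (B : Set G) ⊓ U :=
      ⟨by simpa using mul_mem (inv_mem (hAC ha)) hc, hu⟩
    rw [hC, Subgroup.mem_bot] at h2
    rwa [h2, mul_one]
  · obtain ⟨e₁⟩ := equiv_map_mk' (X := A) hd
    have hBU : B ⊓ U = ⊥ := by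
      refine le_bot_iff.1 (le_trans (inf_le_inf_right U ?_) (centralizer_inf_eq_bot hU hcore hA).le)
      exact fun b hb => Subgroup.mem_centralizer_iff.2 fun a ha =>
        ((Subgroup.mem_centralizer_iff.1 (hAC ha)) b hb).symm
    obtain ⟨e₂⟩ := equiv_map_mk' (X := (A ⊔ B) ⊓ U) (B := B)
      (le_bot_iff.1 (hBU ▸ le_inf inf_le_right (inf_le_left.trans inf_le_right)))
    refine ⟨e₁.trans ((MulEquiv.subgroupCongr (map_eq_of_sup_eq ?_)).trans e₂.symm)⟩
    refine le_antisymm (sup_le (fun a ha => ?_) le_sup_right) (sup_le inf_le_left le_sup_right)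
    have h1 : a ∈ B ⊔ U := sup_eq_top hU hcore hB ▸ trivial
    obtain ⟨b, hb, u, hu, rfl⟩ := Subgroup.mem_sup_of_normal_left.1 h1
    refine mul_mem (Subgroup.mem_sup_right hb) (Subgroup.mem_sup_left ⟨?_, hu⟩)
    simpa using mul_mem (Subgroup.mem_sup_right (inv_mem hb)) (Subgroup.mem_sup_left (T := B) ha)

theorem inf_eq_bot_of_supplement {N U : Subgroup G} [N.Normal] [IsMulCommutative N]
    (hmin : ∀ K : Subgroup G, K.Normal → K ≤ N → K = ⊥ ∨ K = N) (h : N ⊔ U = ⊤)
    (hne : ¬ N ≤ U) : N ⊓ U = ⊥ := by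
  refine (hmin _ (normal_of_normalized (le_normalizer_of_le_centralizer ?_) le_normalizer_inf h)
    inf_le_left).resolve_right fun he => hne (he ▸ inf_le_right)
  exact fun a ha => Subgroup.mem_centralizer_iff.2 fun z hz =>
    congrArg Subtype.val (IsMulCommutative.is_comm.comm (⟨z, hz.1⟩ : N) ⟨a, ha⟩)

/-- Galois: core-free maximal subgroups of a finite solvable group are conjugate. -/
theorem exists_conj_of_core_free [Finite G] [Group.IsSolvable G] {U V : Subgroup G}
    (hU : IsCoatom U) (hV : IsCoatom V) (hUc : U.normalCore = ⊥) (hVc : V.normalCore = ⊥) :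
    ∃ g : G, MulAut.conj g • U = V := by
  haveI : Nontrivial G := by
    by_contra h
    rw [not_nontrivial_iff_subsingleton] at h
    exact hU.1 (Subsingleton.elim _ _)
  obtain ⟨N, hNn, -, hN, hmin⟩ := Hall.exists_minimal_normal (⊤ : Subgroup G) top_ne_bot
  haveI := Hall.minimal_normal_isMulCommutative hmin
  obtain ⟨p, hp, -, hNp, -⟩ := Hall.minimal_normal_isElementaryAbelian hN hmin
  haveI : Fact p.Prime := ⟨hp⟩
  have hUN := sup_eq_top hU hUc hN
  have hVN := sup_eq_top hV hVc hN
  have hUd : N ⊓ U = ⊥ := inf_eq_bot_of_supplement hmin hUN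
    fun h => hN (eq_bot_of_normal_le hUc h)
  have hVd : N ⊓ V = ⊥ := inf_eq_bot_of_supplement hmin hVN
    fun h => hN (eq_bot_of_normal_le hVc h)
  by_cases hNT : N = ⊤
  · refine ⟨1, ?_⟩
    rw [hNT, top_inf_eq] at hUd hVd
    rw [hUd, hVd, conj_smul_one]
  haveI : Nontrivial (G ⧸ N) := QuotientGroup.nontrivial_iff.2 hNT
  obtain ⟨Mq, hMn, -, hM, hMmin⟩ := Hall.exists_minimal_normal (⊤ : Subgroup (G ⧸ N)) top_ne_bot
  obtain ⟨q, hq, -, hMq, -⟩ := Hall.minimal_normal_isElementaryAbelian hM hMmin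
  haveI : Fact q.Prime := ⟨hq⟩
  set M := Mq.comap (QuotientGroup.mk' N) with hMdef
  have hNM : N ≤ M := by
    intro c hc
    rw [hMdef, Subgroup.mem_comap, show QuotientGroup.mk' N c = 1 from
      (QuotientGroup.eq_one_iff c).2 hc]
    exact one_mem _
  have hMN : ¬ M ≤ N := fun h => hM (by
    rw [← Subgroup.map_comap_eq_self_of_surjective (QuotientGroup.mk'_surjective N) Mq, ← hMdef,
      le_antisymm h hNM, QuotientGroup.map_mk'_self])
  have hCN : Subgroup.centralizer (N : Set G) ≤ N := fun c hc => by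
    have h1 : c ∈ N ⊔ U := hUN ▸ trivial
    obtain ⟨n, hn, u, hu, rfl⟩ := Subgroup.mem_sup_of_normal_left.1 h1
    have h2 : u ∈ Subgroup.centralizer (N : Set G) ⊓ U := by
      refine ⟨?_, hu⟩
      have hn' : n ∈ Subgroup.centralizer (N : Set G) := Subgroup.mem_centralizer_iff.2 fun z hz =>
        congrArg Subtype.val (IsMulCommutative.is_comm.comm (⟨z, hz⟩ : N) ⟨n, hn⟩)
      simpa using mul_mem (inv_mem hn') hc
    rw [centralizer_inf_eq_bot hU hUc hN, Subgroup.mem_bot] at h2
    rwa [h2, mul_one]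
  have hqp : q ≠ p := by
    intro he
    subst he
    haveI : Group.IsNilpotent M := by
      have hMp : IsPGroup q M :=
        (isPi_iff_isPGroup M).1 (isPi_comap_mk' ((isPi_iff_isPGroup N).2 hNp)
          ((isPi_iff_isPGroup Mq).2 hMq))
      exact hMp.isNilpotent
    exact hMN ((le_centralizer_minimal_normal hNM hN hmin).trans hCN)
  have hcop : (Nat.card N).Coprime (Nat.card Mq) := by
    obtain ⟨a, ha⟩ := IsPGroup.iff_card.1 hNp
    obtain ⟨b, hb⟩ := IsPGroup.iff_card.1 hMq
    rw [ha, hb]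
    exact Nat.Coprime.pow _ _ ((Nat.coprime_primes hp hq).2 (Ne.symm hqp))
  have hcard : Nat.card M = Nat.card N * Nat.card Mq := card_comap_mk' N Mq
  have hindex : M.index = Mq.index :=
    Subgroup.index_comap_of_surjective _ (QuotientGroup.mk'_surjective N)
  -- the two Sylow `q`-subgroups of `M`
  have key : ∀ W : Subgroup G, IsCoatom W → W.normalCore = ⊥ → N ⊔ W = ⊤ → N ⊓ W = ⊥ →
      W = Subgroup.normalizer ((M ⊓ W : Subgroup G) : Set G) ∧
        IsPiHall {q} ((M ⊓ W).subgroupOf M) := by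
    intro W hW hWc hNW hdW
    have hsup : N ⊔ M ⊓ W = M := by
      refine le_antisymm (sup_le hNM inf_le_left) fun m hm => ?_
      obtain ⟨n, hn, w, hw, rfl⟩ :=
        Subgroup.mem_sup_of_normal_left.1 (show m ∈ N ⊔ W from hNW ▸ trivial)
      refine Subgroup.mul_mem_sup hn ⟨?_, hw⟩
      have := mul_mem (inv_mem (hNM hn)) hm
      simpa using this
    have hc : Nat.card ↥(M ⊓ W) = Nat.card Mq := by
      refine Nat.eq_of_mul_eq_mul_left (Nat.card_pos (α := N)) ?_
      rw [← hcard]
      have := card_sup_mul_card_inf (M ⊓ W) N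
      rw [sup_comm, hsup, show M ⊓ W ⊓ N = ⊥ from
        le_bot_iff.1 (hdW ▸ le_inf inf_le_right (inf_le_left.trans inf_le_right)),
        Subgroup.card_bot, mul_one] at this
      rw [this, mul_comm]
    refine ⟨(hW.le_iff.1 le_normalizer_inf).resolve_left (fun h => ?_) |>.symm, ?_, ?_⟩
    · haveI := Subgroup.normalizer_eq_top_iff.1 h
      have h1 := eq_bot_of_normal_le hWc (H := M ⊓ W) inf_le_right
      rw [h1, sup_bot_eq] at hsup
      exact hMN hsup.ge
    · intro r hr hd
      rw [Nat.card_congr (Subgroup.subgroupOfEquivOfLe inf_le_left).toEquiv, hc] at hd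
      exact (isPi_iff_isPGroup Mq).2 hMq r hr hd
    · intro r hr hrq hd
      have h1 := ((M ⊓ W).subgroupOf M).card_mul_index
      rw [Nat.card_congr (Subgroup.subgroupOfEquivOfLe inf_le_left).toEquiv, hc, hcard,
        mul_comm (Nat.card N)] at h1
      rw [Nat.eq_of_mul_eq_mul_left Nat.card_pos h1] at hd
      exact hqp ((Set.mem_singleton_iff.1 hrq).symm.trans
        (Set.mem_singleton_iff.1 ((isPi_iff_isPGroup N).2 hNp r hr hd)))
  obtain ⟨hUe, hUH⟩ := key U hU hUc hUN hUd
  obtain ⟨hVe, hVH⟩ := key V hV hVc hVN hVd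
  obtain ⟨g, hg⟩ := Hall.exists_conj_eq_of_isPiHall hUH hVH
  have h1 := congrArg (Subgroup.map M.subtype) hg
  rw [map_conj_smul, Subgroup.map_subgroupOf_eq_of_le inf_le_left,
    Subgroup.map_subgroupOf_eq_of_le inf_le_left] at h1
  refine ⟨g, ?_⟩
  rw [hUe, hVe, conj_smul_normalizer]
  exact congrArg (fun S : Subgroup G => Subgroup.normalizer (S : Set G)) h1

/-! ### The Fitting subgroup when the Frattini subgroup is trivial -/

theorem map_frattini_le_frattini [Finite G] (F : Subgroup G) [F.Normal] :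
    (frattini F).map F.subtype ≤ frattini G := by
  haveI hn : ((frattini F).map F.subtype).Normal := normal_map_subtype F _
  change _ ≤ Order.radical (Subgroup G)
  rw [Order.radical]
  refine le_iInf₂ fun M hM => ?_
  by_contra hne
  have htop : (frattini F).map F.subtype ⊔ M = ⊤ :=
    hM.2 _ (lt_of_le_of_ne le_sup_right fun h => hne (h ▸ le_sup_left))
  have h1 : M.subgroupOf F ⊔ frattini F = ⊤ := by
    refine top_le_iff.1 fun x _ => ?_
    obtain ⟨a, ⟨a', ha', rfl⟩, m, hm, hx⟩ := Subgroup.mem_sup_of_normal_left.1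
      (show (x : G) ∈ (frattini F).map F.subtype ⊔ M from htop ▸ trivial)
    have hmF : m ∈ F := by
      have h2 := mul_mem (inv_mem a'.2) x.2
      rw [← hx] at h2
      simpa [← mul_assoc] using h2
    have h3 : x = a' * ⟨m, hmF⟩ := Subtype.ext hx.symm
    rw [h3]
    exact mul_mem (Subgroup.mem_sup_right ha') (Subgroup.mem_sup_left (T := frattini F) hm)
  exact hne ((Subgroup.map_subtype_le _).trans
    (Subgroup.subgroupOf_eq_top.1 (frattini_nongenerating h1)))

theorem fitting_isMulCommutative [Finite G] (hΦ : frattini G = ⊥) :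
    IsMulCommutative (fittingSubgroup G) := by
  haveI := fittingSubgroup_isNilpotent (G := G)
  haveI : (fittingSubgroup G).Normal := Subgroup.sSup_normal _ fun _ h => h.1
  have h1 : (_root_.commutator (fittingSubgroup G)).map (fittingSubgroup G).subtype = ⊥ :=
    le_bot_iff.1 ((Subgroup.map_mono (Coprime.commutator_le_frattini _)).trans
      (hΦ ▸ map_frattini_le_frattini (fittingSubgroup G)))
  rw [Subgroup.map_eq_bot_iff, Subgroup.ker_subtype, le_bot_iff, commutator_eq_bot_iff] at h1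
  exact h1

theorem exists_complement_of_abelian [Finite G] (hΦ : frattini G = ⊥) (S : Subgroup G) [S.Normal]
    [IsMulCommutative S] : ∃ K : Subgroup G, S ⊔ K = ⊤ ∧ S ⊓ K = ⊥ := by
  obtain ⟨K, -, hK, hKmin⟩ := exists_minimal_le_of_wellFoundedLT
    (fun K : Subgroup G => S ⊔ K = ⊤) ⊤ (by simp)
  refine ⟨K, hK, ?_⟩
  by_contra hne
  set D := S ⊓ K
  haveI hDn : D.Normal := by
    refine normal_of_normalized (le_normalizer_of_le_centralizer fun a ha => ?_)
      le_normalizer_inf hK
    exact Subgroup.mem_centralizer_iff.2 fun z hz =>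
      congrArg Subtype.val (IsMulCommutative.is_comm.comm (⟨z, hz.1⟩ : S) ⟨a, ha⟩)
  obtain ⟨M, hM, hDM⟩ : ∃ M : Subgroup G, IsCoatom M ∧ ¬ D ≤ M := by
    by_contra h
    push Not at h
    refine hne (le_bot_iff.1 (hΦ ▸ ?_))
    change _ ≤ Order.radical (Subgroup G)
    rw [Order.radical]
    exact le_iInf₂ fun M hM => h M hM
  have htop : D ⊔ M = ⊤ :=
    hM.2 _ (lt_of_le_of_ne le_sup_right fun h => hDM (h ▸ le_sup_left))
  have h1 : S ⊔ M ⊓ K = ⊤ := by
    refine top_le_iff.1 (hK ▸ sup_le le_sup_left fun k hk => ?_)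
    obtain ⟨d, hd, m, hm, rfl⟩ :=
      Subgroup.mem_sup_of_normal_left.1 (show k ∈ D ⊔ M from htop ▸ trivial)
    refine Subgroup.mul_mem_sup hd.1 ⟨hm, ?_⟩
    simpa using mul_mem (inv_mem (inf_le_right (a := S) hd)) hk
  exact hDM (inf_le_right.trans ((hKmin h1 inf_le_right).trans inf_le_left))

theorem fitting_eq_sSup [Finite G] (hΦ : frattini G = ⊥) :
    fittingSubgroup G = sSup {N : Subgroup G | N.Normal ∧ N ≠ ⊥ ∧ IsMulCommutative N ∧
      ∀ K : Subgroup G, K.Normal → K ≤ N → K = ⊥ ∨ K = N} := by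
  set S := sSup {N : Subgroup G | N.Normal ∧ N ≠ ⊥ ∧ IsMulCommutative N ∧
      ∀ K : Subgroup G, K.Normal → K ≤ N → K = ⊥ ∨ K = N}
  haveI hF : IsMulCommutative (fittingSubgroup G) := fitting_isMulCommutative hΦ
  haveI : (fittingSubgroup G).Normal := Subgroup.sSup_normal _ fun _ h => h.1
  have hSF : S ≤ fittingSubgroup G := sSup_le fun N hN => by
    haveI := hN.1
    refine le_fittingSubgroup ⟨⟨1, ?_⟩⟩
    rw [Subgroup.upperCentralSeries_one, eq_top_iff]
    exact fun a _ => Subgroup.mem_center_iff.2 fun b => hN.2.2.1.is_comm.comm b a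
  haveI : S.Normal := Subgroup.sSup_normal _ fun _ h => h.1
  have hcomm : ∀ a ∈ fittingSubgroup G, ∀ b ∈ fittingSubgroup G, a * b = b * a := fun a ha b hb =>
    congrArg Subtype.val (IsMulCommutative.is_comm.comm (⟨a, ha⟩ : fittingSubgroup G) ⟨b, hb⟩)
  haveI : IsMulCommutative S := ⟨⟨fun a b => Subtype.ext (hcomm a (hSF a.2) b (hSF b.2))⟩⟩
  obtain ⟨K, hK, hKd⟩ := exists_complement_of_abelian hΦ S
  refine le_antisymm (fun x hx => ?_) hSF
  have hI : fittingSubgroup G ⊓ K = ⊥ := by
    by_contra hne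
    haveI : (fittingSubgroup G ⊓ K).Normal :=
      normal_of_normalized (le_normalizer_of_le_centralizer fun a ha =>
        Subgroup.mem_centralizer_iff.2 fun z hz => hcomm z hz.1 a (hSF ha)) le_normalizer_inf hK
    obtain ⟨N, hNn, hNle, hN, hmin⟩ := Hall.exists_minimal_normal (fittingSubgroup G ⊓ K) hne
    haveI : IsMulCommutative N :=
      ⟨⟨fun a b => Subtype.ext (hcomm a (inf_le_left (b := K) (hNle a.2)) b
        (inf_le_left (b := K) (hNle b.2)))⟩⟩
    exact hN (le_bot_iff.1 (hKd ▸ le_inf (le_sSup ⟨hNn, hN, inferInstance, hmin⟩)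
      (hNle.trans inf_le_right)))
  obtain ⟨s, hs, k, hk, rfl⟩ :=
    Subgroup.mem_sup_of_normal_left.1 (show x ∈ S ⊔ K from hK ▸ trivial)
  have h2 : k ∈ fittingSubgroup G ⊓ K := ⟨by simpa using mul_mem (inv_mem (hSF hs)) hx, hk⟩
  rw [hI, Subgroup.mem_bot] at h2
  rwa [h2, mul_one]

/-- If all maximal subgroups are Hall subgroups then some Sylow subgroup is normal. -/
theorem exists_normal_sylow : ∀ (n : ℕ) (G : Type*) [Group G] [Finite G] [Group.IsSolvable G]
    [Nontrivial G], Nat.card G = n →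
    (∀ M : Subgroup G, IsCoatom M → (Nat.card M).Coprime M.index) →
    ∃ p : ℕ, p.Prime ∧ p ∣ Nat.card G ∧ ∀ P : Sylow p G, (P : Subgroup G).Normal := by
  intro n
  induction n using Nat.strongRecOn with
  | ind n ih =>
  intro G _ _ _ _ hn h
  obtain ⟨N, hNn, -, hN, hmin⟩ := Hall.exists_minimal_normal (⊤ : Subgroup G) top_ne_bot
  haveI := Hall.minimal_normal_isMulCommutative hmin
  obtain ⟨p, hp, hpd, hNp, -⟩ := Hall.minimal_normal_isElementaryAbelian hN hmin
  haveI : Fact p.Prime := ⟨hp⟩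
  have hfin : ∀ P : Sylow p G, ¬ p ∣ N.index → (P : Subgroup G).Normal := fun P hd => by
    rw [show (P : Subgroup G) = N from
      (hNp.toSylow hd).3 P.2 (hNp.le_sylow_of_normal P)]
    exact hNn
  by_cases hle : N ≤ frattini G
  · by_cases hNT : N = ⊤
    · refine ⟨p, hp, hpd.trans N.card_subgroup_dvd_card, fun P => hfin P ?_⟩
      rw [hNT, Subgroup.index_top]
      exact hp.not_dvd_one
    haveI : Nontrivial (G ⧸ N) := QuotientGroup.nontrivial_iff.2 hNT
    have hlt : Nat.card (G ⧸ N) < n := by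
      rw [← hn, N.card_eq_card_quotient_mul_card_subgroup]
      exact lt_mul_of_one_lt_right Nat.card_pos (N.one_lt_card_iff_ne_bot.2 hN)
    obtain ⟨q, hq, hqd, hqn⟩ := ih _ hlt (G ⧸ N) rfl fun M hM => by
      have hs := QuotientGroup.mk'_surjective N
      have hi : (M.comap (QuotientGroup.mk' N)).index = M.index :=
        Subgroup.index_comap_of_surjective _ hs
      have hco : IsCoatom (M.comap (QuotientGroup.mk' N)) := by
        refine ⟨fun he => hM.1 ?_, fun T hT => ?_⟩
        · rw [← Subgroup.map_comap_eq_self_of_surjective hs M, he,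
            Subgroup.map_top_of_surjective _ hs]
        · have hNT' : N ≤ T := le_trans (by
            intro a ha
            rw [Subgroup.mem_comap, show QuotientGroup.mk' N a = 1 from
              (QuotientGroup.eq_one_iff a).2 ha]
            exact one_mem M) hT.le
          have h1 : (T.map (QuotientGroup.mk' N)).comap (QuotientGroup.mk' N) = T := by
            rw [Subgroup.comap_map_eq, QuotientGroup.ker_mk', sup_eq_left.2 hNT']
          rw [← h1, ← Subgroup.comap_top (QuotientGroup.mk' N)]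
          congr 1
          refine hM.2 _ (lt_of_le_of_ne ?_ fun he => hT.ne (by rw [he, h1]))
          rw [← Subgroup.map_comap_eq_self_of_surjective hs M]
          exact Subgroup.map_mono hT.le
      have h2 := h _ hco
      rw [hi, card_comap_mk'] at h2
      exact h2.coprime_dvd_left (dvd_mul_left _ _)
    haveI : Fact q.Prime := ⟨hq⟩
    refine ⟨q, hq, hqd.trans (Subgroup.card_quotient_dvd_card N), fun P => ?_⟩
    haveI hPn := hqn (P.mapSurjective (QuotientGroup.mk'_surjective N))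
    haveI hT : ((P : Subgroup G) ⊔ N).Normal := by
      have h1 := hPn.comap (QuotientGroup.mk' N)
      rwa [Sylow.coe_mapSurjective, Subgroup.comap_map_eq, QuotientGroup.ker_mk'] at h1
    have h1 := Sylow.normalizer_sup_eq_top' P (N := (P : Subgroup G) ⊔ N) le_sup_left
    have h2 : Subgroup.normalizer ((P : Subgroup G) : Set G) ⊔ frattini G = ⊤ := by
      refine top_le_iff.1 (h1 ▸ sup_le le_sup_left (sup_le ?_ (hle.trans le_sup_right)))
      exact Subgroup.le_normalizer.trans le_sup_left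
    exact Subgroup.normalizer_eq_top_iff.1 (frattini_nongenerating h2)
  · obtain ⟨M, hM, hNM⟩ : ∃ M : Subgroup G, IsCoatom M ∧ ¬ N ≤ M := by
      by_contra hh
      push Not at hh
      refine hle ?_
      change _ ≤ Order.radical (Subgroup G)
      rw [Order.radical]
      exact le_iInf₂ fun M hM => hh M hM
    have htop : N ⊔ M = ⊤ :=
      hM.2 _ (lt_of_le_of_ne le_sup_right fun he => hNM (he ▸ le_sup_left))
    have hc := isComplement'_of_sup (inf_eq_bot_of_supplement hmin htop hNM) htop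
    refine ⟨p, hp, hpd.trans N.card_subgroup_dvd_card, fun P => hfin P fun hd => ?_⟩
    have h2 := h M hM
    rw [hc.index_eq_card] at h2
    rw [show N.index = Nat.card M from hc.symm.index_eq_card] at hd
    exact hp.ne_one (Nat.eq_one_of_dvd_coprimes h2 hd hpd)

end Cfsg.Agent.SolvStruct.Primitive
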