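import Mathlib
import Cfsg.Prelude.Def_Solvable
import Cfsg.Agent.GStructB.FrobeniusCount
import Cfsg.Agent.Lib.Coprime.FixedPointFree
import Cfsg.Agent.Lib.Characters.Burnside

/-!
Odd order groups in which the numbers of elements of each given order take exactly three values:
they involve at most two primes, and with two primes they are Frobenius groups with a complement
of prime order and Sylow subgroups of prime exponent.
-/

set_option autoImplicit false

namespace Cfsg.Agent.SolvStruct.ThreeOrderClasses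

open scoped IsMulCommutative Pointwise
open Cfsg.Agent.GStructB.FrobeniusCount

variable {G : Type*} [Group G] [Finite G]

/-- The number of elements of order `m`. -/
noncomputable def cnt (G : Type*) [Group G] (m : ℕ) : ℕ := Nat.card {g : G // orderOf g = m}

theorem numPowOne_eq_sum {n : ℕ} (hn : 0 < n) : numPowOne G n = ∑ d ∈ n.divisors, cnt G d := by
  classical
  have := Fintype.ofFinite G
  rw [numPowOne, Nat.card_eq_fintype_card, Fintype.card_subtype,
    Finset.card_eq_sum_card_fiberwise (f := orderOf) (t := n.divisors) (fun g hg => by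
      simp only [Finset.coe_filter, Finset.mem_univ, true_and, Set.mem_setOf_eq] at hg
      exact Nat.mem_divisors.mpr ⟨orderOf_dvd_of_pow_eq_one hg, hn.ne'⟩)]
  refine Finset.sum_congr rfl fun d hd => ?_
  rw [cnt, Nat.card_eq_fintype_card, Fintype.card_subtype, Finset.filter_filter]
  congr 1
  refine Finset.filter_congr fun g _ => ⟨fun h => h.2, fun h => ⟨?_, h⟩⟩
  exact orderOf_dvd_iff_pow_eq_one.mp (h ▸ (Nat.mem_divisors.mp hd).1)

theorem cnt_one : cnt G 1 = 1 := by
  rw [cnt, Nat.card_eq_one_iff_unique]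
  exact ⟨⟨fun a b => Subtype.ext ((orderOf_eq_one_iff.mp a.2).trans (orderOf_eq_one_iff.mp b.2).symm)⟩,
    ⟨⟨1, orderOf_one⟩⟩⟩

theorem cnt_ne_zero_iff {m : ℕ} : cnt G m ≠ 0 ↔ ∃ g : G, orderOf g = m := by
  rw [cnt, Nat.card_ne_zero]
  exact ⟨fun ⟨⟨g⟩, _⟩ => ⟨g.1, g.2⟩, fun ⟨g, hg⟩ => ⟨⟨⟨g, hg⟩⟩, inferInstance⟩⟩

theorem cnt_prime_ne_zero {p : ℕ} (hp : p.Prime) (hd : p ∣ Nat.card G) : cnt G p ≠ 0 := by
  have := Fact.mk hp
  exact cnt_ne_zero_iff.mpr (exists_prime_orderOf_dvd_card' p hd)

theorem sum_divisors_prime {p : ℕ} (hp : p.Prime) : numPowOne G p = 1 + cnt G p := by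
  rw [numPowOne_eq_sum hp.pos, hp.divisors, Finset.sum_pair hp.one_lt.ne, cnt_one]

theorem divisors_two {p q : ℕ} (hp : p.Prime) (hq : q.Prime) :
    (p * q).divisors = {1, p, q, p * q} := by
  ext d
  simp only [Nat.mem_divisors, Finset.mem_insert, Finset.mem_singleton, Nat.dvd_mul,
    Nat.dvd_prime hp, Nat.dvd_prime hq]
  constructor
  · rintro ⟨⟨x, y, (rfl | rfl), (rfl | rfl), rfl⟩, -⟩ <;> simp
  · intro h
    refine ⟨?_, (Nat.mul_pos hp.pos hq.pos).ne'⟩
    rcases h with h | h | h | h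
    · exact ⟨1, 1, Or.inl rfl, Or.inl rfl, by simp [h]⟩
    · exact ⟨p, 1, Or.inr rfl, Or.inl rfl, by simp [h]⟩
    · exact ⟨1, q, Or.inl rfl, Or.inr rfl, by simp [h]⟩
    · exact ⟨p, q, Or.inr rfl, Or.inr rfl, h.symm⟩

theorem sum_divisors_two {p q : ℕ} (hp : p.Prime) (hq : q.Prime) (hpq : p ≠ q) :
    numPowOne G (p * q) = 1 + cnt G p + cnt G q + cnt G (p * q) := by
  have h1 := hp.two_le
  have h2 := hq.two_le
  have h3 : p < p * q := lt_mul_of_one_lt_right hp.pos hq.one_lt
  have h4 : q < p * q := lt_mul_of_one_lt_left hq.pos hp.one_lt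
  rw [numPowOne_eq_sum (Nat.mul_pos hp.pos hq.pos), divisors_two hp hq,
    Finset.sum_insert (by simp; omega), Finset.sum_insert (by simp; omega),
    Finset.sum_insert (by simp; omega), Finset.sum_singleton, cnt_one]
  ring

theorem sum_divisors_three {p q r : ℕ} (hp : p.Prime) (hq : q.Prime) (hr : r.Prime) (hpq : p ≠ q)
    (hpr : p ≠ r) (hqr : q ≠ r) : numPowOne G (p * q * r) =
      1 + cnt G p + cnt G q + cnt G r + cnt G (p * q) + cnt G (p * r) + cnt G (q * r) + cnt G (p * q * r) := by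
  have hcop : (p * q).Coprime r :=
    Nat.Coprime.mul_left ((Nat.coprime_primes hp hr).mpr hpr) ((Nat.coprime_primes hq hr).mpr hqr)
  have himg : (p * q * r).divisors = (p * q).divisors ∪ (p * q).divisors.image (· * r) := by
    ext d
    simp only [Nat.mem_divisors, Finset.mem_union, Finset.mem_image]
    constructor
    · rintro ⟨hd, -⟩
      obtain ⟨x, y, hx, hy, rfl⟩ := Nat.dvd_mul.mp hd
      rcases (Nat.dvd_prime hr).mp hy with rfl | rfl
      · exact Or.inl ⟨by simpa using hx, (Nat.mul_pos hp.pos hq.pos).ne'⟩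
      · exact Or.inr ⟨x, ⟨hx, (Nat.mul_pos hp.pos hq.pos).ne'⟩, rfl⟩
    · rintro (⟨h, -⟩ | ⟨x, ⟨h, -⟩, rfl⟩)
      · exact ⟨h.trans (Nat.dvd_mul_right _ _), by simp [hp.ne_zero, hq.ne_zero, hr.ne_zero]⟩
      · exact ⟨Nat.mul_dvd_mul_right h r, by simp [hp.ne_zero, hq.ne_zero, hr.ne_zero]⟩
  have hdis : Disjoint (p * q).divisors ((p * q).divisors.image (· * r)) := by
    rw [Finset.disjoint_left]
    intro d hd hd'
    obtain ⟨x, -, rfl⟩ := Finset.mem_image.mp hd'
    exact (hr.coprime_iff_not_dvd.mp hcop.symm) ((Dvd.intro_left x rfl).trans (Nat.mem_divisors.mp hd).1)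
  have h2 := sum_divisors_two (G := G) hp hq hpq
  rw [numPowOne_eq_sum (Nat.mul_pos hp.pos hq.pos)] at h2
  rw [numPowOne_eq_sum (by positivity [hp.pos, hq.pos, hr.pos]), himg, Finset.sum_union hdis, h2,
    Finset.sum_image (fun a _ b _ h => Nat.eq_of_mul_eq_mul_right hr.pos h), divisors_two hp hq]
  have h1 := hp.two_le
  have h1' := hq.two_le
  have h3 : p < p * q := lt_mul_of_one_lt_right hp.pos hq.one_lt
  have h4 : q < p * q := lt_mul_of_one_lt_left hq.pos hp.one_lt
  rw [Finset.sum_insert (by simp; omega), Finset.sum_insert (by simp; omega),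
    Finset.sum_insert (by simp; omega), Finset.sum_singleton, one_mul]
  ring

theorem dvd_numPow {r n : ℕ} (hr : r ∣ n) (hG : r ∣ Nat.card G) : r ∣ numPowOne G n := by
  rw [← numPowOne_gcd]
  exact (Nat.dvd_gcd hG hr).trans (dvd_numPowOne (Nat.gcd_dvd_left _ _))

theorem odd_prime_of_dvd (hodd : Odd (Nat.card G)) {p : ℕ} (hp : p.Prime) (hd : p ∣ Nat.card G) : 3 ≤ p := by
  rcases hp.eq_two_or_odd' with rfl | h
  · exact absurd hd hodd.not_two_dvd_nat
  · have := hp.two_le
    obtain ⟨k, rfl⟩ := h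
    omega

theorem cnt_prime_mod {p : ℕ} (hp : p.Prime) (hd : p ∣ Nat.card G) : (cnt G p : ZMod p) = -1 := by
  have h : ((numPowOne G p : ℕ) : ZMod p) = 0 := (ZMod.natCast_eq_zero_iff _ _).mpr (dvd_numPow dvd_rfl hd)
  rw [sum_divisors_prime hp] at h
  push_cast at h
  linear_combination h

theorem cnt_prime_pow_mod {p j : ℕ} (hp : p.Prime) (hj : 2 ≤ j) : p ∣ cnt G (p ^ j) := by
  refine dvd_trans ?_ (totient_dvd_card_orderOf (G := G) (p ^ j))
  rw [Nat.totient_prime_pow hp (by omega)]
  exact Dvd.dvd.mul_right (dvd_pow_self p (by omega)) _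

theorem two_ne_zero_mod {p : ℕ} (hp : p.Prime) (h3 : 3 ≤ p) : (2 : ZMod p) ≠ 0 := by
  intro h
  have h2 : p ∣ 2 := (ZMod.natCast_eq_zero_iff 2 p).mp (by exact_mod_cast h)
  have := Nat.le_of_dvd two_pos h2
  omega

/-- Two primes never share the count of elements of prime order. -/
theorem cnt_ne_cnt (hodd : Odd (Nat.card G)) (a b : ℕ)
    (hv : ∀ m, 1 < m → cnt G m ≠ 0 → cnt G m = a ∨ cnt G m = b) {p q : ℕ} (hp : p.Prime) (hq : q.Prime)
    (hpq : p ≠ q) (hpG : p ∣ Nat.card G) (hqG : q ∣ Nat.card G) (hpa : cnt G p = a) : cnt G q ≠ a := by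
  intro hqa
  -- the mixed count is `b`
  have key : ∀ p q : ℕ, p.Prime → q.Prime → p ≠ q → p ∣ Nat.card G → q ∣ Nat.card G → cnt G p = a →
      cnt G q = a → cnt G (p * q) = b ∧ (b : ZMod p) = 1 := by
    intro p q hp hq hpq hpG hqG hpa hqa
    haveI := Fact.mk hp
    have h : ((numPowOne G (p * q) : ℕ) : ZMod p) = 0 :=
      (ZMod.natCast_eq_zero_iff _ _).mpr (dvd_numPow (Nat.dvd_mul_right p q) hpG)
    rw [sum_divisors_two hp hq hpq, hpa, hqa] at h
    push_cast at h
    have hap := cnt_prime_mod (G := G) hp hpG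
    rw [hpa] at hap
    have hc : (cnt G (p * q) : ZMod p) = 1 := by linear_combination h - 2 * hap
    have hc0 : cnt G (p * q) ≠ 0 := fun h0 => by simp [h0] at hc
    rcases hv _ (by nlinarith [hp.two_le, hq.two_le]) hc0 with h1 | h1
    · exfalso
      rw [h1, hap] at hc
      exact two_ne_zero_mod hp (odd_prime_of_dvd hodd hp hpG) (by linear_combination -hc)
    · exact ⟨h1, h1 ▸ hc⟩
  -- every prime has count `a`
  have hall : ∀ r, r.Prime → r ∣ Nat.card G → cnt G r = a := by
    intro r hr hrG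
    rcases eq_or_ne r p with rfl | hrp
    · exact hpa
    rcases eq_or_ne r q with rfl | hrq
    · exact hqa
    rcases hv r hr.one_lt (cnt_prime_ne_zero hr hrG) with h | h
    · exact h
    exfalso
    haveI := Fact.mk hr
    have hbr := cnt_prime_mod (G := G) hr hrG
    rw [h] at hbr
    have h2 := two_ne_zero_mod hr (odd_prime_of_dvd hodd hr hrG)
    -- a mixed count with `r`
    have key2 : ∀ s, s.Prime → s ≠ r → s ∣ Nat.card G → cnt G s = a → (b : ZMod s) = 1 →
        cnt G (s * r) = a ∧ (a : ZMod r) = 0 := by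
      intro s hs hsr hsG hsa hbs
      haveI := Fact.mk hs
      have h1 : ((numPowOne G (s * r) : ℕ) : ZMod s) = 0 :=
        (ZMod.natCast_eq_zero_iff _ _).mpr (dvd_numPow (Nat.dvd_mul_right s r) hsG)
      rw [sum_divisors_two hs hr hsr, hsa, h] at h1
      push_cast at h1
      have has := cnt_prime_mod (G := G) hs hsG
      rw [hsa] at has
      have he : (cnt G (s * r) : ZMod s) = -1 := by linear_combination h1 - has - hbs
      have he0 : cnt G (s * r) ≠ 0 := fun h0 => by simp [h0] at he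
      have hea : cnt G (s * r) = a := by
        rcases hv _ (by nlinarith [hs.two_le, hr.two_le]) he0 with h1 | h1
        · exact h1
        · exfalso
          rw [h1, hbs] at he
          exact two_ne_zero_mod hs (odd_prime_of_dvd hodd hs hsG) (by linear_combination he)
      refine ⟨hea, ?_⟩
      have h3 : ((numPowOne G (s * r) : ℕ) : ZMod r) = 0 :=
        (ZMod.natCast_eq_zero_iff _ _).mpr (dvd_numPow (Nat.dvd_mul_left r s) hrG)
      rw [sum_divisors_two hs hr hsr, hsa, h, hea] at h3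
      push_cast at h3
      refine (mul_eq_zero.mp (show (2 : ZMod r) * a = 0 by linear_combination h3 - hbr)).resolve_left h2
    obtain ⟨hpr, har⟩ := key2 p hp hrp.symm hpG hpa (key p q hp hq hpq hpG hqG hpa hqa).2
    obtain ⟨hqr, -⟩ := key2 q hq hrq.symm hqG hqa (key q p hq hp hpq.symm hqG hpG hqa hpa).2
    have h3 : ((numPowOne G (p * q * r) : ℕ) : ZMod r) = 0 :=
      (ZMod.natCast_eq_zero_iff _ _).mpr (dvd_numPow (Nat.dvd_mul_left r _) hrG)
    rw [sum_divisors_three hp hq hr hpq hrp.symm hrq.symm, hpa, hqa, h,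
      (key p q hp hq hpq hpG hqG hpa hqa).1, hpr, hqr] at h3
    push_cast at h3
    have hA : (cnt G (p * q * r) : ZMod r) = 1 := by linear_combination h3 - 4 * har - 2 * hbr
    have hA0 : cnt G (p * q * r) ≠ 0 := fun h0 => by simp [h0] at hA
    rcases hv _ (by nlinarith [hp.two_le, hq.two_le, hr.two_le, Nat.mul_le_mul hp.two_le hq.two_le]) hA0
      with h1 | h1
    · rw [h1, har] at hA; exact zero_ne_one hA
    · rw [h1, hbr] at hA; exact h2 (by linear_combination -hA)
  -- hence `|G|` divides `1 + a`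
  have hdvd : Nat.card G ∣ 1 + a := by
    rw [Nat.dvd_iff_prime_pow_dvd_dvd]
    intro r k hr hk
    rcases k with _ | k
    · simp
    have hrG : r ∣ Nat.card G := (dvd_pow_self r k.succ_ne_zero).trans hk
    haveI := Fact.mk hr
    obtain ⟨s, hs, hsr, hsG⟩ : ∃ s, s.Prime ∧ s ≠ r ∧ s ∣ Nat.card G := by
      rcases eq_or_ne p r with h | h
      · exact ⟨q, hq, h ▸ hpq.symm, hqG⟩
      · exact ⟨p, hp, h, hpG⟩
    have hb := (key r s hr hs hsr.symm hrG hsG (hall r hr hrG) (hall s hs hsG)).2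
    have har := cnt_prime_mod (G := G) hr hrG
    rw [hall r hr hrG] at har
    have hsq : ∀ j, 2 ≤ j → cnt G (r ^ j) = 0 := by
      intro j hj
      by_contra hne
      have h0 : (cnt G (r ^ j) : ZMod r) = 0 := (ZMod.natCast_eq_zero_iff _ _).mpr (cnt_prime_pow_mod hr hj)
      rcases hv _ (Nat.one_lt_pow (by omega) hr.one_lt) hne with h1 | h1 <;> rw [h1] at h0
      · rw [har] at h0; simp at h0
      · rw [hb] at h0; exact one_ne_zero h0
    have h := dvd_numPowOne (G := G) hk
    rw [numPowOne_eq_sum (pow_pos hr.pos _), Nat.sum_divisors_prime_pow hr] at h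
    rw [Finset.sum_range_succ', Finset.sum_range_succ',
      Finset.sum_eq_zero (fun j _ => hsq _ (by omega)), zero_add, zero_add, pow_one, pow_zero, cnt_one,
      hall r hr hrG] at h
    rwa [add_comm 1 a]
  have hle : Nat.card G ≤ 1 + a := Nat.le_of_dvd (by omega) hdvd
  have h2 : numPowOne G (p * q) ≤ Nat.card G := Finite.card_subtype_le _
  rw [sum_divisors_two hp hq hpq, hpa, hqa] at h2
  have := cnt_prime_ne_zero (G := G) hp hpG
  omega

/-- With two primes, the mixed count is not the count of the first prime. -/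
theorem mixed_ne (hodd : Odd (Nat.card G)) {p q : ℕ} (hp : p.Prime) (hq : q.Prime) (hpq : p ≠ q)
    (hpG : p ∣ Nat.card G) (hqG : q ∣ Nat.card G) : cnt G (p * q) ≠ cnt G p := by
  classical
  intro hc
  haveI := Fact.mk hp
  obtain ⟨P⟩ := (inferInstance : Nonempty (Sylow p G))
  have h : ((numPowOne G (p * q) : ℕ) : ZMod p) = 0 :=
    (ZMod.natCast_eq_zero_iff _ _).mpr (dvd_numPow (Nat.dvd_mul_right p q) hpG)
  rw [sum_divisors_two hp hq hpq, hc] at h
  push_cast at h
  have hb : (cnt G q : ZMod p) = 1 := by linear_combination h - 2 * cnt_prime_mod (G := G) hp hpG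
  letI : MulAction (P : Subgroup G) {g : G // orderOf g = q} :=
    { smul := fun k g => ⟨(k : G) * g * (k : G)⁻¹, by
        rw [← MulAut.conj_apply, (MulAut.conj (k : G)).orderOf_eq]; exact g.2⟩
      one_smul := fun g => Subtype.ext (by change (1 : G) * g * 1⁻¹ = g; simp)
      mul_smul := fun a b g => Subtype.ext (by
        change (a * b : G) * g * (a * b : G)⁻¹ = a * (b * g * (b : G)⁻¹) * (a : G)⁻¹; group) }
  have hfix := P.2.card_modEq_card_fixedPoints {g : G // orderOf g = q}
  have hne : Nat.card (MulAction.fixedPoints (P : Subgroup G) {g : G // orderOf g = q}) ≠ 0 := by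
    intro h0
    rw [h0] at hfix
    have := (ZMod.natCast_eq_natCast_iff _ _ _).mpr hfix
    rw [show (Nat.card {g : G // orderOf g = q} : ZMod p) = 1 from hb, Nat.cast_zero] at this
    exact one_ne_zero this
  obtain ⟨⟨⟨⟨z, hz⟩, hzfix⟩⟩, -⟩ := Nat.card_ne_zero.mp hne
  have hzc : ∀ k ∈ (P : Subgroup G), Commute k z := fun k hk =>
    mul_inv_eq_iff_eq_mul.mp (congrArg Subtype.val (hzfix ⟨k, hk⟩))
  have hex : ∀ x : {g : G // orderOf g = p}, ∃ z' : G, orderOf z' = q ∧ Commute (x : G) z' := by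
    intro x
    obtain ⟨R, hR⟩ := IsPGroup.exists_le_sylow (p := p) (P := Subgroup.zpowers (x : G))
      (IsPGroup.of_card (n := 1) (by rw [Nat.card_zpowers, x.2, pow_one]))
    obtain ⟨g, rfl⟩ := MulAction.exists_smul_eq G P R
    have hx := hR (Subgroup.mem_zpowers (x : G))
    rw [Sylow.coe_subgroup_smul, Subgroup.mem_pointwise_smul_iff_inv_smul_mem, MulAut.smul_def,
      MulAut.conj_inv_apply] at hx
    refine ⟨g * z * g⁻¹, by rw [← MulAut.conj_apply, (MulAut.conj g).orderOf_eq]; exact hz, ?_⟩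
    have h1 := (hzc _ hx).eq
    show (x : G) * (g * z * g⁻¹) = g * z * g⁻¹ * x
    calc (x : G) * (g * z * g⁻¹) = g * (g⁻¹ * x * g * z) * g⁻¹ := by group
      _ = g * (z * (g⁻¹ * x * g)) * g⁻¹ := by rw [h1]
      _ = g * z * g⁻¹ * x := by group
  choose w hwq hwc using hex
  have hq3 := odd_prime_of_dvd hodd hq hqG
  have hcop : p.Coprime q := (Nat.coprime_primes hp hq).mpr hpq
  have hi : ∀ (x : {g : G // orderOf g = p}) (i : Fin 2), orderOf (w x ^ ((i : ℕ) + 1)) = q := by
    intro x i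
    rw [Nat.Coprime.orderOf_pow]
    · exact hwq x
    · rw [hwq x]
      exact hq.coprime_iff_not_dvd.mpr (fun h => by have := Nat.le_of_dvd (by omega) h; omega)
  let F : {g : G // orderOf g = p} × Fin 2 → {g : G // orderOf g = p * q} := fun t =>
    ⟨(t.1 : G) * w t.1 ^ ((t.2 : ℕ) + 1), by
      rw [((hwc t.1).pow_right _).orderOf_mul_eq_mul_orderOf_of_coprime (by rw [t.1.2, hi]; exact hcop),
        t.1.2, hi]⟩
  have hF : Function.Injective F := by
    rintro ⟨x, i⟩ ⟨y, j⟩ hxy
    have h1 : (x : G) * w x ^ ((i : ℕ) + 1) = y * w y ^ ((j : ℕ) + 1) := congrArg Subtype.val hxy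
    have h2 : ((x : G) * w x ^ ((i : ℕ) + 1)) ^ q = ((y : G) * w y ^ ((j : ℕ) + 1)) ^ q := by rw [h1]
    have hwp : ∀ (u : {g : G // orderOf g = p}) (k : Fin 2), (w u ^ ((k : ℕ) + 1)) ^ q = 1 := fun u k => by
      rw [← hi u k]; exact pow_orderOf_eq_one _
    rw [((hwc x).pow_right _).mul_pow, ((hwc y).pow_right _).mul_pow, hwp, hwp, mul_one, mul_one] at h2
    obtain ⟨u, hu⟩ := Nat.exists_mul_mod_eq_of_coprime 1 hcop.symm hp.ne_zero
    have hinv : ∀ v : {g : G // orderOf g = p}, ((v : G) ^ q) ^ u = v := fun v => by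
      conv_rhs => rw [← pow_one (v : G)]
      rw [← pow_mul, pow_inj_mod, v.2]
      exact hu.2
    have hxy' : x = y := Subtype.ext (by rw [← hinv x, ← hinv y, h2])
    subst hxy'
    have h3 := mul_left_cancel h1
    have h4 := pow_inj_mod.mp h3
    rw [hwq x, Nat.mod_eq_of_lt (by omega), Nat.mod_eq_of_lt (by omega)] at h4
    exact Prod.ext rfl (Fin.ext (by simpa using h4))
  have h5 := Nat.card_le_card_of_injective F hF
  rw [Nat.card_prod, Nat.card_fin] at h5
  change cnt G p * 2 ≤ cnt G (p * q) at h5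
  have := cnt_prime_ne_zero (G := G) hp hpG
  omega

/-- The two-prime case with `O_p ≠ 1`. -/
theorem frobenius_case {p q : ℕ} (hp : p.Prime) (hq : q.Prime) (hpq : p ≠ q) (hodd : Odd (Nat.card G))
    (hpG : p ∣ Nat.card G) (hqG : q ∣ Nat.card G)
    (hprimes : ∀ r, r.Prime → r ∣ Nat.card G → r = p ∨ r = q)
    (hv : ∀ m, 1 < m → cnt G m ≠ 0 → cnt G m = cnt G p ∨ cnt G m = cnt G q)
    (hab : cnt G p ≠ cnt G q) (hc : cnt G (p * q) = 0) (hsolv : Group.IsSolvable G)
    (hU : ∃ U : Subgroup G, U.Normal ∧ IsPGroup p U ∧ U ≠ ⊥) :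
    (∀ g : G, g ^ p = 1 ∨ g ^ q = 1) ∧
      ∃ C : Subgroup G, Cfsg.IsFrobeniusComplement C ∧ (Nat.card C).Prime := by
  classical
  haveI := Fact.mk hp
  haveI := Fact.mk hq
  have hp3 := odd_prime_of_dvd hodd hp hpG
  have hq3 := odd_prime_of_dvd hodd hq hqG
  -- congruences
  have hbp : p ∣ cnt G q := by
    have h : ((numPowOne G (p * q) : ℕ) : ZMod p) = 0 :=
      (ZMod.natCast_eq_zero_iff _ _).mpr (dvd_numPow (Nat.dvd_mul_right p q) hpG)
    rw [sum_divisors_two hp hq hpq, hc] at h
    push_cast at h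
    exact (ZMod.natCast_eq_zero_iff _ _).mp (by linear_combination h - cnt_prime_mod (G := G) hp hpG)
  have haq : q ∣ cnt G p := by
    have h : ((numPowOne G (p * q) : ℕ) : ZMod q) = 0 :=
      (ZMod.natCast_eq_zero_iff _ _).mpr (dvd_numPow (Nat.dvd_mul_left q p) hqG)
    rw [sum_divisors_two hp hq hpq, hc] at h
    push_cast at h
    exact (ZMod.natCast_eq_zero_iff _ _).mp (by linear_combination h - cnt_prime_mod (G := G) hq hqG)
  have hpa : ¬ p ∣ cnt G p := fun h => by
    have h1 := (ZMod.natCast_eq_zero_iff _ _).mpr h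
    rw [cnt_prime_mod hp hpG] at h1
    simp at h1
  -- every element has prime power order
  have hpp : ∀ g : G, (∃ k, orderOf g = p ^ k) ∨ ∃ k, orderOf g = q ^ k := by
    intro g
    by_contra hg
    push Not at hg
    have h1 : ∀ r s : ℕ, r.Prime → (∀ t, t.Prime → t ∣ orderOf g → t = r ∨ t = s) →
        (∀ k, orderOf g ≠ r ^ k) → s ∣ orderOf g := by
      intro r s hr hrs hne
      by_contra hs
      exact hne _ (Nat.eq_prime_pow_of_unique_prime_dvd (orderOf_pos g).ne' fun {d} hd hdd =>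
        (hrs d hd hdd).resolve_right (fun h => hs (h ▸ hdd)))
    have hsub : ∀ t, t.Prime → t ∣ orderOf g → t = p ∨ t = q :=
      fun t ht htd => hprimes t ht (htd.trans (orderOf_dvd_natCard g))
    have hdq := h1 p q hp hsub hg.1
    have hdp := h1 q p hq (fun t ht htd => (hsub t ht htd).symm) hg.2
    have hd := Nat.Coprime.mul_dvd_of_dvd_of_dvd ((Nat.coprime_primes hp hq).mpr hpq) hdp hdq
    exact cnt_ne_zero_iff.mpr ⟨g ^ (orderOf g / (p * q)), orderOf_pow_orderOf_div (orderOf_pos g).ne' hd⟩ hc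
  -- the core
  obtain ⟨P⟩ := (inferInstance : Nonempty (Sylow p G))
  set U := (P : Subgroup G).normalCore with hUdef
  have hUp : IsPGroup p U := P.2.to_le (Subgroup.normalCore_le _)
  have hmaxU : ∀ K : Subgroup G, K.Normal → IsPGroup p K → K ≤ U := by
    intro K hKn hK
    rw [hUdef, Subgroup.normal_le_normalCore]
    have h := P.2.to_sup_of_normal_right hK
    exact le_sup_right.trans (P.3 h le_sup_left).le
  have hUne : U ≠ ⊥ := by
    obtain ⟨K, hKn, hK, hK1⟩ := hU
    exact fun h => hK1 (le_bot_iff.mp (h ▸ hmaxU K hKn hK))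
  have hUq : ∀ y ∈ U, ∀ k, orderOf y = q ^ k → y = 1 := by
    intro y hy k hk
    obtain ⟨j, hj⟩ := hUp ⟨y, hy⟩
    have h := orderOf_dvd_of_pow_eq_one (congrArg Subtype.val hj : y ^ p ^ j = 1)
    rw [hk] at h
    exact orderOf_eq_one_iff.mp (hk.trans (Nat.eq_one_of_dvd_coprimes
      (((Nat.coprime_primes hp hq).mpr hpq).pow j k) h dvd_rfl))
  -- centralizers of nontrivial `q`-elements
  have hCq : ∀ y : G, y ≠ 1 → (∃ k, orderOf y = q ^ k) → IsPGroup q (Subgroup.centralizer ({y} : Set G)) := by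
    rintro y hy1 ⟨k, hk⟩ ⟨g, hg⟩
    obtain ⟨j, hj⟩ | ⟨j, hj⟩ := hpp g
    · rcases j with _ | j
      · exact ⟨0, Subtype.ext (by simpa using hj)⟩
      exfalso
      have hc' : Commute g y := Subgroup.mem_centralizer_singleton_iff.mp hg
      have ho : orderOf (g * y) = p ^ (j + 1) * q ^ k := by
        rw [hc'.orderOf_mul_eq_mul_orderOf_of_coprime (by
          rw [hj, hk]; exact ((Nat.coprime_primes hp hq).mpr hpq).pow _ _), hj, hk]
      have hk0 : k ≠ 0 := fun h => hy1 (orderOf_eq_one_iff.mp (by rw [hk, h, pow_zero]))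
      have hd : p * q ∣ orderOf (g * y) :=
        ho ▸ mul_dvd_mul (dvd_pow_self p j.succ_ne_zero) (dvd_pow_self q hk0)
      exact cnt_ne_zero_iff.mpr ⟨(g * y) ^ (orderOf (g * y) / (p * q)),
        orderOf_pow_orderOf_div (orderOf_pos _).ne' hd⟩ hc
    · exact ⟨j, Subtype.ext (by rw [← hj]; exact pow_orderOf_eq_one g)⟩
  have hqel : ∀ (S : Sylow q G), ∀ y ∈ (S : Subgroup G), ∃ k, orderOf y = q ^ k := by
    intro S y hy
    obtain ⟨j, hj⟩ := S.2 ⟨y, hy⟩
    obtain ⟨k, -, hk⟩ := (Nat.dvd_prime_pow hq).mp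
      (orderOf_dvd_of_pow_eq_one (congrArg Subtype.val hj : y ^ q ^ j = 1))
    exact ⟨k, hk⟩
  have hfpf : ∀ (S : Sylow q G), ∀ y ∈ (S : Subgroup G), y ≠ 1 → U ⊓ Subgroup.centralizer {y} = ⊥ := by
    intro S y hy hy1
    rw [Subgroup.eq_bot_iff_forall]
    rintro u ⟨huU, huC⟩
    obtain ⟨j, hj⟩ := hCq y hy1 (hqel S y hy) ⟨u, huC⟩
    obtain ⟨k, -, hk⟩ := (Nat.dvd_prime_pow hq).mp
      (orderOf_dvd_of_pow_eq_one (congrArg Subtype.val hj : u ^ q ^ j = 1))
    exact hUq u huU k hk
  haveI hUn : U.Normal := Subgroup.normalCore_normal _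
  have hnorm : ∀ H : Subgroup G, H ≤ Subgroup.normalizer (U : Set G) := fun H => by
    rw [Subgroup.normalizer_eq_top]; exact le_top
  have hcyc : ∀ S : Sylow q G, IsCyclic (S : Subgroup G) := fun S => by
    rcases Coprime.fpf_isCyclic_or_quaternion S.2 (hnorm _) (hfpf S) hUne with h | ⟨h, -⟩
    · exact h
    · omega
  have hcent : ∀ (S : Sylow q G), ∀ y ∈ (S : Subgroup G), y ≠ 1 →
      Subgroup.centralizer ({y} : Set G) = (S : Subgroup G) := by
    intro S y hy hy1
    refine S.3 (hCq y hy1 (hqel S y hy)) fun s hs => Subgroup.mem_centralizer_singleton_iff.mpr ?_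
    haveI := hcyc S
    exact congrArg Subtype.val ((IsCyclic.commGroup (α := (S : Subgroup G))).mul_comm ⟨s, hs⟩ ⟨y, hy⟩)
  have hcount : ∀ j, 1 ≤ j → ∀ S₀ : Sylow q G, q ^ j ∣ Nat.card S₀ →
      cnt G (q ^ j) = Nat.card (Sylow q G) * Nat.totient (q ^ j) := by
    intro j hj S₀ hd
    have hone : ∀ g : G, orderOf g = q ^ j → g ≠ 1 := fun g hg h => by
      rw [h, orderOf_one] at hg
      exact absurd hg.symm (Nat.one_lt_pow (by omega) hq.one_lt).ne'
    have e : {g : G // orderOf g = q ^ j} ≃ Sylow q G × {y : (S₀ : Subgroup G) // orderOf y = q ^ j} := by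
      refine Equiv.trans ?_ ((Equiv.sigmaCongrRight fun S : Sylow q G =>
        ((S.equiv S₀).toEquiv.subtypeEquiv (fun y => by simp) :
          {y : (S : Subgroup G) // orderOf y = q ^ j} ≃ {y : (S₀ : Subgroup G) // orderOf y = q ^ j})).trans
          (Equiv.sigmaEquivProd _ _))
      refine (Equiv.ofBijective (fun t : Σ S : Sylow q G, {y : (S : Subgroup G) // orderOf y = q ^ j} =>
        (⟨(t.2.1 : G), by rw [Subgroup.orderOf_coe]; exact t.2.2⟩ : {g : G // orderOf g = q ^ j})) ⟨?_, ?_⟩).symm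
      · rintro ⟨S, y⟩ ⟨T, z⟩ h
        have h' : ((y.1 : G)) = z.1 := congrArg Subtype.val h
        have hy1 := hone _ ((Subgroup.orderOf_coe _).trans y.2)
        have hST : S = T := Sylow.ext ((hcent S _ y.1.2 hy1).symm.trans (by
          rw [h']; exact hcent T _ z.1.2 (h' ▸ hy1)))
        subst hST
        exact congrArg (Sigma.mk S) (Subtype.ext (Subtype.ext h'))
      · rintro ⟨g, hg⟩
        obtain ⟨S, hS⟩ := IsPGroup.exists_le_sylow (p := q) (P := Subgroup.zpowers g)
          (IsPGroup.of_card (n := j) (by rw [Nat.card_zpowers, hg]))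
        exact ⟨⟨S, ⟨⟨g, hS (Subgroup.mem_zpowers g)⟩, by rw [Subgroup.orderOf_mk]; exact hg⟩⟩, rfl⟩
    rw [cnt, Nat.card_congr e, Nat.card_prod]
    congr 1
    haveI := hcyc S₀
    haveI := Fintype.ofFinite (S₀ : Subgroup G)
    rw [Nat.card_eq_fintype_card, Fintype.card_subtype]
    exact IsCyclic.card_orderOf_eq_totient (by rw [← Nat.card_eq_fintype_card]; exact hd)
  -- the Sylow `q`-subgroup has order `q`
  obtain ⟨Q⟩ := (inferInstance : Nonempty (Sylow q G))
  obtain ⟨f, hf⟩ := IsPGroup.iff_card.mp Q.2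
  have hQd : q ∣ Nat.card Q := Q.dvd_card_of_dvd_card hqG
  have hbcnt : cnt G q = Nat.card (Sylow q G) * (q - 1) := by
    have := hcount 1 le_rfl Q (by rwa [pow_one])
    rwa [pow_one, Nat.totient_prime hq] at this
  have hb0 := cnt_prime_ne_zero (G := G) hq hqG
  have hQcard : Nat.card Q = q := by
    rcases Nat.lt_or_ge f 2 with hf2 | hf2
    · interval_cases f
      · rw [hf, pow_zero, Nat.dvd_one] at hQd; omega
      · rw [hf, pow_one]
    exfalso
    have h2 := hcount 2 (by omega) Q (hf ▸ pow_dvd_pow q hf2)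
    rw [Nat.totient_prime_pow hq (by omega), show 2 - 1 = 1 from rfl, pow_one,
      show Nat.card (Sylow q G) * (q * (q - 1)) = q * cnt G q by rw [hbcnt]; ring] at h2
    have hlt : cnt G q < q * cnt G q := lt_mul_of_one_lt_left (by omega) hq.one_lt
    rcases hv (q ^ 2) (Nat.one_lt_pow (by omega) hq.one_lt) (by omega) with h | h
    · exact hpa (by rw [← h, h2]; exact hbp.mul_left q)
    · omega
  -- normalizer of `Q`
  obtain ⟨y, hy⟩ := exists_prime_orderOf_dvd_card' (G := (Q : Subgroup G)) q hQd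
  have hy1 : (y : G) ≠ 1 := fun h => by
    rw [← Subgroup.orderOf_coe, h, orderOf_one] at hy; omega
  have hUN : U ⊓ Subgroup.normalizer ((Q : Subgroup G) : Set G) = ⊥ := by
    rw [Subgroup.eq_bot_iff_forall]
    rintro u ⟨huU, huN⟩
    have h1 : u * y * u⁻¹ * (y : G)⁻¹ ∈ U := by
      rw [show u * y * u⁻¹ * (y : G)⁻¹ = u * ((y : G) * u⁻¹ * (y : G)⁻¹) by group]
      exact mul_mem huU (hUn.conj_mem _ (inv_mem huU) _)
    have h2 : u * y * u⁻¹ * (y : G)⁻¹ ∈ (Q : Subgroup G) :=
      mul_mem ((Subgroup.mem_normalizer_iff.mp huN _).mp y.2) (inv_mem y.2)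
    obtain ⟨k, hk⟩ := hqel Q _ h2
    have h3 := hUq _ h1 k hk
    rw [mul_inv_eq_one, mul_inv_eq_iff_eq_mul] at h3
    have h4 : u ∈ Subgroup.centralizer ({(y : G)} : Set G) := Subgroup.mem_centralizer_singleton_iff.mpr h3
    rw [hcent Q _ y.2 hy1] at h4
    obtain ⟨k', hk'⟩ := hqel Q _ h4
    exact hUq u huU k' hk'
  have hsup : U ⊔ Subgroup.normalizer ((Q : Subgroup G) : Set G) = ⊤ := by
    haveI : Group.IsSolvable (G ⧸ U) := Group.isSolvable_of_surjective (QuotientGroup.mk'_surjective U)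
    set f := QuotientGroup.mk' U
    have hne : (⊤ : Subgroup (G ⧸ U)) ≠ ⊥ := by
      intro h
      have h1 : f (y : G) = 1 := Subgroup.mem_bot.mp (h ▸ Subgroup.mem_top _)
      obtain ⟨k, hk⟩ := hqel Q _ y.2
      exact hy1 (hUq _ ((QuotientGroup.eq_one_iff _).mp h1) k hk)
    obtain ⟨K, hKn, r, hr, hrK, hKp⟩ : ∃ K : Subgroup (G ⧸ U), K.Normal ∧
        ∃ r : ℕ, r.Prime ∧ r ∣ Nat.card K ∧ IsPGroup r K := by
      have hex : ∃ n, derivedSeries (G ⧸ U) n = ⊥ := Group.IsSolvable.solvable
      obtain ⟨m, hm⟩ : ∃ m, Nat.find hex = m + 1 := Nat.exists_eq_succ_of_ne_zero (fun h0 => hne (by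
        have := Nat.find_spec hex; rwa [h0, derivedSeries_zero] at this))
      set A := derivedSeries (G ⧸ U) m
      have hA : A ≠ ⊥ := Nat.find_min hex (by omega)
      haveI : IsMulCommutative A := by
        have h := Nat.find_spec hex
        rw [hm, derivedSeries_succ, Subgroup.commutator_eq_bot_iff_le_centralizer] at h
        exact Subgroup.le_centralizer_iff_isMulCommutative.mp h
      haveI : A.Normal := derivedSeries_normal _ m
      obtain ⟨r, hr, hrA⟩ := Nat.exists_prime_and_dvd (mt Subgroup.card_eq_one.mp hA)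
      haveI := Fact.mk hr
      obtain ⟨S⟩ := (inferInstance : Nonempty (Sylow r A))
      haveI : (S : Subgroup A).Normal := Subgroup.normal_of_isMulCommutative _
      haveI := S.characteristic_of_normal inferInstance
      refine ⟨(S : Subgroup A).map A.subtype, inferInstance, r, hr, ?_, S.2.map _⟩
      rw [Subgroup.card_map_of_injective A.subtype_injective]
      exact S.dvd_card_of_dvd_card hrA
    have hrG : r ∣ Nat.card G :=
      (hrK.trans (Subgroup.card_subgroup_dvd_card K)).trans (Subgroup.card_quotient_dvd_card U)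
    rcases hprimes r hr hrG with hrp | hrp
    · rw [hrp] at hKp
      exfalso
      have hle : U ≤ K.comap f := fun u hu => by
        rw [Subgroup.mem_comap, show f u = 1 from (QuotientGroup.eq_one_iff u).mpr hu]; exact one_mem K
      have h := hmaxU (K.comap f) inferInstance
        (hKp.comap_of_ker_isPGroup f (by rw [QuotientGroup.ker_mk']; exact hUp))
      have hK1 : K = ⊥ := by
        rw [eq_bot_iff]
        intro x hx
        obtain ⟨g, rfl⟩ := QuotientGroup.mk'_surjective U x
        exact Subgroup.mem_bot.mpr ((QuotientGroup.eq_one_iff g).mpr (h hx))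
      rw [hK1, Subgroup.card_bot, Nat.dvd_one] at hrK
      exact hr.ne_one hrK
    · rw [hrp] at hKp hrK
      haveI := hKn
      set M := K.comap f
      obtain ⟨S, hS⟩ := IsPGroup.exists_le_sylow hKp
      obtain ⟨S₀, rfl⟩ := Sylow.mapSurjective_surjective (QuotientGroup.mk'_surjective U) q S
      have hSM : ∀ T : Sylow q G, (T : Subgroup G) ≤ M := by
        have hK : K = ((S₀ : Subgroup G).map f) := by
          refine Subgroup.eq_of_le_of_card_ge (by simpa using hS) ?_
          have h1 : Nat.card ((S₀ : Subgroup G).map f) ≤ Nat.card (S₀ : Subgroup G) :=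
            Nat.le_of_dvd Nat.card_pos (Subgroup.card_map_dvd _ _)
          refine h1.trans ?_
          rw [Nat.card_congr (S₀.equiv Q).toEquiv, hQcard]
          exact Nat.le_of_dvd Nat.card_pos hrK
        intro T
        obtain ⟨g, rfl⟩ := MulAction.exists_smul_eq G S₀ T
        rw [Sylow.coe_subgroup_smul]
        rintro _ ⟨s, hs, rfl⟩
        show f (g * s * g⁻¹) ∈ K
        rw [map_mul, map_mul, map_inv]
        exact hKn.conj_mem _ (hK ▸ Subgroup.mem_map_of_mem f hs) _
      haveI : M.Normal := Subgroup.Normal.comap hKn f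
      have hfr := Sylow.normalizer_sup_eq_top (Q.subtype (hSM Q))
      rw [Sylow.coe_subtype, Subgroup.map_subgroupOf_eq_of_le (hSM Q)] at hfr
      refine top_le_iff.mp (hfr ▸ sup_le le_sup_right ?_)
      intro g hg
      have hKQ : K = (Q : Subgroup G).map f := by
        symm
        refine Subgroup.eq_of_le_of_card_ge (Subgroup.map_le_iff_le_comap.mpr (hSM Q)) ?_
        have hinj : Function.Injective (f.comp (Q : Subgroup G).subtype) := by
          rw [injective_iff_map_eq_one]
          intro t ht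
          obtain ⟨k, hk⟩ := hqel Q t t.2
          exact Subtype.ext (hUq t ((QuotientGroup.eq_one_iff (t : G)).mp ht) k hk)
        have hmap : Nat.card ((Q : Subgroup G).map f) = q := by
          rw [show (Q : Subgroup G).map f = (f.comp (Q : Subgroup G).subtype).range by
            rw [MonoidHom.range_comp, Subgroup.range_subtype], Nat.card_congr (MonoidHom.ofInjective hinj).symm.toEquiv, hQcard]
        rw [hmap]
        obtain ⟨c, hc'⟩ := IsPGroup.iff_card.mp hKp
        have hd : Nat.card K ∣ q ^ (Nat.card G).factorization q := by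
          rw [hc']
          exact pow_dvd_pow q ((hq.pow_dvd_iff_le_factorization Nat.card_pos.ne').mp
            (hc' ▸ (Subgroup.card_subgroup_dvd_card K).trans (Subgroup.card_quotient_dvd_card U)))
        rw [← Q.card_eq_multiplicity, hQcard] at hd
        exact Nat.le_of_dvd hq.pos hd
      obtain ⟨s, hs, hsg⟩ := (hKQ ▸ hg : f g ∈ (Q : Subgroup G).map f)
      rw [show g = g * s⁻¹ * s by group]
      exact mul_mem (Subgroup.mem_sup_left ((QuotientGroup.eq_one_iff _).mp (by
        show f (g * s⁻¹) = 1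
        rw [map_mul, map_inv, hsg, mul_inv_cancel])))
        (Subgroup.mem_sup_right (Subgroup.le_normalizer hs))
  set N := Subgroup.normalizer ((Q : Subgroup G) : Set G) with hN
  have hn : Nat.card (Sylow q G) = Nat.card U := by
    rw [Sylow.card_eq_index_normalizer Q]
    have h := Subgroup.card_mul_index N
    have hc' : Subgroup.IsComplement' U N := Subgroup.isComplement'_of_disjoint_and_mul_eq_univ
      (disjoint_iff.mpr hUN) (by rw [← Subgroup.normal_mul, hsup, Subgroup.coe_top])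
    rw [← hc'.card_mul, mul_comm (Nat.card U)] at h
    exact Nat.eq_of_mul_eq_mul_left Nat.card_pos h
  have hGcard : Nat.card G = Nat.card U * Nat.card N := by
    rw [← hn, Sylow.card_eq_index_normalizer Q]
    exact (Subgroup.index_mul_card N).symm
  -- `Nat.card N = q * p ^ s`
  obtain ⟨T⟩ := (inferInstance : Nonempty (Sylow p N))
  obtain ⟨s, hs⟩ := IsPGroup.iff_card.mp T.2
  have hQN : (Q : Subgroup G) ≤ N := Subgroup.le_normalizer
  have hNcard : Nat.card N = q * p ^ s := by
    refine Nat.eq_of_factorization_eq Nat.card_pos.ne' (mul_pos hq.pos (pow_pos hp.pos s)).ne' fun r => ?_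
    rw [Nat.factorization_mul hq.ne_zero (pow_ne_zero s hp.ne_zero), Finsupp.add_apply,
      hp.factorization_pow, hq.factorization, Finsupp.single_apply, Finsupp.single_apply]
    by_cases hrp : p = r
    · subst hrp
      rw [if_neg hpq.symm, if_pos rfl, zero_add]
      exact Nat.pow_right_injective hp.two_le (T.card_eq_multiplicity.symm.trans hs)
    by_cases hrq : q = r
    · subst hrq
      rw [if_pos rfl, if_neg hpq, add_zero]
      refine le_antisymm ?_ ((hq.pow_dvd_iff_le_factorization Nat.card_pos.ne').mp ?_)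
      · have h1 : (Nat.card N).factorization q ≤ (Nat.card G).factorization q :=
          (Nat.factorization_le_iff_dvd Nat.card_pos.ne' Nat.card_pos.ne').mpr
            (Subgroup.card_subgroup_dvd_card N) q
        have h2 : q ^ (Nat.card G).factorization q = q ^ 1 := by
          rw [← Q.card_eq_multiplicity, hQcard, pow_one]
        rw [Nat.pow_right_injective hq.two_le h2] at h1
        exact h1
      · rw [pow_one, ← hQcard]; exact Subgroup.card_dvd_of_le hQN
    rw [if_neg hrq, if_neg hrp, add_zero]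
    by_cases hr : r.Prime
    · refine Nat.factorization_eq_zero_of_not_dvd fun h => ?_
      rcases hprimes r hr (h.trans (Subgroup.card_subgroup_dvd_card N)) with h' | h'
      · exact hrp h'.symm
      · exact hrq h'.symm
    · exact Nat.factorization_eq_zero_of_not_prime _ hr
  set T' := (T : Subgroup N).map N.subtype
  have hT'card : Nat.card T' = p ^ s := by rw [Subgroup.card_map_of_injective N.subtype_injective, hs]
  have hT'Q : T' ≤ Subgroup.normalizer ((Q : Subgroup G) : Set G) := Subgroup.map_subtype_le _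
  have hT'fpf : ∀ t ∈ T', t ≠ 1 → (Q : Subgroup G) ⊓ Subgroup.centralizer {t} = ⊥ := by
    intro t ht ht1
    rw [Subgroup.eq_bot_iff_forall]
    rintro x ⟨hxQ, hxC⟩
    by_contra hx1
    have h : t ∈ Subgroup.centralizer ({x} : Set G) := Subgroup.mem_centralizer_singleton_iff.mpr
      (Subgroup.mem_centralizer_singleton_iff.mp hxC).symm
    rw [hcent Q x hxQ hx1] at h
    obtain ⟨k, hk⟩ := hqel Q t h
    have h2 := Subgroup.orderOf_dvd_natCard T' ht
    rw [hT'card, hk] at h2
    exact ht1 (orderOf_eq_one_iff.mp (hk.trans (Nat.eq_one_of_dvd_coprimes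
      (((Nat.coprime_primes hp hq).mpr hpq).pow s k) h2 dvd_rfl)))
  have hps : p ^ s ≤ q - 1 := by
    have h := Coprime.fpf_card_mod hT'Q hT'fpf
    rw [hQcard, hT'card] at h
    exact Nat.le_of_dvd (by omega) ((Nat.modEq_iff_dvd' hq.one_lt.le).mp h.symm)
  rw [hn] at hbcnt
  rw [hNcard] at hGcard
  -- no element of order `p ^ 2`
  set k := (Nat.card G).factorization p with hk
  have hsplit : Nat.card G = numPowOne G (p ^ k) + cnt G q := by
    rw [numPowOne, cnt, ← Nat.card_sum]
    refine (Nat.card_congr (Equiv.sumCompl fun g : G => g ^ p ^ k = 1)).symm.trans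
      (Nat.card_congr (Equiv.sumCongr (Equiv.refl _) (Equiv.subtypeEquivRight fun g => ?_)))
    constructor
    · intro hg
      rcases hpp g with ⟨j, hj⟩ | ⟨j, hj⟩
      · exfalso; apply hg
        rw [← orderOf_dvd_iff_pow_eq_one, hj]
        exact pow_dvd_pow p ((hp.pow_dvd_iff_le_factorization Nat.card_pos.ne').mp (hj ▸ orderOf_dvd_natCard g))
      · rcases j with _ | _ | j
        · exact absurd (by rw [← orderOf_dvd_iff_pow_eq_one, hj]; exact one_dvd _) hg
        · rw [hj, zero_add, pow_one]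
        · exfalso
          have h1 := (hq.pow_dvd_iff_le_factorization Nat.card_pos.ne').mp (hj ▸ orderOf_dvd_natCard g)
          have h2 : q ^ (Nat.card G).factorization q = q ^ 1 := by
            rw [← Q.card_eq_multiplicity, hQcard, pow_one]
          rw [Nat.pow_right_injective hq.two_le h2] at h1
          omega
    · intro hg h
      have h' := orderOf_dvd_of_pow_eq_one h
      rw [hg] at h'
      exact hpq ((Nat.prime_dvd_prime_iff_eq hq hp).mp (hq.dvd_of_dvd_pow h')).symm
  have hlev : ∀ j, 2 ≤ j → cnt G (p ^ j) ≠ 0 → cnt G (p ^ j) = cnt G q := fun j hj h0 =>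
    (hv _ (Nat.one_lt_pow (by omega) hp.one_lt) h0).resolve_left fun h =>
      hpa (h ▸ cnt_prime_pow_mod hp hj)
  have hk1 : 1 ≤ k := hp.factorization_pos_of_dvd Nat.card_pos.ne' hpG
  set J := (Finset.range (k - 1)).filter (fun j => cnt G (p ^ (j + 2)) ≠ 0) with hJ
  have hsum : numPowOne G (p ^ k) = 1 + cnt G p + J.card * cnt G q := by
    rw [numPowOne_eq_sum (pow_pos hp.pos k), Nat.sum_divisors_prime_pow hp,
      show k + 1 = k - 1 + 1 + 1 by omega, Finset.sum_range_succ', Finset.sum_range_succ',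
      pow_zero, zero_add, pow_one, cnt_one]
    have : ∑ j ∈ Finset.range (k - 1), cnt G (p ^ (j + 1 + 1)) = J.card * cnt G q := by
      rw [← Finset.sum_filter_ne_zero, Finset.sum_congr rfl (g := fun _ => cnt G q) (fun j hj => ?_),
        Finset.sum_const, smul_eq_mul]
      exact hlev _ (by omega) (Finset.mem_filter.mp hj).2
    omega
  rw [hsum] at hsplit
  have hJq : q ∣ J.card := by
    have h : ((Nat.card G : ℕ) : ZMod q) = 0 := (ZMod.natCast_eq_zero_iff _ _).mpr hqG
    rw [hsplit] at h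
    push_cast at h
    rw [cnt_prime_mod hq hqG, (ZMod.natCast_eq_zero_iff _ _).mpr haq] at h
    exact (ZMod.natCast_eq_zero_iff _ _).mp (by linear_combination -h)
  have hJ0 : J.card = 0 := by
    rcases Nat.eq_zero_or_pos J.card with h | h
    · exact h
    exfalso
    have hqJ := Nat.le_of_dvd h hJq
    have h1 : q * (Nat.card U * (q - 1)) ≤ J.card * cnt G q := by
      rw [hbcnt]; exact Nat.mul_le_mul_right _ hqJ
    have h2 : Nat.card U * (q * p ^ s) ≤ q * (Nat.card U * (q - 1)) := by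
      rw [← mul_assoc, ← mul_assoc, mul_comm q (Nat.card U)]
      exact Nat.mul_le_mul_left _ hps
    omega
  have hp2 : ∀ j, 2 ≤ j → cnt G (p ^ j) = 0 := by
    intro j hj
    by_contra h
    obtain ⟨g, hg⟩ := cnt_ne_zero_iff.mp h
    have hjk := (hp.pow_dvd_iff_le_factorization Nat.card_pos.ne').mp (hg ▸ orderOf_dvd_natCard g)
    have hmem : j - 2 ∈ J := Finset.mem_filter.mpr
      ⟨Finset.mem_range.mpr (by omega), by rw [show j - 2 + 2 = j by omega]; exact h⟩
    rw [Finset.card_eq_zero.mp hJ0] at hmem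
    simp at hmem
  have hexp : ∀ g : G, g ^ p = 1 ∨ g ^ q = 1 := by
    intro g
    rcases hpp g with ⟨j, hj⟩ | ⟨j, hj⟩
    · left
      rw [← orderOf_dvd_iff_pow_eq_one, hj]
      rcases j with _ | _ | j
      · exact one_dvd _
      · rw [zero_add, pow_one]
      · exact absurd (hp2 _ (by omega)) (cnt_ne_zero_iff.mpr ⟨g, hj⟩)
    · right
      rw [← orderOf_dvd_iff_pow_eq_one, hj]
      have h1 := (hq.pow_dvd_iff_le_factorization Nat.card_pos.ne').mp (hj ▸ orderOf_dvd_natCard g)
      have h2 : q ^ (Nat.card G).factorization q = q ^ 1 := by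
        rw [← Q.card_eq_multiplicity, hQcard, pow_one]
      rw [Nat.pow_right_injective hq.two_le h2] at h1
      exact (pow_dvd_pow q h1).trans (by rw [pow_one])
  refine ⟨hexp, ?_⟩
  -- `s = 0`
  have hs0 : s = 0 := by
    by_contra hs0
    obtain ⟨c, hcT⟩ := exists_prime_orderOf_dvd_card' (G := T') p (hT'card ▸ dvd_pow_self p hs0)
    haveI : Group.IsNilpotent U := hUp.isNilpotent
    haveI : Nontrivial U := (Subgroup.nontrivial_iff_ne_bot U).mpr hUne
    obtain ⟨⟨v, hvU⟩, hvc, hv1⟩ :=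
      (Subgroup.bot_or_exists_ne_one _).resolve_left (Group.IsNilpotent.center_ne_bot U)
    set V := (Subgroup.center U).map U.subtype with hV
    haveI : V.Normal := inferInstance
    haveI : IsMulCommutative V := ⟨⟨by
      rintro ⟨_, a, ha, rfl⟩ ⟨_, b, hb, rfl⟩
      exact Subtype.ext (show (a : G) * (b : G) = b * a from congrArg Subtype.val (Subgroup.mem_center_iff.mp hb a))⟩⟩
    have hVU : V ≤ U := Subgroup.map_subtype_le _
    let φ : G →* MulAut V := MulAut.conjNormal
    haveI := Fintype.ofFinite (Q : Subgroup G)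
    have hQsum : ∀ w : V, ∏ z : (Q : Subgroup G), φ (z : G) w = 1 := by
      intro w
      set S := ∏ z : (Q : Subgroup G), φ (z : G) w
      have hfix : φ (y : G) S = S := by
        simp only [S, map_prod]
        refine Fintype.prod_equiv (Equiv.mulLeft y) _ _ fun z => ?_
        rw [Equiv.coe_mulLeft, Subgroup.coe_mul, map_mul, MulAut.mul_apply]
      have h1 : (S : G) ∈ U ⊓ Subgroup.centralizer {(y : G)} := by
        refine ⟨hVU S.2, Subgroup.mem_centralizer_singleton_iff.mpr ?_⟩
        have := congrArg Subtype.val hfix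
        rw [MulAut.conjNormal_apply] at this
        exact (mul_inv_eq_iff_eq_mul.mp this).symm
      rw [hfpf Q y y.2 hy1, Subgroup.mem_bot] at h1
      exact Subtype.ext h1
    have hexpand : ∀ (g : G) (w : V) (n : ℕ), ((w : G) * g) ^ n =
        ((∏ i ∈ Finset.range n, φ (g ^ i) w : V) : G) * g ^ n := by
      intro g w n
      induction n with
      | zero => simp
      | succ n ih =>
        rw [pow_succ, ih, Finset.prod_range_succ, Subgroup.coe_mul, MulAut.conjNormal_apply, pow_succ]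
        group
    have hnormone : ∀ g : G, orderOf g = p → ∀ w : V, ∏ i ∈ Finset.range p, φ (g ^ i) w = 1 := by
      intro g hg w
      have hgp : g ^ p = 1 := hg ▸ pow_orderOf_eq_one g
      have hwU : IsPGroup p (Subgroup.zpowers g ⊔ U : Subgroup G) :=
        (IsPGroup.of_card (n := 1) (by rw [Nat.card_zpowers, hg, pow_one])).to_sup_of_normal_right hUp
      obtain ⟨j, hj⟩ := hwU ⟨(w : G) * g,
        mul_mem (Subgroup.mem_sup_right (hVU w.2)) (Subgroup.mem_sup_left (Subgroup.mem_zpowers g))⟩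
      have hj' : ((w : G) * g) ^ p ^ j = 1 := congrArg Subtype.val hj
      have h1 : ((w : G) * g) ^ p = 1 := by
        rcases hexp ((w : G) * g) with h | h
        · exact h
        · have h2 := pow_gcd_eq_one.mpr ⟨h, hj'⟩
          rw [Nat.Coprime.pow_right j ((Nat.coprime_primes hq hp).mpr hpq.symm) |>.gcd_eq_one, pow_one] at h2
          rw [h2, one_pow]
      rw [hexpand, hgp, mul_one] at h1
      exact Subtype.ext h1
    let w : V := ⟨v, ⟨v, hvU⟩, hvc, rfl⟩
    have hcT' : (c : G) ∈ T' := c.2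
    have hoc : orderOf (c : G) = p := (Subgroup.orderOf_coe c).trans hcT
    have hcN : ∀ i : ℕ, ∀ z : (Q : Subgroup G), (c : G) ^ i * (z : G)⁻¹ * ((c : G) ^ i)⁻¹ ∈ (Q : Subgroup G) :=
      fun i z => (Subgroup.mem_normalizer_iff.mp (hT'Q (pow_mem hcT' i)) _).mp (inv_mem z.2)
    have hterm : ∀ i ∈ Finset.range p, i ≠ 0 →
        ∏ z : (Q : Subgroup G), φ (((z : G) * c * (z : G)⁻¹) ^ i) w = 1 := by
      intro i hi hi0
      have hmap : ∀ z : (Q : Subgroup G), ((z : G) * c * (z : G)⁻¹) ^ i =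
          ((z : G) * ((c : G) ^ i * (z : G)⁻¹ * ((c : G) ^ i)⁻¹)) * (c : G) ^ i := fun z => by
        rw [conj_pow]; group
      have hbij : Function.Bijective (fun z : (Q : Subgroup G) =>
          (⟨(z : G) * ((c : G) ^ i * (z : G)⁻¹ * ((c : G) ^ i)⁻¹), mul_mem z.2 (hcN i z)⟩ : (Q : Subgroup G))) := by
        refine (Finite.injective_iff_bijective).mp fun a b hab => ?_
        have h1 : (a : G) * ((c : G) ^ i * (a : G)⁻¹ * ((c : G) ^ i)⁻¹) =
          (b : G) * ((c : G) ^ i * (b : G)⁻¹ * ((c : G) ^ i)⁻¹) := congrArg Subtype.val hab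
        have hd : (b : G)⁻¹ * a ∈ (Q : Subgroup G) ⊓ Subgroup.centralizer {(c : G) ^ i} := by
          refine ⟨Subgroup.mul_mem _ (Subgroup.inv_mem _ b.2) a.2, Subgroup.mem_centralizer_singleton_iff.mpr ?_⟩
          calc (b : G)⁻¹ * a * (c : G) ^ i
              = (b : G)⁻¹ * ((a : G) * ((c : G) ^ i * (a : G)⁻¹ * ((c : G) ^ i)⁻¹)) * (c : G) ^ i * a := by group
            _ = (b : G)⁻¹ * ((b : G) * ((c : G) ^ i * (b : G)⁻¹ * ((c : G) ^ i)⁻¹)) * (c : G) ^ i * a := by rw [h1]
            _ = (c : G) ^ i * ((b : G)⁻¹ * a) := by group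
        rw [hT'fpf _ (pow_mem hcT' i) (fun h => ?_), Subgroup.mem_bot, inv_mul_eq_one] at hd
        · exact Subtype.ext hd.symm
        · have h2 := Nat.le_of_dvd (Nat.pos_of_ne_zero hi0) (hoc ▸ orderOf_dvd_of_pow_eq_one h)
          have := Finset.mem_range.mp hi
          omega
      rw [← hQsum (φ ((c : G) ^ i) w)]
      refine Fintype.prod_bijective _ hbij _ _ fun z => ?_
      rw [hmap, map_mul, MulAut.mul_apply]
    have htot : ∏ z : (Q : Subgroup G), ∏ i ∈ Finset.range p, φ (((z : G) * c * (z : G)⁻¹) ^ i) w = 1 :=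
      Finset.prod_eq_one fun z _ => hnormone _ (by
        rw [← MulAut.conj_apply, (MulAut.conj (z : G)).orderOf_eq, hoc]) w
    rw [Finset.prod_comm, Finset.prod_eq_single 0 hterm (fun h => absurd (Finset.mem_range.mpr hp.pos) h)] at htot
    simp only [pow_zero, map_one, MulAut.one_apply, Finset.prod_const, Finset.card_univ] at htot
    rw [← Nat.card_eq_fintype_card, hQcard] at htot
    have h1 : v ^ q = 1 := congrArg Subtype.val htot
    obtain ⟨j, hj⟩ := hUp ⟨v, hvU⟩
    have h2 := pow_gcd_eq_one.mpr ⟨h1, (congrArg Subtype.val hj : v ^ p ^ j = 1)⟩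
    rw [Nat.Coprime.pow_right j ((Nat.coprime_primes hq hp).mpr hpq.symm) |>.gcd_eq_one, pow_one] at h2
    exact hv1 (Subtype.ext h2)
  rw [hs0, pow_zero, mul_one] at hNcard
  have hNQ : N = (Q : Subgroup G) :=
    (Subgroup.eq_of_le_of_card_ge hQN (by rw [hNcard, hQcard])).symm
  refine ⟨Q, ⟨?_, ?_, ?_⟩, hQcard.symm ▸ hq⟩
  · intro h
    have h' := hQcard
    rw [h, Subgroup.card_bot] at h'
    exact hq.ne_one h'.symm
  · intro h
    refine hUne (le_bot_iff.mp (hUN ▸ le_inf le_rfl ?_))
    rw [hNQ, h]; exact le_top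
  · intro g hg
    rw [Subgroup.eq_bot_iff_forall]
    rintro x ⟨hxQ, hxg⟩
    by_contra hx1
    refine hg (hNQ ▸ (Sylow.smul_eq_iff_mem_normalizer.mp (Sylow.ext ?_) : g ∈ N))
    rw [← hcent Q x hxQ hx1]
    exact (hcent (g • Q) x hxg hx1).symm

/-- The theorem. -/
theorem main (hodd : Odd (Nat.card G))
    (h : ((fun m : ℕ => cnt G m) '' Set.range (orderOf : G → ℕ)).ncard = 3) :
    (Nat.card G).primeFactors.card ≤ 2 ∧
      ((Nat.card G).primeFactors.card = 2 →
        (∀ (p : ℕ) [Fact p.Prime] (P : Sylow p G), p ∣ Nat.card G → Monoid.exponent ↥(P : Subgroup G) = p) ∧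
        ∃ C : Subgroup G, Cfsg.IsFrobeniusComplement C ∧ (Nat.card ↥C).Prime) := by
  classical
  set S := (fun m : ℕ => cnt G m) '' Set.range (orderOf : G → ℕ)
  have h1S : (1 : ℕ) ∈ S := ⟨1, ⟨1, orderOf_one⟩, cnt_one⟩
  have h2 : (S \ {1}).ncard = 2 := by rw [Set.ncard_sdiff_singleton_of_mem h1S, h]
  obtain ⟨a, b, hab, hS⟩ := Set.ncard_eq_two.mp h2
  have hv : ∀ m, 1 < m → cnt G m ≠ 0 → cnt G m = a ∨ cnt G m = b := by
    intro m hm h0
    obtain ⟨g, hg⟩ := cnt_ne_zero_iff.mp h0
    have hne : cnt G m ≠ 1 := by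
      intro h1
      have ht : m.totient ∣ cnt G m := totient_dvd_card_orderOf m
      rw [h1] at ht
      rcases Nat.totient_eq_one_iff.mp (Nat.dvd_one.mp ht) with h | h
      · omega
      · exact hodd.not_two_dvd_nat (h ▸ hg ▸ orderOf_dvd_natCard g)
    have : cnt G m ∈ S \ {1} := ⟨⟨m, ⟨g, hg⟩, rfl⟩, hne⟩
    rwa [hS] at this
  have hdist : ∀ p q : ℕ, p.Prime → q.Prime → p ≠ q → p ∣ Nat.card G → q ∣ Nat.card G → cnt G p ≠ cnt G q := by
    intro p q hp hq hpq hpG hqG heq
    rcases hv p hp.one_lt (cnt_prime_ne_zero hp hpG) with hpa | hpa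
    · exact cnt_ne_cnt hodd a b hv hp hq hpq hpG hqG hpa (heq ▸ hpa)
    · exact cnt_ne_cnt hodd b a (fun m hm h0 => (hv m hm h0).symm) hp hq hpq hpG hqG hpa (heq ▸ hpa)
  have hpf : ∀ p ∈ (Nat.card G).primeFactors, p.Prime ∧ p ∣ Nat.card G := fun p hp =>
    ⟨(Nat.mem_primeFactors.mp hp).1, (Nat.mem_primeFactors.mp hp).2.1⟩
  refine ⟨?_, fun hcard => ?_⟩
  · refine le_trans (Finset.card_le_card_of_injOn (cnt G) (t := ({a, b} : Finset ℕ)) ?_ ?_)
      Finset.card_le_two
    · intro p hp
      have hp' := hpf p (Finset.mem_coe.mp hp)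
      have := hv p hp'.1.one_lt (cnt_prime_ne_zero hp'.1 hp'.2)
      simpa using this
    · intro p hp q hq heq
      by_contra hne
      exact hdist p q (hpf p hp).1 (hpf q hq).1 hne (hpf p hp).2 (hpf q hq).2 heq
  obtain ⟨p, q, hpq, hpfeq⟩ := Finset.card_eq_two.mp hcard
  obtain ⟨hp, hpG⟩ := hpf p (by rw [hpfeq]; simp)
  obtain ⟨hq, hqG⟩ := hpf q (by rw [hpfeq]; simp)
  have hprimes : ∀ r, r.Prime → r ∣ Nat.card G → r = p ∨ r = q := by
    intro r hr hrG
    have : r ∈ (Nat.card G).primeFactors := Nat.mem_primeFactors.mpr ⟨hr, hrG, Nat.card_pos.ne'⟩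
    rw [hpfeq] at this
    simpa using this
  have hab' := hdist p q hp hq hpq hpG hqG
  have hv' : ∀ m, 1 < m → cnt G m ≠ 0 → cnt G m = cnt G p ∨ cnt G m = cnt G q := by
    intro m hm h0
    rcases hv p hp.one_lt (cnt_prime_ne_zero hp hpG) with h1 | h1 <;>
      rcases hv q hq.one_lt (cnt_prime_ne_zero hq hqG) with h2 | h2 <;>
        rcases hv m hm h0 with h3 | h3 <;> omega
  have hc : cnt G (p * q) = 0 := by
    by_contra h0
    rcases hv' _ (by nlinarith [hp.two_le, hq.two_le]) h0 with h1 | h1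
    · exact mixed_ne hodd hp hq hpq hpG hqG h1
    · exact mixed_ne hodd hq hp hpq.symm hqG hpG (by rw [mul_comm]; exact h1)
  have hfact : Nat.card G = p ^ (Nat.card G).factorization p * q ^ (Nat.card G).factorization q := by
    conv_lhs => rw [← Nat.prod_factorization_pow_eq_self (Nat.card_pos (α := G)).ne']
    rw [Finsupp.prod, Nat.support_factorization, hpfeq, Finset.prod_pair hpq]
  have hsolv : Group.IsSolvable G := Characters.burnside_pa_qb hp hq hfact
  haveI := hsolv
  have hmain : (∀ g : G, g ^ p = 1 ∨ g ^ q = 1) ∧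
      ∃ C : Subgroup G, Cfsg.IsFrobeniusComplement C ∧ (Nat.card C).Prime := by
    have hex : ∃ n, derivedSeries G n = ⊥ := Group.IsSolvable.solvable
    obtain ⟨m, hm⟩ : ∃ m, Nat.find hex = m + 1 := Nat.exists_eq_succ_of_ne_zero (fun h0 => by
      have h1 := Nat.find_spec hex
      rw [h0, derivedSeries_zero] at h1
      have := congrArg (fun H : Subgroup G => Nat.card H) h1
      simp only [Subgroup.card_top, Subgroup.card_bot] at this
      exact hp.ne_one (Nat.dvd_one.mp (this ▸ hpG)))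
    set A := derivedSeries G m
    have hA : A ≠ ⊥ := Nat.find_min hex (by omega)
    haveI : IsMulCommutative A := by
      have h := Nat.find_spec hex
      rw [hm, derivedSeries_succ, Subgroup.commutator_eq_bot_iff_le_centralizer] at h
      exact Subgroup.le_centralizer_iff_isMulCommutative.mp h
    haveI : A.Normal := derivedSeries_normal _ m
    obtain ⟨r, hr, hrA⟩ := Nat.exists_prime_and_dvd (mt Subgroup.card_eq_one.mp hA)
    haveI := Fact.mk hr
    obtain ⟨R⟩ := (inferInstance : Nonempty (Sylow r A))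
    haveI : (R : Subgroup A).Normal := Subgroup.normal_of_isMulCommutative _
    haveI := R.characteristic_of_normal inferInstance
    have hne : (R : Subgroup A).map A.subtype ≠ ⊥ := by
      rw [Ne, Subgroup.map_eq_bot_iff_of_injective _ A.subtype_injective]
      exact R.ne_bot_of_dvd_card hrA
    rcases hprimes r hr (hrA.trans (Subgroup.card_subgroup_dvd_card A)) with rfl | rfl
    · exact frobenius_case hp hq hpq hodd hpG hqG hprimes hv' hab' hc hsolv ⟨_, inferInstance, R.2.map _, hne⟩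
    · obtain ⟨h1, h2⟩ := frobenius_case hq hp hpq.symm hodd hqG hpG (fun r hr hrG => (hprimes r hr hrG).symm)
        (fun m hm h0 => (hv' m hm h0).symm) hab'.symm (by rw [mul_comm]; exact hc) hsolv
        ⟨_, inferInstance, R.2.map _, hne⟩
      exact ⟨fun g => (h1 g).symm, h2⟩
  refine ⟨fun r hr P hrG => ?_, hmain.2⟩
  have hpow : ∀ x : (P : Subgroup G), x ^ r = 1 := by
    intro x
    obtain ⟨j, hj⟩ := P.2 x
    have hj' : (x : G) ^ r ^ j = 1 := congrArg Subtype.val hj
    refine Subtype.ext ?_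
    show (x : G) ^ r = 1
    have key : ∀ t : ℕ, t.Prime → (x : G) ^ t = 1 → (x : G) ^ r = 1 := by
      intro t ht htx
      rcases eq_or_ne t r with rfl | hne
      · exact htx
      · have h2 := pow_gcd_eq_one.mpr ⟨htx, hj'⟩
        rw [Nat.Coprime.pow_right j ((Nat.coprime_primes ht hr.out).mpr hne) |>.gcd_eq_one, pow_one] at h2
        rw [h2, one_pow]
    rcases hmain.1 x with h | h
    · exact key p hp h
    · exact key q hq h
  refine ((Nat.dvd_prime hr.out).mp (Monoid.exponent_dvd_of_forall_pow_eq_one hpow)).resolve_left ?_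
  intro h1
  haveI := Monoid.exp_eq_one_iff.mp h1
  have h2 : Nat.card (P : Subgroup G) = 1 := Nat.card_eq_one_iff_unique.mpr ⟨inferInstance, ⟨1⟩⟩
  exact hr.out.ne_one (Nat.dvd_one.mp (h2 ▸ P.dvd_card_of_dvd_card hrG))

end Cfsg.Agent.SolvStruct.ThreeOrderClasses
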