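import Mathlib
import Cfsg.Agent.SolvStruct.ThreeOrderClasses
import Cfsg.Agent.Lib.Characters.Burnside

/-!
A finite group in which the numbers of elements of each given order take exactly three values is
solvable: its order has at most two prime divisors, so Burnside's theorem applies.
-/

set_option autoImplicit false

namespace Cfsg.Agent.SolvStruct.ThreeOrderSolvable

open Cfsg.Agent.GStructB.FrobeniusCount
open Cfsg.Agent.SolvStruct.ThreeOrderClasses

variable {G : Type*} [Group G] [Finite G]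

theorem solvable_of_card_primeFactors (h : (Nat.card G).primeFactors.card ≤ 2) : Group.IsSolvable G := by
  classical
  have hf := Nat.prod_factorization_pow_eq_self (Nat.card_pos (α := G)).ne'
  rw [Finsupp.prod, Nat.support_factorization] at hf
  set s := (Nat.card G).primeFactors with hs
  have hpr : ∀ p ∈ s, p.Prime := fun p hp => Nat.prime_of_mem_primeFactors hp
  rcases (show s.card = 0 ∨ s.card = 1 ∨ s.card = 2 by omega) with h0 | h1 | h2
  · rw [Finset.card_eq_zero] at h0
    rw [h0, Finset.prod_empty] at hf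
    exact Characters.burnside_pa_qb (a := 0) (b := 0) Nat.prime_two Nat.prime_three (by simp [← hf])
  · obtain ⟨p, hp⟩ := Finset.card_eq_one.mp h1
    rw [hp, Finset.prod_singleton] at hf
    exact Characters.burnside_pa_qb (a := (Nat.card G).factorization p) (b := 0) (hpr p (by rw [hp]; simp))
      (show (2 : ℕ).Prime from Nat.prime_two) (hf.symm.trans (by rw [pow_zero, mul_one]))
  · obtain ⟨p, q, hpq, hp⟩ := Finset.card_eq_two.mp h2
    rw [hp, Finset.prod_pair hpq] at hf
    exact Characters.burnside_pa_qb (hpr p (by rw [hp]; simp)) (hpr q (by rw [hp]; simp)) hf.symm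

theorem even_cnt {m : ℕ} (hm : 2 < m) : Even (cnt G m) := by
  obtain ⟨k, hk⟩ := Nat.totient_even hm
  obtain ⟨c, hc⟩ := totient_dvd_card_orderOf (G := G) m
  exact ⟨k * c, by rw [cnt, hc, hk]; ring⟩

theorem divisors_four {r : ℕ} (hr : r.Prime) (hr2 : 2 < r) :
    (4 * r).divisors = {1, 2, 4, r, 2 * r, 4 * r} := by
  ext d
  simp only [Nat.mem_divisors, Finset.mem_insert, Finset.mem_singleton, Nat.dvd_mul, Nat.dvd_prime hr]
  constructor
  · rintro ⟨⟨x, y, hx, (rfl | rfl), rfl⟩, -⟩ <;>
      have := Nat.le_of_dvd (by norm_num) hx <;> interval_cases x <;> simp at hx ⊢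
  · intro h
    refine ⟨?_, by omega⟩
    rcases h with h | h | h | h | h | h
    · exact ⟨1, 1, by norm_num, Or.inl rfl, by omega⟩
    · exact ⟨2, 1, by norm_num, Or.inl rfl, by omega⟩
    · exact ⟨4, 1, by norm_num, Or.inl rfl, by omega⟩
    · exact ⟨1, r, by norm_num, Or.inr rfl, by omega⟩
    · exact ⟨2, r, by norm_num, Or.inr rfl, by omega⟩
    · exact ⟨4, r, by norm_num, Or.inr rfl, by omega⟩

theorem sum_four {r : ℕ} (hr : r.Prime) (hr2 : 2 < r) {f : ℕ → ℕ} :
    ∑ d ∈ ({1, 2, 4, r, 2 * r, 4 * r} : Finset ℕ), f d = f 1 + f 2 + f 4 + f r + f (2 * r) + f (4 * r) := by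
  have := Nat.odd_iff.mp (hr.odd_of_ne_two (by omega))
  rw [Finset.sum_insert (by simp; omega), Finset.sum_insert (by simp; omega),
    Finset.sum_insert (by simp; omega), Finset.sum_insert (by simp; omega),
    Finset.sum_insert (by simp; omega), Finset.sum_singleton]
  ring

theorem four_pq_sum {p q : ℕ} (hp : p.Prime) (hq : q.Prime) (hpq : p ≠ q) (hp2 : 2 < p) (hq2 : 2 < q)
    {f : ℕ → ℕ} :
    ∑ d ∈ (4 * (p * q)).divisors, f d =
      f 1 + f p + f q + f (p * q) + f 2 + f (2 * p) + f (2 * q) + f (2 * (p * q)) +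
        f 4 + f (4 * p) + f (4 * q) + f (4 * (p * q)) := by
  have hdiv : (4 * (p * q)).divisors = {1, p, q, p * q, 2, 2 * p, 2 * q, 2 * (p * q),
      4, 4 * p, 4 * q, 4 * (p * q)} := by
    ext d
    have hy : ∀ y, y ∣ p * q ↔ y = 1 ∨ y = p ∨ y = q ∨ y = p * q := fun y => by
      have h : y ∈ (p * q).divisors ↔ y ∈ ({1, p, q, p * q} : Finset ℕ) := by
        rw [divisors_two hp hq]
      simpa [hp.ne_zero, hq.ne_zero] using h
    simp only [Nat.mem_divisors, Finset.mem_insert, Finset.mem_singleton]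
    constructor
    · rintro ⟨hd, -⟩
      obtain ⟨x, y, hx, hy', rfl⟩ := Nat.dvd_mul.mp hd
      have := Nat.le_of_dvd (by norm_num) hx
      rcases (hy y).mp hy' with rfl | rfl | rfl | rfl <;> interval_cases x <;> simp at hx ⊢
    · intro h
      refine ⟨?_, by positivity⟩
      rcases h with h | h | h | h | h | h | h | h | h | h | h | h <;> rw [h]
      · exact one_dvd _
      · exact dvd_mul_of_dvd_right (Nat.dvd_mul_right p q) 4
      · exact dvd_mul_of_dvd_right (Nat.dvd_mul_left q p) 4
      · exact Nat.dvd_mul_left _ 4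
      · exact dvd_mul_of_dvd_left (by norm_num) _
      · exact mul_dvd_mul (by norm_num) (Nat.dvd_mul_right p q)
      · exact mul_dvd_mul (by norm_num) (Nat.dvd_mul_left q p)
      · exact Nat.mul_dvd_mul_right (by norm_num) _
      · exact Nat.dvd_mul_right 4 _
      · exact mul_dvd_mul_left 4 (Nat.dvd_mul_right p q)
      · exact mul_dvd_mul_left 4 (Nat.dvd_mul_left q p)
  have h1 := Nat.odd_iff.mp (hp.odd_of_ne_two (by omega))
  have h2 := Nat.odd_iff.mp (hq.odd_of_ne_two (by omega))
  have h0 := Nat.odd_iff.mp ((hp.odd_of_ne_two (by omega)).mul (hq.odd_of_ne_two (by omega)))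
  have h3 : p < p * q := lt_mul_of_one_lt_right hp.pos hq.one_lt
  have h5 : q < p * q := lt_mul_of_one_lt_left hq.pos hp.one_lt
  rw [hdiv]
  iterate 11 rw [Finset.sum_insert (by simp; omega)]
  rw [Finset.sum_singleton]
  ring

/-- If a Sylow `p`-subgroup fixes an element of order `m`, every element of order `p` commutes
with one, so there are at least `φ(m)` times as many elements of order `p * m`. -/
theorem fixed_bound {p m : ℕ} (hp : p.Prime) (hm : 0 < m) (hcop : p.Coprime m)
    (hne : ¬ p ∣ cnt G m) : cnt G p * Nat.totient m ≤ cnt G (p * m) := by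
  classical
  haveI := Fact.mk hp
  obtain ⟨P⟩ := (inferInstance : Nonempty (Sylow p G))
  letI : MulAction (P : Subgroup G) {g : G // orderOf g = m} :=
    { smul := fun k g => ⟨(k : G) * g * (k : G)⁻¹, by
        rw [← MulAut.conj_apply, (MulAut.conj (k : G)).orderOf_eq]; exact g.2⟩
      one_smul := fun g => Subtype.ext (by change (1 : G) * g * 1⁻¹ = g; simp)
      mul_smul := fun a b g => Subtype.ext (by
        change (a * b : G) * g * (a * b : G)⁻¹ = a * (b * g * (b : G)⁻¹) * (a : G)⁻¹; group) }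
  have hfix := P.2.card_modEq_card_fixedPoints {g : G // orderOf g = m}
  have hne' : Nat.card (MulAction.fixedPoints (P : Subgroup G) {g : G // orderOf g = m}) ≠ 0 := by
    intro h0
    rw [h0] at hfix
    exact hne (Nat.modEq_zero_iff_dvd.mp hfix)
  obtain ⟨⟨⟨⟨z, hz⟩, hzfix⟩⟩, -⟩ := Nat.card_ne_zero.mp hne'
  have hzc : ∀ k ∈ (P : Subgroup G), Commute k z := fun k hk =>
    mul_inv_eq_iff_eq_mul.mp (congrArg Subtype.val (hzfix ⟨k, hk⟩))
  have hex : ∀ x : {g : G // orderOf g = p}, ∃ z' : G, orderOf z' = m ∧ Commute (x : G) z' := by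
    intro x
    obtain ⟨R, hR⟩ := IsPGroup.exists_le_sylow (p := p) (P := Subgroup.zpowers (x : G))
      (IsPGroup.of_card (n := 1) (by rw [Nat.card_zpowers, x.2, pow_one]))
    obtain ⟨g, rfl⟩ := MulAction.exists_smul_eq G P R
    have hx := hR (Subgroup.mem_zpowers (x : G))
    rw [Sylow.coe_subgroup_smul, Subgroup.mem_pointwise_smul_iff_inv_smul_mem, MulAut.smul_def,
      MulAut.conj_inv_apply] at hx
    refine ⟨g * z * g⁻¹, by rw [← MulAut.conj_apply, (MulAut.conj g).orderOf_eq]; exact hz, ?_⟩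
    have h1 := (hzc _ hx).eq
    show (x : G) * (g * z * g⁻¹) = g * z * g⁻¹ * x
    calc (x : G) * (g * z * g⁻¹) = g * (g⁻¹ * x * g * z) * g⁻¹ := by group
      _ = g * (z * (g⁻¹ * x * g)) * g⁻¹ := by rw [h1]
      _ = g * z * g⁻¹ * x := by group
  choose w hwm hwc using hex
  let I := {i // i ∈ (Finset.range m).filter m.Coprime}
  have hi : ∀ (x : {g : G // orderOf g = p}) (i : I), orderOf (w x ^ (i : ℕ)) = m := by
    intro x i
    rw [Nat.Coprime.orderOf_pow]
    · exact hwm x
    · rw [hwm x]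
      exact (Finset.mem_filter.mp i.2).2
  let F : {g : G // orderOf g = p} × I → {g : G // orderOf g = p * m} := fun t =>
    ⟨(t.1 : G) * w t.1 ^ (t.2 : ℕ), by
      rw [((hwc t.1).pow_right _).orderOf_mul_eq_mul_orderOf_of_coprime (by rw [t.1.2, hi]; exact hcop),
        t.1.2, hi]⟩
  have hF : Function.Injective F := by
    rintro ⟨x, i⟩ ⟨y, j⟩ hxy
    have h1 : (x : G) * w x ^ (i : ℕ) = y * w y ^ (j : ℕ) := congrArg Subtype.val hxy
    have h2 : ((x : G) * w x ^ (i : ℕ)) ^ m = ((y : G) * w y ^ (j : ℕ)) ^ m := by rw [h1]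
    have hwp : ∀ (u : {g : G // orderOf g = p}) (k : I), (w u ^ (k : ℕ)) ^ m = 1 := fun u k =>
      orderOf_dvd_iff_pow_eq_one.mp (dvd_of_eq (hi u k))
    rw [((hwc x).pow_right _).mul_pow, ((hwc y).pow_right _).mul_pow, hwp, hwp, mul_one, mul_one] at h2
    obtain ⟨u, hu⟩ := Nat.exists_mul_mod_eq_of_coprime 1 hcop.symm hp.ne_zero
    have hinv : ∀ v : {g : G // orderOf g = p}, ((v : G) ^ m) ^ u = v := fun v => by
      conv_rhs => rw [← pow_one (v : G)]
      rw [← pow_mul, pow_inj_mod, v.2]
      exact hu.2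
    have hxy' : x = y := Subtype.ext (by rw [← hinv x, ← hinv y, h2])
    subst hxy'
    have h3 := pow_inj_mod.mp (mul_left_cancel h1)
    have hlt : ∀ k : I, (k : ℕ) < m := fun k => Finset.mem_range.mp (Finset.mem_filter.mp k.2).1
    rw [hwm x, Nat.mod_eq_of_lt (hlt i), Nat.mod_eq_of_lt (hlt j)] at h3
    exact Prod.ext rfl (Subtype.ext h3)
  have h5 := Nat.card_le_card_of_injective F hF
  rw [Nat.card_prod, Nat.card_eq_finsetCard, ← Nat.totient_eq_card_coprime] at h5
  exact h5

/-- The case of a single involution. -/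
theorem of_one_involution (a b : ℕ) (hv : ∀ m, 2 < m → cnt G m ≠ 0 → cnt G m = a ∨ cnt G m = b)
    (h12 : cnt G 2 = 1) : Group.IsSolvable G := by
  classical
  obtain ⟨z, hz⟩ := cnt_ne_zero_iff.mp (by rw [h12]; exact one_ne_zero : cnt G 2 ≠ 0)
  have huniq : ∀ g : G, orderOf g = 2 → g = z := by
    intro g hg
    haveI := (Nat.card_eq_one_iff_unique.mp h12).1
    exact congrArg Subtype.val (Subsingleton.elim (⟨g, hg⟩ : {g : G // orderOf g = 2}) ⟨z, hz⟩)
  have hzc : ∀ g : G, Commute g z := fun g => mul_inv_eq_iff_eq_mul.mp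
    (huniq _ (by rw [← MulAut.conj_apply, (MulAut.conj g).orderOf_eq]; exact hz))
  have hz2 : z * z = 1 := by rw [← sq, ← hz]; exact pow_orderOf_eq_one z
  -- doubling
  have hzmul : ∀ (m : ℕ), Odd m → ∀ g : G, orderOf g = m → orderOf (g * z) = 2 * m := by
    intro m hm g hg
    rw [(hzc g).orderOf_mul_eq_mul_orderOf_of_coprime
      (by rw [hg, hz]; exact Nat.coprime_two_right.mpr hm), hg, hz, mul_comm]
  have hzdiv : ∀ (m : ℕ), Odd m → ∀ g : G, orderOf g = 2 * m → orderOf (g * z) = m := by
    intro m hm g hg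
    have hm0 : 0 < m := hm.pos
    have h1 : g ^ m = z := huniq _ (by
      rw [orderOf_pow' g hm0.ne', hg, Nat.gcd_eq_right (Dvd.intro_left 2 rfl), Nat.mul_div_left _ hm0])
    have h2 : (g * z) ^ m = 1 := by
      obtain ⟨k, rfl⟩ := hm
      rw [(hzc g).mul_pow, h1, pow_succ z, pow_mul, sq, hz2, one_pow, one_mul, hz2]
    obtain ⟨c, hc⟩ := orderOf_dvd_of_pow_eq_one h2
    have hodd' : Odd (orderOf (g * z)) := hm.of_dvd_nat ⟨c, hc⟩
    have h3 := hzmul _ hodd' (g * z) rfl
    rw [mul_assoc, hz2, mul_one, hg] at h3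
    omega
  have hdouble : ∀ m, Odd m → cnt G (2 * m) = cnt G m := fun m hm =>
    (Nat.card_congr
      { toFun := fun g : {g : G // orderOf g = m} =>
          (⟨(g : G) * z, hzmul m hm g g.2⟩ : {g : G // orderOf g = 2 * m})
        invFun := fun g => ⟨(g : G) * z, hzdiv m hm g g.2⟩
        left_inv := fun g => Subtype.ext (by simp only [mul_assoc, hz2, mul_one])
        right_inv := fun g => Subtype.ext (by simp only [mul_assoc, hz2, mul_one]) }).symm
  by_cases hsmall : (Nat.card G).primeFactors.card ≤ 2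
  · exact solvable_of_card_primeFactors hsmall
  -- two odd primes
  obtain ⟨p, q, hp, hq, hp2, hq2, hpq, hpG, hqG⟩ : ∃ p q : ℕ, p.Prime ∧ q.Prime ∧ 2 < p ∧ 2 < q ∧ p ≠ q ∧
      p ∣ Nat.card G ∧ q ∣ Nat.card G := by
    have h1 : 1 < ((Nat.card G).primeFactors.erase 2).card := by
      have := Finset.pred_card_le_card_erase (s := (Nat.card G).primeFactors) (a := 2)
      omega
    obtain ⟨p, hp, q, hq, hpq⟩ := Finset.one_lt_card.mp h1
    obtain ⟨hp2, hp⟩ := Finset.mem_erase.mp hp
    obtain ⟨hq2, hq⟩ := Finset.mem_erase.mp hq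
    obtain ⟨hp, hpG, -⟩ := Nat.mem_primeFactors.mp hp
    obtain ⟨hq, hqG, -⟩ := Nat.mem_primeFactors.mp hq
    exact ⟨p, q, hp, hq, lt_of_le_of_ne hp.two_le (Ne.symm hp2), lt_of_le_of_ne hq.two_le (Ne.symm hq2),
      hpq, hpG, hqG⟩
  have hpodd : Odd p := hp.odd_of_ne_two (by omega)
  have hqodd : Odd q := hq.odd_of_ne_two (by omega)
  have hcop : p.Coprime q := (Nat.coprime_primes hp hq).mpr hpq
  have hpne := cnt_prime_ne_zero (G := G) hp hpG
  have hqne := cnt_prime_ne_zero (G := G) hq hqG
  -- no element of order four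
  have h4 : cnt G 4 = 0 := by
    by_contra h4
    have hA4 := hv 4 (by omega) h4
    have hd4p : ∀ r : ℕ, r.Prime → 2 < r → r ∣ Nat.card G →
        (cnt G 4 : ZMod r) + (cnt G (4 * r) : ZMod r) = 0 := by
      intro r hr hr2 hrG
      have h : ((numPowOne G (4 * r) : ℕ) : ZMod r) = 0 :=
        (ZMod.natCast_eq_zero_iff _ _).mpr (dvd_numPow (Nat.dvd_mul_left r 4) hrG)
      rw [numPowOne_eq_sum (by omega), divisors_four hr hr2, sum_four hr hr2, cnt_one, h12,
        hdouble r (hr.odd_of_ne_two (by omega))] at h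
      push_cast at h
      linear_combination h - 2 * cnt_prime_mod (G := G) hr hrG
    have hnd : ∀ (r : ℕ) [Fact r.Prime] (n : ℕ), (n : ZMod r) ≠ 0 → ¬ r ∣ n := fun r _ n h hd =>
      h ((ZMod.natCast_eq_zero_iff _ _).mpr hd)
    haveI := Fact.mk hp
    haveI := Fact.mk hq
    have hap := cnt_prime_mod (G := G) hp hpG
    have hbq := cnt_prime_mod (G := G) hq hqG
    have h2p := two_ne_zero_mod hp hp2
    have hpqmod : ∀ r : ℕ, r ∣ p * q → r ∣ Nat.card G →
        (1 + cnt G p + cnt G q + cnt G (p * q) : ZMod r) = 0 := by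
      intro r hr hrG
      have h : ((numPowOne G (p * q) : ℕ) : ZMod r) = 0 :=
        (ZMod.natCast_eq_zero_iff _ _).mpr (dvd_numPow hr hrG)
      rw [sum_divisors_two hp hq hpq] at h
      push_cast at h
      exact h
    have hmp := hpqmod p (Nat.dvd_mul_right p q) hpG
    have hmq := hpqmod q (Nat.dvd_mul_left q p) hqG
    by_cases heq : cnt G p = cnt G q
    · -- equal values: `cnt G p = a`, the mixed count is the other one
      rw [heq] at hap hmp
      have hc1 : (cnt G (p * q) : ZMod p) = 1 := by linear_combination hmp - 2 * hap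
      have hc0 : cnt G (p * q) ≠ 0 := fun h0 => by simp [h0] at hc1
      have hcne : cnt G (p * q) ≠ cnt G q := fun h0 => by
        rw [h0, hap] at hc1
        exact h2p (by linear_combination -hc1)
      have hvals : ∀ n, 2 < n → cnt G n ≠ 0 → cnt G n = cnt G q ∨ cnt G n = cnt G (p * q) := by
        intro n hn h0
        rcases hv q hq2 hqne with h1 | h1 <;> rcases hv (p * q) (by nlinarith) hc0 with h2 | h2 <;>
          rcases hv n hn h0 with h3 | h3 <;> omega
      rcases hvals 4 (by omega) h4 with h | h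
      · -- `cnt G 4 = a`: two elements of order `4 * p * q` contributions
        have h4p := hd4p p hp hp2 hpG
        rw [h, hap] at h4p
        have he1 : (cnt G (4 * p) : ZMod p) = 1 := by linear_combination h4p
        have he0 : cnt G (4 * p) ≠ 0 := fun h0 => by simp [h0] at he1
        have hep : cnt G (4 * p) = cnt G (p * q) := (hvals _ (by omega) he0).resolve_left fun h0 => by
          rw [h0, hap] at he1; exact h2p (by linear_combination -he1)
        have hc1q : (cnt G (p * q) : ZMod q) = 1 := by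
          rw [heq] at hmq
          linear_combination hmq - 2 * hbq
        have h4q := hd4p q hq hq2 hqG
        rw [h, hbq] at h4q
        have hf1 : (cnt G (4 * q) : ZMod q) = 1 := by linear_combination h4q
        have hf0 : cnt G (4 * q) ≠ 0 := fun h0 => by simp [h0] at hf1
        have heq' : cnt G (4 * q) = cnt G (p * q) := (hvals _ (by omega) hf0).resolve_left fun h0 => by
          rw [h0, hbq] at hf1; exact two_ne_zero_mod hq hq2 (by linear_combination -hf1)
        have h : ((numPowOne G (4 * (p * q)) : ℕ) : ZMod p) = 0 :=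
          (ZMod.natCast_eq_zero_iff _ _).mpr (dvd_numPow (dvd_mul_of_dvd_right (Nat.dvd_mul_right p q) 4) hpG)
        rw [numPowOne_eq_sum (by positivity), four_pq_sum hp hq hpq hp2 hq2, cnt_one, h12, hdouble p hpodd, hdouble q hqodd,
          hdouble (p * q) (hpodd.mul hqodd), hep, heq', heq] at h
        push_cast at h
        rw [hc1, hap, show (cnt G 4 : ZMod p) = -1 by rw [‹cnt G 4 = cnt G q›, hap]] at h
        have hE : (cnt G (4 * (p * q)) : ZMod p) = -1 := by linear_combination h
        have hE0 : cnt G (4 * (p * q)) ≠ 0 := fun h0 => by simp [h0] at hE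
        have hEa : cnt G (4 * (p * q)) = cnt G q := (hvals _ (by nlinarith) hE0).resolve_right fun h0 => by
          rw [h0, hc1] at hE; exact h2p (by linear_combination hE)
        have hb := fixed_bound (G := G) hp (m := 4 * q) (by omega)
          (Nat.Coprime.mul_right (Nat.Coprime.pow_right 2 (Nat.coprime_two_right.mpr hpodd)) hcop)
          (hnd p _ (by rw [heq', hc1]; exact one_ne_zero))
        rw [show p * (4 * q) = 4 * (p * q) by ring, hEa, heq,
          Nat.totient_mul (Nat.Coprime.pow_left 2 (Nat.coprime_two_left.mpr hqodd)),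
          Nat.totient_prime hq, show Nat.totient 4 = 2 from rfl] at hb
        have : 2 ≤ 2 * (q - 1) := by omega
        nlinarith [Nat.pos_of_ne_zero hqne]
      · have h4p := hd4p p hp hp2 hpG
        rw [h, hc1] at h4p
        have he1 : (cnt G (4 * p) : ZMod p) = -1 := by linear_combination h4p
        have he0 : cnt G (4 * p) ≠ 0 := fun h0 => by simp [h0] at he1
        have hep : cnt G (4 * p) = cnt G q := (hvals _ (by omega) he0).resolve_right fun h0 => by
          rw [h0, hc1] at he1; exact h2p (by linear_combination he1)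
        have hb := fixed_bound (G := G) hp (m := 4) (by omega)
          (Nat.Coprime.pow_right 2 (Nat.coprime_two_right.mpr hpodd))
          (hnd p _ (by rw [h, hc1]; exact one_ne_zero))
        rw [mul_comm p 4, hep, heq, show Nat.totient 4 = 2 from rfl] at hb
        omega
    · -- different values: the mixed count vanishes
      have hvals : ∀ n, 2 < n → cnt G n ≠ 0 → cnt G n = cnt G p ∨ cnt G n = cnt G q := by
        intro n hn h0
        rcases hv q hq2 hqne with h1 | h1 <;> rcases hv p hp2 hpne with h2 | h2 <;>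
          rcases hv n hn h0 with h3 | h3 <;> omega
      have hc : cnt G (p * q) = 0 := by
        by_contra hc0
        rcases hvals _ (by nlinarith) hc0 with h | h
        · rw [h] at hmp
          have hb := fixed_bound (G := G) hp hq.pos hcop
            (hnd p _ (show (cnt G q : ZMod p) ≠ 0 by
              rw [show (cnt G q : ZMod p) = 1 by linear_combination hmp - 2 * hap]; exact one_ne_zero))
          rw [h, Nat.totient_prime hq] at hb
          have : 2 ≤ q - 1 := by omega
          nlinarith [Nat.pos_of_ne_zero hpne]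
        · rw [h] at hmq
          have hb := fixed_bound (G := G) hq hp.pos hcop.symm
            (hnd q _ (show (cnt G p : ZMod q) ≠ 0 by
              rw [show (cnt G p : ZMod q) = 1 by linear_combination hmq - 2 * hbq]; exact one_ne_zero))
          rw [mul_comm q p, h, Nat.totient_prime hp] at hb
          have : 2 ≤ p - 1 := by omega
          nlinarith [Nat.pos_of_ne_zero hqne]
      rw [hc] at hmp hmq
      push_cast at hmp hmq
      rcases hA4 with h | h <;> rcases hv p hp2 hpne with h1 | h1 <;> rcases hv q hq2 hqne with h2 | h2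
      all_goals first
        | omega
        | (have h' : cnt G 4 = cnt G p := by omega
           have h4p := hd4p p hp hp2 hpG
           rw [h', hap] at h4p
           have he1 : (cnt G (4 * p) : ZMod p) = 1 := by linear_combination h4p
           have he0 : cnt G (4 * p) ≠ 0 := fun h0 => by simp [h0] at he1
           rcases hvals _ (by omega) he0 with h0 | h0 <;> rw [h0] at he1
           · rw [hap] at he1; exact h2p (by linear_combination -he1)
           · exact one_ne_zero (show (1 : ZMod p) = 0 by linear_combination hmp - hap - he1))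
        | (have h' : cnt G 4 = cnt G q := by omega
           have h4q := hd4p q hq hq2 hqG
           rw [h', hbq] at h4q
           have he1 : (cnt G (4 * q) : ZMod q) = 1 := by linear_combination h4q
           have he0 : cnt G (4 * q) ≠ 0 := fun h0 => by simp [h0] at he1
           rcases hvals _ (by omega) he0 with h0 | h0 <;> rw [h0] at he1
           · exact one_ne_zero (show (1 : ZMod q) = 0 by linear_combination hmq - hbq - he1)
           · rw [hbq] at he1; exact two_ne_zero_mod hq hq2 (by linear_combination -he1))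
  -- the quotient by `⟨z⟩` has odd order
  have hzmem : z ∈ Subgroup.center G := Subgroup.mem_center_iff.mpr fun g => (hzc g).eq
  haveI hN : (Subgroup.zpowers z).Normal := ⟨fun n hn g => by
    rwa [Subgroup.mem_center_iff.mp (Subgroup.zpowers_le.mpr hzmem hn) g, mul_inv_cancel_right]⟩
  have hzp : ∀ g ∈ Subgroup.zpowers z, g = 1 ∨ g = z := by
    intro g hg
    obtain ⟨k, rfl⟩ := hg
    show z ^ k = 1 ∨ z ^ k = z
    rw [← zpow_mod_orderOf, hz, show ((2 : ℕ) : ℤ) = 2 from rfl]
    rcases Int.emod_two_eq_zero_or_one k with h | h <;> simp [h]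
  set f := QuotientGroup.mk' (Subgroup.zpowers z)
  have hfker : ∀ g, f g = 1 ↔ g ∈ Subgroup.zpowers z := fun g => QuotientGroup.eq_one_iff g
  have hcardH : Nat.card G = 2 * Nat.card (G ⧸ Subgroup.zpowers z) := by
    rw [← Subgroup.index_eq_card, ← hz, ← Nat.card_zpowers, Subgroup.card_mul_index]
  have hHodd : Odd (Nat.card (G ⧸ Subgroup.zpowers z)) := by
    rw [← Nat.not_even_iff_odd, even_iff_two_dvd]
    intro hd
    haveI := Fact.mk Nat.prime_two
    obtain ⟨P⟩ := (inferInstance : Nonempty (Sylow 2 G))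
    have hd4 : 2 ^ 2 ∣ Nat.card G := by rw [hcardH, sq]; exact mul_dvd_mul_left 2 hd
    have hP4 : 2 ^ 2 ∣ Nat.card P := P.pow_dvd_card_of_pow_dvd_card hd4
    have hPsub : ∀ g ∈ (P : Subgroup G), g = 1 ∨ g = z := by
      intro g hg
      obtain ⟨j, hj⟩ := P.2 ⟨g, hg⟩
      obtain ⟨i, -, hi⟩ := (Nat.dvd_prime_pow Nat.prime_two).mp
        (orderOf_dvd_of_pow_eq_one (congrArg Subtype.val hj : g ^ 2 ^ j = 1))
      rcases i with _ | _ | i
      · exact Or.inl (orderOf_eq_one_iff.mp hi)
      · exact Or.inr (huniq g hi)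
      · exact absurd h4 (cnt_ne_zero_iff.mpr ⟨g ^ (orderOf g / 4), orderOf_pow_orderOf_div (orderOf_pos g).ne'
          (by rw [hi]; exact pow_dvd_pow 2 (show 2 ≤ i + 1 + 1 by omega))⟩)
    have h := Subgroup.card_le_of_le (show (P : Subgroup G) ≤ Subgroup.zpowers z from fun g hg => by
      rcases hPsub g hg with rfl | rfl
      · exact one_mem _
      · exact Subgroup.mem_zpowers _)
    rw [Nat.card_zpowers, hz] at h
    have := Nat.le_of_dvd Nat.card_pos hP4
    omega
  have hcntH : ∀ m, Odd m → cnt (G ⧸ Subgroup.zpowers z) m = cnt G m := by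
    intro m hm
    have hord : ∀ g : G, orderOf g = m → orderOf (f g) = m := by
      intro g hg
      refine Nat.dvd_antisymm (hg ▸ orderOf_map_dvd f g) ?_
      have h1 : g ^ orderOf (f g) ∈ Subgroup.zpowers z := by
        rw [← hfker, map_pow, pow_orderOf_eq_one]
      rcases hzp _ h1 with h1 | h1
      · exact hg ▸ orderOf_dvd_of_pow_eq_one h1
      · exfalso
        have h2 : orderOf z ∣ m := by rw [← h1, ← hg]; exact orderOf_pow_dvd _
        rw [hz] at h2
        exact hm.not_two_dvd_nat h2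
    refine (Nat.card_congr (Equiv.ofBijective (fun g : {g : G // orderOf g = m} =>
      (⟨f g, hord g g.2⟩ : {h : G ⧸ Subgroup.zpowers z // orderOf h = m})) ⟨?_, ?_⟩)).symm
    · intro x y hxy
      have h1 : f (x : G) = f y := congrArg Subtype.val hxy
      have h2 : (x : G)⁻¹ * y ∈ Subgroup.zpowers z := by rw [← hfker, map_mul, map_inv, h1, inv_mul_cancel]
      rcases hzp _ h2 with h2 | h2
      · exact Subtype.ext (inv_mul_eq_one.mp h2)
      · exfalso
        have h3 := hzmul m hm x x.2
        rw [← h2, mul_inv_cancel_left, y.2] at h3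
        have := hm.pos
        omega
    · rintro ⟨x, hx⟩
      obtain ⟨g, rfl⟩ := QuotientGroup.mk'_surjective (Subgroup.zpowers z) x
      have h1 : g ^ m ∈ Subgroup.zpowers z := by rw [← hfker, map_pow, ← hx, pow_orderOf_eq_one]
      have hd : m ∣ orderOf g := hx ▸ orderOf_map_dvd f g
      have hfz : f (g * z) = f g := by
        rw [map_mul, (hfker z).mpr (Subgroup.mem_zpowers z), mul_one]
      rcases hzp _ h1 with h1 | h1
      · exact ⟨⟨g, Nat.dvd_antisymm (orderOf_dvd_of_pow_eq_one h1) hd⟩, rfl⟩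
      · have h2 : (g * z) ^ m = 1 := by
          obtain ⟨k, rfl⟩ := hm
          rw [(hzc g).mul_pow, h1, pow_succ z, pow_mul, sq, hz2, one_pow, one_mul, hz2]
        refine ⟨⟨g * z, Nat.dvd_antisymm (orderOf_dvd_of_pow_eq_one h2) ?_⟩, Subtype.ext hfz⟩
        have h3 := orderOf_map_dvd f (g * z)
        rw [hfz, hx] at h3
        exact h3
  have hvH : ∀ m, 1 < m → cnt (G ⧸ Subgroup.zpowers z) m ≠ 0 →
      cnt (G ⧸ Subgroup.zpowers z) m = a ∨ cnt (G ⧸ Subgroup.zpowers z) m = b := by
    intro m hm h0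
    obtain ⟨x, hx⟩ := cnt_ne_zero_iff.mp h0
    have hmodd : Odd m := hHodd.of_dvd_nat (hx ▸ orderOf_dvd_natCard x)
    rw [hcntH m hmodd] at h0 ⊢
    refine hv m ?_ h0
    obtain ⟨k, rfl⟩ := hmodd
    omega
  have hH : Group.IsSolvable (G ⧸ Subgroup.zpowers z) := by
    refine solvable_of_card_primeFactors (le_trans (Finset.card_le_card_of_injOn
      (cnt (G ⧸ Subgroup.zpowers z)) (t := ({a, b} : Finset ℕ)) ?_ ?_) Finset.card_le_two)
    · intro r hr
      obtain ⟨hr, hrH, -⟩ := Nat.mem_primeFactors.mp (Finset.mem_coe.mp hr)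
      simpa using hvH r hr.one_lt (cnt_prime_ne_zero hr hrH)
    · intro r hr s hs heq
      by_contra hne
      obtain ⟨hr, hrH, -⟩ := Nat.mem_primeFactors.mp (Finset.mem_coe.mp hr)
      obtain ⟨hs, hsH, -⟩ := Nat.mem_primeFactors.mp (Finset.mem_coe.mp hs)
      rcases hvH r hr.one_lt (cnt_prime_ne_zero hr hrH) with h1 | h1
      · exact cnt_ne_cnt hHodd a b hvH hr hs hne hrH hsH h1 (heq ▸ h1)
      · exact cnt_ne_cnt hHodd b a (fun m hm h0 => (hvH m hm h0).symm) hr hs hne hrH hsH h1 (heq ▸ h1)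
  haveI := hH
  exact (Group.isSolvable_iff_subgroup_quotient (Subgroup.zpowers z)).mpr ⟨inferInstance, hH⟩

theorem main (h : ((fun m : ℕ => cnt G m) '' Set.range (orderOf : G → ℕ)).ncard = 3) :
    Group.IsSolvable G := by
  classical
  rcases Nat.even_or_odd (Nat.card G) with heven | hodd
  swap
  · exact solvable_of_card_primeFactors (ThreeOrderClasses.main hodd h).1
  have h2G : 2 ∣ Nat.card G := even_iff_two_dvd.mp heven
  have hodd2 : Odd (cnt G 2) := by
    have := dvd_numPow (G := G) (dvd_refl 2) h2G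
    rw [sum_divisors_prime Nat.prime_two] at this
    rw [Nat.odd_iff]
    omega
  set S := (fun m : ℕ => cnt G m) '' Set.range (orderOf : G → ℕ)
  have h1S : (1 : ℕ) ∈ S := ⟨1, ⟨1, orderOf_one⟩, cnt_one⟩
  have h2S : cnt G 2 ∈ S := by
    obtain ⟨g, hg⟩ := cnt_ne_zero_iff.mp (cnt_prime_ne_zero (G := G) Nat.prime_two h2G)
    exact ⟨2, ⟨g, hg⟩, rfl⟩
  by_cases h12 : cnt G 2 = 1
  · have h2 : (S \ {1}).ncard = 2 := by rw [Set.ncard_sdiff_singleton_of_mem h1S, h]
    obtain ⟨a, b, -, hS⟩ := Set.ncard_eq_two.mp h2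
    have hv : ∀ m, 2 < m → cnt G m ≠ 0 → cnt G m = a ∨ cnt G m = b := by
      intro m hm h0
      obtain ⟨g, hg⟩ := cnt_ne_zero_iff.mp h0
      have hne : cnt G m ≠ 1 := fun h1 => by
        have := Nat.even_iff.mp (h1 ▸ even_cnt (G := G) hm)
        omega
      have : cnt G m ∈ S \ {1} := ⟨⟨m, ⟨g, hg⟩, rfl⟩, hne⟩
      rwa [hS] at this
    exact of_one_involution a b hv h12
  apply solvable_of_card_primeFactors
  obtain ⟨b, hb⟩ : ∃ b, ∀ m, 2 < m → cnt G m ≠ 0 → cnt G m = b := by
    by_contra hcon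
    push Not at hcon
    obtain ⟨m, hm, hm0, -⟩ := hcon 0
    obtain ⟨m', hm', hm0', hne⟩ := hcon (cnt G m)
    have hmem : ∀ k, 2 < k → cnt G k ≠ 0 → cnt G k ∈ S := fun k _ h0 => by
      obtain ⟨g, hg⟩ := cnt_ne_zero_iff.mp h0
      exact ⟨k, ⟨g, hg⟩, rfl⟩
    have hne1 : ∀ k, 2 < k → cnt G k ≠ 1 := fun k hk h1 => by
      have := Nat.even_iff.mp (h1 ▸ even_cnt (G := G) hk)
      omega
    have hne2 : ∀ k, 2 < k → cnt G k ≠ cnt G 2 := fun k hk h1 => by
      have := Nat.even_iff.mp (h1 ▸ even_cnt (G := G) hk)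
      have := Nat.odd_iff.mp hodd2
      omega
    have hsub : ({1, cnt G 2, cnt G m, cnt G m'} : Set ℕ) ⊆ S := by
        simp [Set.insert_subset_iff, h1S, h2S, hmem m hm hm0, hmem m' hm' hm0']
    have hc : ({1, cnt G 2, cnt G m, cnt G m'} : Set ℕ).ncard = 4 := by
        rw [Set.ncard_insert_of_notMem (by
          simp [Ne.symm h12, (hne1 m hm).symm, (hne1 m' hm').symm]) (Set.toFinite _),
          Set.ncard_eq_three.mpr ⟨cnt G 2, cnt G m, cnt G m', (hne2 m hm).symm, (hne2 m' hm').symm, hne.symm, rfl⟩]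
    have := Set.ncard_le_ncard hsub ((Set.finite_range _).image _)
    omega
  have hbmod : ∀ p, p.Prime → p ∣ Nat.card G → p ≠ 2 → (b : ZMod p) = -1 := fun p hp hpG hp2 => by
    have h3 : 2 < p := lt_of_le_of_ne hp.two_le (Ne.symm hp2)
    rw [← hb p h3 (cnt_prime_ne_zero hp hpG)]
    exact cnt_prime_mod hp hpG
  have hsub : (Nat.card G).primeFactors.erase 2 = ∅ ∨ ∃ p, (Nat.card G).primeFactors.erase 2 = {p} := by
    rcases Finset.eq_empty_or_nonempty ((Nat.card G).primeFactors.erase 2) with h' | ⟨p, hp⟩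
    · exact Or.inl h'
    refine Or.inr ⟨p, Finset.eq_singleton_iff_unique_mem.mpr ⟨hp, fun q hq => ?_⟩⟩
    by_contra hqp
    obtain ⟨hp2, hp'⟩ := Finset.mem_erase.mp hp
    obtain ⟨hq2, hq'⟩ := Finset.mem_erase.mp hq
    obtain ⟨hp, hpG, -⟩ := Nat.mem_primeFactors.mp hp'
    obtain ⟨hq, hqG, -⟩ := Nat.mem_primeFactors.mp hq'
    haveI := Fact.mk hp
    have h' : ((numPowOne G (p * q) : ℕ) : ZMod p) = 0 :=
      (ZMod.natCast_eq_zero_iff _ _).mpr (dvd_numPow (Nat.dvd_mul_right p q) hpG)
    have h3 : 2 < p := lt_of_le_of_ne hp.two_le (Ne.symm hp2)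
    have h3q : 2 < q := lt_of_le_of_ne hq.two_le (Ne.symm hq2)
    rw [sum_divisors_two hp hq (Ne.symm hqp), hb p h3 (cnt_prime_ne_zero hp hpG),
      hb q h3q (cnt_prime_ne_zero hq hqG)] at h'
    push_cast at h'
    have hbp := hbmod p hp hpG hp2
    have hc : (cnt G (p * q) : ZMod p) = 1 := by linear_combination h' - 2 * hbp
    have hc0 : cnt G (p * q) ≠ 0 := fun h0 => by simp [h0] at hc
    rw [hb _ (by nlinarith) hc0, hbp] at hc
    exact two_ne_zero_mod hp h3 (by linear_combination -hc)
  have hins : (Nat.card G).primeFactors ⊆ insert 2 ((Nat.card G).primeFactors.erase 2) :=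
    fun x hx => by by_cases hx2 : x = 2 <;> simp [hx2, hx]
  refine (Finset.card_le_card hins).trans ((Finset.card_insert_le _ _).trans ?_)
  rcases hsub with h' | ⟨p, h'⟩ <;> simp [h']

end Cfsg.Agent.SolvStruct.ThreeOrderSolvable
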