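import Cfsg.Agent.Lib.Hall.Supersolvable
import Cfsg.Agent.Lib.Hall.Eigen
import Cfsg.Agent.Lib.Cores.Nilpotent
import Cfsg.Agent.Lib.Coprime.Commutator
import Cfsg.Agent.Lib.Coprime.PGroup

/-!
Huppert's criterion: maximal subgroups of prime index force supersolvability.
-/

set_option autoImplicit false

open scoped commutatorElement

namespace Cfsg.Agent.SolvStruct.Huppert

universe u

variable {G H : Type*} [Group G] [Group H]

/-- `G' G^n`. -/
def powerResidual (n : ℕ) (G : Type*) [Group G] : Subgroup G :=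
  commutator G ⊔ Subgroup.closure (Set.range fun g : G => g ^ n)

theorem commutator_mem_powerResidual (n : ℕ) (g h : G) : ⁅g, h⁆ ∈ powerResidual n G :=
  Subgroup.mem_sup_left (Subgroup.commutator_mem_commutator (Subgroup.mem_top g) (Subgroup.mem_top h))

theorem pow_mem_powerResidual (n : ℕ) (g : G) : g ^ n ∈ powerResidual n G :=
  Subgroup.mem_sup_right (Subgroup.subset_closure ⟨g, rfl⟩)

theorem powerResidual_le {n : ℕ} {K : Subgroup G} (h1 : ∀ g h : G, ⁅g, h⁆ ∈ K)
    (h2 : ∀ g : G, g ^ n ∈ K) : powerResidual n G ≤ K := by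
  refine sup_le ?_ ?_
  · rw [commutator_def, Subgroup.commutator_le]
    exact fun g _ h _ => h1 g h
  · rw [Subgroup.closure_le]
    rintro _ ⟨g, rfl⟩
    exact h2 g

theorem map_powerResidual_le (f : G →* H) (n : ℕ) :
    (powerResidual n G).map f ≤ powerResidual n H := by
  rw [Subgroup.map_le_iff_le_comap]
  refine powerResidual_le (fun g h => ?_) fun g => ?_
  · rw [Subgroup.mem_comap, map_commutatorElement]
    exact commutator_mem_powerResidual n _ _
  · rw [Subgroup.mem_comap, map_pow]
    exact pow_mem_powerResidual n _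

instance powerResidual_normal (n : ℕ) : (powerResidual n G).Normal :=
  Subgroup.Normal.of_commutator_le G le_sup_left

/-- `G' G^{p-1}` centralises normal subgroups of order `p`. -/
theorem powerResidual_le_centralizer [Finite G] (N : Subgroup G) [N.Normal] {p : ℕ}
    [hp : Fact p.Prime] (hN : Nat.card N = p) :
    powerResidual (p - 1) G ≤ Subgroup.centralizer (N : Set G) := by
  haveI : IsCyclic N := isCyclic_of_prime_card hN
  refine powerResidual_le (fun g h => SolvStruct.commutator_le_centralizer_of_isCyclic N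
    (Subgroup.commutator_mem_commutator (Subgroup.mem_top g) (Subgroup.mem_top h))) fun g => ?_
  have hcard : Nat.card (MulAut N) = p - 1 := by
    rw [IsCyclic.card_mulAut, hN, Nat.totient_prime hp.out]
  have h1 : MulAut.conjNormal (H := N) (g ^ (p - 1)) = 1 := by
    rw [map_pow, ← hcard, pow_card_eq_one']
  intro x hx
  have h2 := congrArg (fun φ : MulAut N => ((φ ⟨x, hx⟩ : N) : G)) h1
  simp only [MulAut.conjNormal_apply, MulAut.one_apply] at h2
  rw [mul_inv_eq_iff_eq_mul] at h2
  exact h2.symm

/-- If `G' G^{p-1}` centralises the elementary abelian normal `p`-subgroup `M ≠ 1`, then `M`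
contains a normal subgroup of order `p`. -/
theorem exists_normal_prime [Finite G] {p : ℕ} [Fact p.Prime] {M : Subgroup G} [M.Normal]
    (hM : M ≠ ⊥) (hel : Cfsg.IsElementaryAbelian p M)
    (hD : powerResidual (p - 1) G ≤ Subgroup.centralizer (M : Set G)) :
    ∃ P : Subgroup G, P.Normal ∧ P ≤ M ∧ Nat.card P = p := by
  refine Hall.exists_normal_card_eq_prime hM hel (fun g h m hm => ?_) fun g m hm => ?_
  · have h1 := hD (commutator_mem_powerResidual (p - 1) h⁻¹ g⁻¹) m hm
    rw [commutatorElement_def, inv_inv, inv_inv] at h1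
    calc g * (h * m * h⁻¹) * g⁻¹
        = g * h * (m * (h⁻¹ * g⁻¹ * h * g)) * g⁻¹ * h⁻¹ := by group
      _ = g * h * ((h⁻¹ * g⁻¹ * h * g) * m) * g⁻¹ * h⁻¹ := by rw [h1]
      _ = h * (g * m * g⁻¹) * h⁻¹ := by group
  · rw [mul_inv_eq_iff_eq_mul]
    exact (hD (pow_mem_powerResidual (p - 1) g) m hm).symm

/-- In a supersolvable group, `p'`-elements of `G' G^{p-1}` centralise normal `p`-subgroups. -/
theorem commute_of_supersolvable {p : ℕ} [hp : Fact p.Prime] (G : Type u) [Group G] [Finite G]
    (hG : Cfsg.IsSupersolvable G) :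
    ∀ P : Subgroup G, P.Normal → IsPGroup p P → ∀ d ∈ powerResidual (p - 1) G,
      (orderOf d).Coprime p → ∀ x ∈ P, d * x = x * d := by
  refine Hall.Supersolvable.induction_prime (motive := fun G _ =>
    ∀ P : Subgroup G, P.Normal → IsPGroup p P → ∀ d ∈ powerResidual (p - 1) G,
      (orderOf d).Coprime p → ∀ x ∈ P, d * x = x * d) ?_ ?_ G hG
  · exact fun G _ _ h P _ _ d _ _ x _ => Subsingleton.elim _ _
  · intro G _ _ _ N _ hN ih P hP hPp d hd hcop x hx
    have h1 : d * x * d⁻¹ * x⁻¹ ∈ N := by
      rw [← QuotientGroup.eq_one_iff]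
      have h := ih (P.map (QuotientGroup.mk' N)) (hP.map _ (QuotientGroup.mk'_surjective N))
        (hPp.map _) _ (map_powerResidual_le (QuotientGroup.mk' N) (p - 1)
          (Subgroup.mem_map_of_mem _ hd))
        (hcop.coprime_dvd_left (orderOf_map_dvd (QuotientGroup.mk' N) d)) _
        (Subgroup.mem_map_of_mem (QuotientGroup.mk' N) hx)
      simp only [QuotientGroup.mk'_apply] at h
      rw [QuotientGroup.mk_mul, QuotientGroup.mk_mul, QuotientGroup.mk_mul, h,
        QuotientGroup.mk_inv, QuotientGroup.mk_inv]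
      group
    have h1' : d * x * d⁻¹ * x⁻¹ ∈ P := P.mul_mem (hP.conj_mem x hx d) (P.inv_mem hx)
    suffices hz : d * x * d⁻¹ * x⁻¹ = 1 by
      rw [mul_inv_eq_one, mul_inv_eq_iff_eq_mul] at hz
      exact hz
    by_cases hNP : N ⊓ P = ⊥
    · have h2 : d * x * d⁻¹ * x⁻¹ ∈ N ⊓ P := ⟨h1, h1'⟩
      rwa [hNP, Subgroup.mem_bot] at h2
    haveI : Fact (Nat.card N).Prime := ⟨hN⟩
    have hNle : N ≤ P := by
      rcases (Nat.dvd_prime hN).1 (Subgroup.card_dvd_of_le (inf_le_left : N ⊓ P ≤ N)) with h | h
      · exact absurd ((N ⊓ P).eq_bot_of_card_eq h) hNP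
      · exact inf_eq_left.1 (Subgroup.eq_of_le_of_card_ge inf_le_left h.ge)
    have hcard : Nat.card N = p := by
      obtain ⟨k, hk⟩ := IsPGroup.iff_card.1 (hPp.to_le hNle)
      have hd' : Nat.card N ∣ p := hN.dvd_of_dvd_pow (n := k) (by rw [← hk])
      exact (Nat.prime_dvd_prime_iff_eq hN hp.out).1 hd'
    set z := d * x * d⁻¹ * x⁻¹ with hzdef
    have hdz : d * z = z * d := ((powerResidual_le_centralizer N hcard hd) z h1).symm
    have hk : ∀ k : ℕ, d ^ k * x * (d ^ k)⁻¹ = z ^ k * x := by
      intro k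
      induction k with
      | zero => simp
      | succ k ih =>
        rw [pow_succ', mul_inv_rev, show d * d ^ k * x * ((d ^ k)⁻¹ * d⁻¹) =
          d * (d ^ k * x * (d ^ k)⁻¹) * d⁻¹ by group, ih,
          show d * (z ^ k * x) * d⁻¹ = (d * z ^ k) * (d⁻¹) * (d * x * d⁻¹) by group,
          show d * z ^ k = z ^ k * d from Commute.pow_right hdz k, mul_inv_cancel_right,
          show d * x * d⁻¹ = z * x by rw [hzdef]; group, ← mul_assoc, ← pow_succ]
    have hzo := hk (orderOf d)
    rw [pow_orderOf_eq_one, inv_one, one_mul, mul_one] at hzo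
    have hzp : orderOf z ∣ p := by
      rw [← hcard]
      exact N.orderOf_dvd_natCard h1
    exact orderOf_eq_one_iff.1
      (Nat.eq_one_of_dvd_coprimes hcop (orderOf_dvd_of_pow_eq_one (right_eq_mul.1 hzo)) hzp)

theorem prime_index_quotient {P : Subgroup G} [P.Normal]
    (h : ∀ M : Subgroup G, IsCoatom M → M.index.Prime) (M : Subgroup (G ⧸ P)) (hM : IsCoatom M) :
    M.index.Prime := by
  rw [← Subgroup.index_comap_of_surjective M (QuotientGroup.mk'_surjective P)]
  exact h _ (Subgroup.isCoatom_comap_of_surjective (QuotientGroup.mk'_surjective P) hM)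

theorem exists_normal_sylow [Finite G] [Nontrivial G]
    (h : ∀ M : Subgroup G, IsCoatom M → M.index.Prime) :
    ∃ p : ℕ, p.Prime ∧ p ∣ Nat.card G ∧ (∀ q : ℕ, q.Prime → q ∣ Nat.card G → q ≤ p) ∧
      ∀ P : Sylow p G, (P : Subgroup G).Normal := by
  have hne : (Nat.card G).primeFactors.Nonempty :=
    Nat.nonempty_primeFactors.2 Finite.one_lt_card
  obtain ⟨p, hp, hmax⟩ : ∃ p ∈ (Nat.card G).primeFactors, ∀ q ∈ (Nat.card G).primeFactors, q ≤ p :=
    ⟨_, Finset.max'_mem _ hne, fun q hq => Finset.le_max' _ q hq⟩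
  obtain ⟨hpp, hpd, -⟩ := Nat.mem_primeFactors.1 hp
  have hmax' : ∀ q : ℕ, q.Prime → q ∣ Nat.card G → q ≤ p := fun q hq hd =>
    hmax q (Nat.mem_primeFactors.2 ⟨hq, hd, Nat.card_pos.ne'⟩)
  refine ⟨p, hpp, hpd, hmax', fun P => ?_⟩
  haveI : Fact p.Prime := ⟨hpp⟩
  by_contra hn
  obtain hN | ⟨M, hM, hle⟩ := eq_top_or_exists_le_coatom (Subgroup.normalizer ((P : Subgroup G) : Set G))
  · exact hn (Subgroup.normalizer_eq_top_iff.1 hN)
  have hPM : (P : Subgroup G) ≤ M := Subgroup.le_normalizer.trans hle
  let Q : Sylow p M := P.subtype hPM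
  have hQ : (Subgroup.normalizer ((Q : Subgroup M) : Set M)) =
      (Subgroup.normalizer ((P : Subgroup G) : Set G)).subgroupOf M := by
    ext x
    simp only [Subgroup.mem_subgroupOf, Subgroup.mem_normalizer_iff, Q, Sylow.coe_subtype,
      Subgroup.coe_mul, Subgroup.coe_inv]
    refine ⟨fun hx y => ?_, fun hx y => hx y⟩
    by_cases hy : y ∈ M
    · exact hx ⟨y, hy⟩
    · refine ⟨fun hh => absurd (hPM hh) hy, fun hh => ?_⟩
      have h2 := M.mul_mem (M.mul_mem (M.inv_mem x.2) (hPM hh)) x.2
      rw [show (x : G)⁻¹ * ((x : G) * y * (x : G)⁻¹) * x = y by group] at h2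
      exact absurd h2 hy
  have h1 := card_sylow_modEq_one p M
  have h2 := card_sylow_modEq_one p G
  rw [Q.card_eq_index_normalizer] at h1
  rw [P.card_eq_index_normalizer] at h2
  change (Subgroup.normalizer ((Q : Subgroup M) : Set M)).index ≡ 1 [MOD p] at h1
  change (Subgroup.normalizer ((P : Subgroup G) : Set G)).index ≡ 1 [MOD p] at h2
  rw [hQ, ← Subgroup.relIndex] at h1
  rw [← Subgroup.relIndex_mul_index hle] at h2
  have hq : M.index ≡ 1 [MOD p] := by simpa using ((h1.mul_right M.index).symm.trans h2)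
  have hqp : M.index ≤ p := hmax' _ (h M hM) M.index_dvd_card
  rcases hqp.lt_or_eq with hlt | heq
  · exact (h M hM).ne_one (Nat.ModEq.eq_of_lt_of_lt hq hlt hpp.one_lt)
  · exact P.not_dvd_index ((dvd_of_eq heq.symm).trans (Subgroup.index_dvd_of_le hPM))

theorem isSolvable_of_prime_index (G : Type u) [Group G] [Finite G]
    (h : ∀ M : Subgroup G, IsCoatom M → M.index.Prime) : Group.IsSolvable G := by
  induction hn : Nat.card G using Nat.strong_induction_on generalizing G with
  | _ n ih =>
    rcases subsingleton_or_nontrivial G with hG | hG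
    · exact Group.isSolvable_of_comm fun a b => Subsingleton.elim _ _
    obtain ⟨p, hp, hpd, -, hnorm⟩ := exists_normal_sylow h
    haveI : Fact p.Prime := ⟨hp⟩
    obtain ⟨P⟩ : Nonempty (Sylow p G) := inferInstance
    haveI := hnorm P
    have h1 : Group.IsSolvable (P : Subgroup G) := by
      haveI := P.isPGroup'.isNilpotent
      infer_instance
    have h2 : Group.IsSolvable (G ⧸ (P : Subgroup G)) :=
      ih _ (hn ▸ Hall.Supersolvable.card_quotient_lt ((P : Subgroup G).one_lt_card_iff_ne_bot.2
        (P.ne_bot_of_dvd_card hpd))) _ (prime_index_quotient h) rfl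
    exact (Group.isSolvable_iff_subgroup_quotient (P : Subgroup G)).2 ⟨h1, h2⟩

theorem isSupersolvable_of_prime_index (G : Type u) [Group G] [Finite G]
    (h : ∀ M : Subgroup G, IsCoatom M → M.index.Prime) : Cfsg.IsSupersolvable G := by
  induction hn : Nat.card G using Nat.strong_induction_on generalizing G with
  | _ n ih =>
    rcases subsingleton_or_nontrivial G with hG | hG
    · exact Hall.Supersolvable.of_subsingleton
    obtain ⟨p, hp, hpd, -, hnorm⟩ := exists_normal_sylow h
    haveI : Fact p.Prime := ⟨hp⟩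
    haveI hsolv : Group.IsSolvable G := isSolvable_of_prime_index G h
    obtain ⟨P₀⟩ : Nonempty (Sylow p G) := inferInstance
    haveI := hnorm P₀
    set P : Subgroup G := (P₀ : Subgroup G) with hPdef
    have hPp : IsPGroup p P := P₀.isPGroup'
    have hP0 : P ≠ ⊥ := P₀.ne_bot_of_dvd_card hpd
    have hmain : ∀ (M : Subgroup G) [M.Normal], M ≠ ⊥ →
        (∀ K : Subgroup G, K.Normal → K ≤ M → K = ⊥ ∨ K = M) → M ≤ P →
        (Nat.card M).Prime → Cfsg.IsSupersolvable G := by
      intro M _ hM _ _ hc
      haveI := Fact.mk hc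
      haveI : IsCyclic M := isCyclic_of_prime_card rfl
      exact Hall.Supersolvable.of_normal_cyclic M (ih _ (hn ▸ Hall.Supersolvable.card_quotient_lt
        hc.one_lt) _ (prime_index_quotient h) rfl)
    classical
    -- minimal normal subgroup, inside the Frattini subgroup of `P` when possible
    set N₀ : Subgroup G := if frattini P = ⊥ then P else (frattini P).map P.subtype with hN₀
    haveI : N₀.Normal := by rw [hN₀]; split <;> infer_instance
    have hN₀ne : N₀ ≠ ⊥ := by
      rw [hN₀]
      split
      · exact hP0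
      · rename_i hf
        simpa [Subgroup.map_eq_bot_iff_of_injective _ P.subtype_injective] using hf
    have hN₀P : N₀ ≤ P := by rw [hN₀]; split <;> [exact le_rfl; exact Subgroup.map_subtype_le _]
    obtain ⟨M, hMn, hMN₀, hM, hmin⟩ := Hall.exists_minimal_normal N₀ hN₀ne
    have hMP : M ≤ P := hMN₀.trans hN₀P
    by_cases hcM : (Nat.card M).Prime
    · exact hmain M hM hmin hMP hcM
    exfalso
    obtain ⟨r, hr, hrd, -, hel⟩ := Hall.minimal_normal_isElementaryAbelian hM hmin
    obtain rfl : r = p := by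
      obtain ⟨k, hk⟩ := IsPGroup.iff_card.1 (hPp.to_le hMP)
      exact (Nat.prime_dvd_prime_iff_eq hr hp).1 (hr.dvd_of_dvd_pow (hk ▸ hrd))
    have hss : Cfsg.IsSupersolvable (G ⧸ M) := ih _ (hn ▸ Hall.Supersolvable.card_quotient_lt
      (M.one_lt_card_iff_ne_bot.2 hM)) _ (prime_index_quotient h) rfl
    -- `P` centralises `M`
    have hPcent : P ≤ Subgroup.centralizer (M : Set G) := by
      haveI : Group.IsNilpotent P := hPp.isNilpotent
      have h2 : M.subgroupOf P ⊓ Subgroup.center P ≠ ⊥ := Cores.inf_center_ne_bot fun hb => hM (by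
        rw [← Subgroup.map_subgroupOf_eq_of_le hMP, hb, Subgroup.map_bot])
      have h3 : M ⊓ (Subgroup.center P).map P.subtype = M := by
        refine (hmin _ inferInstance inf_le_left).resolve_left fun hb => h2 ?_
        refine le_bot_iff.1 fun x hx => Subgroup.mem_bot.2 (Subtype.ext ?_)
        have h4 : (x : G) ∈ M ⊓ (Subgroup.center P).map P.subtype := ⟨hx.1, x, hx.2, rfl⟩
        rwa [hb, Subgroup.mem_bot] at h4
      intro x hx m hm
      rw [← h3] at hm
      obtain ⟨z, hz, rfl⟩ := hm.2
      exact (congrArg Subtype.val (Subgroup.mem_center_iff.1 hz ⟨x, hx⟩)).symm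
    -- a complement to `P` and its residual
    obtain ⟨H, hH⟩ := Subgroup.exists_right_complement'_of_coprime (N := P) P₀.card_coprime_index
    set A : Subgroup G := (powerResidual (r - 1) H).map H.subtype with hAdef
    have hAcop : ∀ K : Subgroup G, K ≤ P → (Nat.card A).Coprime (Nat.card K) := by
      intro K hK
      refine (Nat.Coprime.coprime_dvd_left (Subgroup.card_dvd_of_le (Subgroup.map_subtype_le _))
        (?_ : (Nat.card H).Coprime (Nat.card K)))
      rw [← hH.symm.index_eq_card]
      exact (P₀.card_coprime_index.coprime_dvd_left (Subgroup.card_dvd_of_le hK)).symm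
    have hAord : ∀ a ∈ A, (orderOf a).Coprime r := fun a ha =>
      ((hAcop P le_rfl).coprime_dvd_left (A.orderOf_dvd_natCard ha)).coprime_dvd_right (by
        obtain ⟨k, hk⟩ := IsPGroup.iff_card.1 hPp
        refine hk ▸ dvd_pow_self r fun h0 => hP0 (P.eq_bot_of_card_eq ?_)
        rw [hk, h0, pow_zero])
    -- `[P, A] ≤ M`
    have hPA : ∀ a ∈ A, ∀ x ∈ P, a * x * a⁻¹ * x⁻¹ ∈ M := by
      intro a ha x hx
      rw [← QuotientGroup.eq_one_iff]
      have hA' : (a : G ⧸ M) ∈ powerResidual (r - 1) (G ⧸ M) := by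
        obtain ⟨b, hb, rfl⟩ := ha
        exact map_powerResidual_le ((QuotientGroup.mk' M).comp H.subtype) (r - 1)
          (Subgroup.mem_map_of_mem _ hb)
      have h := commute_of_supersolvable (p := r) _ hss (P.map (QuotientGroup.mk' M))
        (Subgroup.Normal.map inferInstance _ (QuotientGroup.mk'_surjective M)) (hPp.map _) _ hA'
        ((hAord a ha).coprime_dvd_left (orderOf_map_dvd (QuotientGroup.mk' M) a)) _
        (Subgroup.mem_map_of_mem _ hx)
      simp only [QuotientGroup.mk'_apply] at h
      rw [QuotientGroup.mk_mul, QuotientGroup.mk_mul, QuotientGroup.mk_mul, h,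
        QuotientGroup.mk_inv, QuotientGroup.mk_inv]
      group
    have hAP : A ≤ Subgroup.normalizer (P : Set G) := Subgroup.le_normalizer_of_normal
    -- once `A` centralises `P`, `G' G^(r-1)` centralises `M`
    have hfinish : A ≤ Subgroup.centralizer (P : Set G) → False := by
      intro hA
      have hD : powerResidual (r - 1) G ≤ Subgroup.centralizer (M : Set G) := by
        intro g hg
        have hbar := map_powerResidual_le (QuotientGroup.mk' P) (r - 1) (Subgroup.mem_map_of_mem _ hg)
        let e : H ≃* G ⧸ P := hH.symm.QuotientMulEquiv.symm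
        obtain ⟨b, hb, hbeq⟩ : ∃ b ∈ A, (b : G ⧸ P) = (g : G ⧸ P) := by
          have hb2 := map_powerResidual_le e.symm.toMonoidHom (r - 1)
            (Subgroup.mem_map_of_mem _ hbar)
          refine ⟨(e.symm (g : G ⧸ P) : H), ⟨_, hb2, rfl⟩, ?_⟩
          exact e.apply_symm_apply (g : G ⧸ P)
        have h5 : b⁻¹ * g ∈ P := QuotientGroup.eq.1 hbeq
        have h6 : b * (b⁻¹ * g) ∈ Subgroup.centralizer (M : Set G) :=
          mul_mem (Subgroup.centralizer_le hMP (hA hb)) (hPcent h5)
        rwa [mul_inv_cancel_left] at h6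
      obtain ⟨Q, hQn, hQM, hQc⟩ := exists_normal_prime hM hel hD
      rcases hmin Q hQn hQM with hb | hb
      · rw [hb, Subgroup.card_bot] at hQc
        exact hp.one_lt.ne hQc
      · exact hcM (hb ▸ hQc.symm ▸ hp)
    by_cases hf : frattini P = ⊥
    · haveI : Group.IsNilpotent P := hPp.isNilpotent
      haveI hPc : IsMulCommutative P := (commutator_eq_bot_iff _).1
        (le_bot_iff.1 (hf ▸ Coprime.commutator_le_frattini P))
      set C : Subgroup G := P ⊓ Subgroup.centralizer (A : Set G) with hCdef
      have hPAM : ⁅P, A⁆ ≤ M := by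
        rw [Subgroup.commutator_comm, Subgroup.commutator_le]
        intro a ha x hx
        exact hPA a ha x hx
      haveI hAn : (powerResidual (r - 1) H).Normal := inferInstance
      have hHA : H ≤ Subgroup.normalizer (A : Set G) := by
        have := Subgroup.le_normalizer_map (H := powerResidual (r - 1) H) H.subtype
        rw [Subgroup.normalizer_eq_top_iff.2 hAn, ← MonoidHom.range_eq_map,
          Subgroup.range_subtype] at this
        exact this
      have hnormal : ∀ X : Subgroup G, X ≤ P → H ≤ Subgroup.normalizer (X : Set G) → X.Normal := by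
        intro X hXP hHX
        rw [← Subgroup.normalizer_eq_top_iff, ← top_le_iff, ← hH.sup_eq_top, sup_le_iff]
        refine ⟨fun x hx => Subgroup.centralizer_le_normalizer _ ?_, hHX⟩
        exact fun y hy => congrArg Subtype.val (hPc.is_comm.comm ⟨y, hXP hy⟩ ⟨x, hx⟩)
      have hCn : C.Normal := hnormal C inf_le_left
        (SolvStruct.le_normalizer_of_conj_mem fun g hg x hx => by
          refine ⟨Subgroup.Normal.conj_mem inferInstance x hx.1 g, fun a ha => ?_⟩
          have h7 : g⁻¹ * a * g ∈ A := by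
            simpa using (Subgroup.mem_normalizer_iff.1 (hHA (H.inv_mem hg)) a).1 ha
          have h8 : (g⁻¹ * a * g) * x = x * (g⁻¹ * a * g) := hx.2 _ h7
          calc a * (g * x * g⁻¹) = g * ((g⁻¹ * a * g) * x) * g⁻¹ := by group
            _ = g * (x * (g⁻¹ * a * g)) * g⁻¹ := by rw [h8]
            _ = g * x * g⁻¹ * a := by group)
      have hdis := Coprime.inf_centralizer_inf_commutator hAP (hAcop P le_rfl)
      have hgen := Coprime.commutator_sup_inf_centralizer hAP (hAcop P le_rfl) (Or.inr inferInstance)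
      rw [← hCdef] at hdis hgen
      by_cases hPA0 : ⁅P, A⁆ = ⊥
      · exact hfinish (Coprime.commutator_eq_bot_iff_le_centralizer'.1 hPA0)
      have hPAn : (⁅P, A⁆).Normal := hnormal _
        (Coprime.commutator_le_of_le_normalizer hAP)
        (SolvStruct.le_normalizer_of_conj_mem fun g hg x hx => by
          have h9 : (⁅P, A⁆).map (MulAut.conj g).toMonoidHom ≤ ⁅P, A⁆ := by
            rw [Subgroup.map_commutator]
            refine Subgroup.commutator_mono ?_ ?_
            · rintro _ ⟨y, hy, rfl⟩
              exact Subgroup.Normal.conj_mem inferInstance y hy g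
            · rintro _ ⟨y, hy, rfl⟩
              exact (Subgroup.mem_normalizer_iff.1 (hHA hg) y).1 hy
          exact h9 ⟨x, hx, rfl⟩)
      have hPAeq : ⁅P, A⁆ = M := (hmin _ hPAn hPAM).resolve_left hPA0
      rw [hPAeq] at hdis hgen
      by_cases hC0 : C = ⊥
      · rw [hC0, sup_bot_eq] at hgen
        -- `P` is minimal normal: a maximal subgroup containing `H` meets it trivially
        obtain hHtop | ⟨U, hU, hHU⟩ := eq_top_or_exists_le_coatom H
        · refine hP0 (le_bot_iff.1 ?_)
          have := hH.disjoint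
          rw [disjoint_iff, hHtop, inf_top_eq] at this
          exact this.le
        have hPU : ¬ P ≤ U := fun hle => hU.1 (top_le_iff.1 (hH.sup_eq_top ▸ sup_le hle hHU))
        have hPUn : (P ⊓ U).Normal := hnormal _ inf_le_left
          (SolvStruct.le_normalizer_of_conj_mem fun g hg x hx =>
            ⟨Subgroup.Normal.conj_mem inferInstance x hx.1 g,
              U.mul_mem (U.mul_mem (hHU hg) hx.2) (U.inv_mem (hHU hg))⟩)
        have hbot : P ⊓ U = ⊥ :=
          (hmin _ hPUn (inf_le_left.trans hgen.ge)).resolve_right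
            fun he => hPU (inf_eq_left.1 (he.trans hgen))
        have hsup : U ⊔ P = ⊤ :=
          hU.2 _ (lt_of_le_of_ne le_sup_left fun he => hPU (he ▸ le_sup_right))
        refine hcM ?_
        have h10 := Cores.card_sup_mul_card_inf U P
        rw [hsup, Subgroup.card_top, inf_comm, hbot, Subgroup.card_bot, mul_one,
          ← U.card_mul_index] at h10
        rw [hgen, ← Nat.eq_of_mul_eq_mul_left Nat.card_pos h10]
        exact h U hU
      · -- two minimal normal subgroups
        obtain ⟨M₂, hM₂n, hM₂C, hM₂, hmin₂⟩ := haveI := hCn; Hall.exists_minimal_normal C hC0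
        have hM₂P : M₂ ≤ P := hM₂C.trans inf_le_left
        have hdj : M₂ ⊓ M = ⊥ := le_bot_iff.1 ((inf_le_inf_right M hM₂C).trans hdis.le)
        have hAc : A ≤ Subgroup.centralizer (M₂ : Set G) := fun a ha x hx => ((hM₂C hx).2 a ha).symm
        have hfix : (Nat.card M₂).Prime := by
          let f := QuotientGroup.mk' M
          haveI : (M₂.map f).Normal := Subgroup.Normal.map hM₂n f (QuotientGroup.mk'_surjective M)
          have hinj : ∀ x ∈ M₂, f x = 1 → x = 1 := fun x hx hx1 => by
            have h11 : x ∈ M₂ ⊓ M := ⟨hx, (QuotientGroup.eq_one_iff x).1 hx1⟩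
            rwa [hdj, Subgroup.mem_bot] at h11
          have hne : M₂.map f ≠ ⊥ := fun hb => hM₂ (le_bot_iff.1 fun x hx =>
            Subgroup.mem_bot.2 (hinj x hx
              (Subgroup.mem_bot.1 (hb ▸ Subgroup.mem_map_of_mem f hx))))
          obtain ⟨Q, hQn, hQle, hQp⟩ := Hall.Supersolvable.exists_normal_prime_le hss (M₂.map f) hne
          haveI := hQn
          have hQ' : M₂ ⊓ Q.comap f = M₂ := by
            haveI := hQn.comap f
            refine (hmin₂ _ inferInstance inf_le_left).resolve_left fun hb => ?_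
            obtain ⟨q, hq, hq1⟩ : ∃ q ∈ Q, q ≠ 1 := by
              by_contra hne'
              push Not at hne'
              exact hQp.ne_one (by rw [Q.eq_bot_iff_forall.2 hne', Subgroup.card_bot])
            obtain ⟨x, hx, rfl⟩ := hQle hq
            have h12 : x ∈ M₂ ⊓ Q.comap f := ⟨hx, hq⟩
            rw [hb, Subgroup.mem_bot] at h12
            exact hq1 (by rw [h12, map_one])
          have hcard : Nat.card (M₂.map f) = Nat.card M₂ := by
            refine (Nat.card_congr (Equiv.ofBijective (f.subgroupMap M₂) ⟨?_, f.subgroupMap_surjective M₂⟩)).symm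
            rw [injective_iff_map_eq_one]
            exact fun x hx => Subtype.ext (hinj x x.2 (congrArg Subtype.val hx))
          have hQeq : M₂.map f = Q := le_antisymm (by
            rw [Subgroup.map_le_iff_le_comap]; exact inf_eq_left.1 hQ') hQle
          rwa [← hcard, hQeq]
        have := hmain M₂ hM₂ hmin₂ hM₂P hfix
        exact hcM (Hall.Supersolvable.minimal_normal_card_prime this hM hmin)
    · refine hfinish (Coprime.le_centralizer_of_frattini hAP ?_ fun a ha x hx => ?_)
      · have h13 := hAcop _ (Subgroup.map_subtype_le (frattini P))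
        rwa [Subgroup.card_map_of_injective P.subtype_injective] at h13
      · have hN₀eq : N₀ = (frattini P).map P.subtype := by rw [hN₀, if_neg hf]
        exact hN₀eq ▸ hMN₀ (hPA a ha x hx)

end Cfsg.Agent.SolvStruct.Huppert
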