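import Cfsg.Agent.Lib.Subnormal.Join
import Cfsg.Agent.Lib.Coprime.Basic

/-!
Conjugation invariant sets of subnormal subgroups and their joins.
-/

set_option autoImplicit false

namespace Cfsg.Agent.SolvStruct.Conjugates

open Cfsg.Agent.Coprime
open scoped Pointwise

universe u

variable {G : Type u} [Group G]

theorem isSubnormal_of_isNilpotent [Finite G] [Group.IsNilpotent G] (H : Subgroup G) :
    H.IsSubnormal := by
  induction H using WellFoundedGT.induction with
  | ind H ih =>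
    rcases eq_or_ne H ⊤ with rfl | hH
    · exact Subgroup.IsSubnormal.top
    · exact .step H _ Subgroup.le_normalizer
        (ih _ (Group.normalizerCondition_of_isNilpotent _ (lt_top_iff_ne_top.2 hH)))
        Subgroup.normal_in_normalizer

theorem isSubnormal_sSup [Finite G] {S : Set (Subgroup G)} (h : ∀ U ∈ S, U.IsSubnormal) :
    (sSup S).IsSubnormal := by
  classical
  have hfin := Set.toFinite S
  rw [← hfin.coe_toFinset, ← Finset.sup_id_eq_sSup]
  refine Finset.sup_induction (p := fun U : Subgroup G => U.IsSubnormal) Subgroup.IsSubnormal.bot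
    (fun A hA B hB => Subnormal.Join.isSubnormal_sup hA hB) fun U hU => h U ?_
  exact hfin.mem_toFinset.1 hU

/-- Among a conjugation invariant set of subnormal subgroups, a proper subset is normalized by
a further member. -/
theorem exists_le_normalizer_sSup : ∀ (n : ℕ) (G : Type u) [Group G] [Finite G],
    Nat.card G = n → ∀ S S₀ : Set (Subgroup G), (∀ U ∈ S, U.IsSubnormal) →
    (∀ U ∈ S, ∀ g : G, MulAut.conj g • U ∈ S) → S₀ ⊂ S →
    ∃ X ∈ S, X ∉ S₀ ∧ X ≤ Subgroup.normalizer ((sSup S₀ : Subgroup G) : Set G) := by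
  intro n
  induction n using Nat.strongRecOn with
  | ind n ih =>
  intro G _ _ hn S S₀ hS hconj h₀
  obtain ⟨X₀, hX₀, hX₀'⟩ := Set.exists_of_ssubset h₀
  set J := sSup S₀
  by_cases hJ : J.Normal
  · exact ⟨X₀, hX₀, hX₀', le_top.trans (Subgroup.normalizer_eq_top_iff.2 hJ).ge⟩
  have hJsn : J.IsSubnormal := isSubnormal_sSup fun U hU => hS U (h₀.subset hU)
  have hJtop : J ≠ ⊤ := by
    intro h
    apply hJ
    rw [h]
    infer_instance
  obtain ⟨M, hMn, hJM, hM⟩ := hJsn.exists_normal_and_le_and_lt_top_of_ne hJtop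
  let T : Set (Subgroup M) := {U | U.map M.subtype ∈ S}
  let T₀ : Set (Subgroup M) := {U | U.map M.subtype ∈ S₀}
  have hmem : ∀ U : Subgroup G, U ≤ M → (U.subgroupOf M).map M.subtype = U := fun U hU =>
    Subgroup.map_subgroupOf_eq_of_le hU
  by_cases hT : T₀ = T
  · -- then `S₀` is invariant and `J` is normal
    refine absurd (Subgroup.normalizer_eq_top_iff.1 (top_le_iff.1 fun g _ => ?_)) hJ
    rw [← conj_smul_eq_self_iff]
    have key : ∀ g : G, MulAut.conj g • J ≤ J := by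
      intro g
      rw [Subgroup.pointwise_smul_subset_iff]
      refine sSup_le fun U hU => ?_
      rw [← Subgroup.pointwise_smul_subset_iff]
      refine le_sSup ?_
      have hUM : U ≤ M := (le_sSup hU).trans hJM
      have hgU : MulAut.conj g • U ≤ M := by
        rw [← conj_smul_eq_self_iff.2 (Subgroup.normalizer_eq_top_iff.2 hMn ▸ trivial :
          g ∈ Subgroup.normalizer (M : Set G))]
        exact Subgroup.pointwise_smul_le_pointwise_smul_iff.2 hUM
      have h1 : (MulAut.conj g • U).subgroupOf M ∈ T := by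
        change _ ∈ S
        rw [hmem _ hgU]
        exact hconj U (h₀.subset hU) g
      rw [← hT] at h1
      change _ ∈ S₀ at h1
      rwa [hmem _ hgU] at h1
    refine le_antisymm (key g) ?_
    have h2 := Subgroup.pointwise_smul_le_pointwise_smul_iff (a := MulAut.conj g) |>.2 (key g⁻¹)
    rwa [← conj_smul_mul, mul_inv_cancel, conj_smul_one] at h2
  · have hlt : Nat.card M < n := hn ▸ lt_of_le_of_ne (Subgroup.card_le_card_group M)
      (fun h => hM.ne (Subgroup.eq_top_of_card_eq M h))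
    obtain ⟨X, hX, hX', hle⟩ := ih _ hlt M rfl T T₀
      (fun U hU => by
        have h1 := (hS _ hU).comap M.subtype
        rwa [Subgroup.comap_map_eq_self_of_injective M.subtype_injective] at h1)
      (fun U hU m => by
        change _ ∈ S
        rw [map_conj_smul]
        exact hconj _ hU _)
      (ssubset_of_subset_of_ne (fun U hU => h₀.subset hU) hT)
    refine ⟨X.map M.subtype, hX, hX', ?_⟩
    have hJ' : (sSup T₀).map M.subtype = J := by
      refine le_antisymm ?_ (sSup_le fun U hU => ?_)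
      · rw [Subgroup.map_le_iff_le_comap]
        exact sSup_le fun U hU => Subgroup.map_le_iff_le_comap.1 (le_sSup hU)
      · rw [← hmem U ((le_sSup hU).trans hJM)]
        refine Subgroup.map_mono (le_sSup ?_)
        change _ ∈ S₀
        rwa [hmem U ((le_sSup hU).trans hJM)]
    rw [← hJ']
    exact (Subgroup.map_mono hle).trans (Subgroup.le_normalizer_map _)

theorem exists_max (U : Set (Subgroup G)) [Finite G] {V : Subgroup G} (hV : V ∈ U) :
    ∃ M, Maximal (· ∈ U) M ∧ V ≤ M := by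
  obtain ⟨M, hVM, hM⟩ := (Set.toFinite U).exists_le_maximal hV
  exact ⟨M, hM, hVM⟩

/-- The uniqueness of a maximal member of a family governed by a subnormal subgroup. -/
theorem exists_greatest [Finite G] (A : Subgroup G) (U : Set (Subgroup G)) (hU : U.Nonempty)
    (S : Subgroup G → Set (Subgroup G))
    (hS : ∀ V B : Subgroup G, B ∈ S V ↔
      (∃ g : G, B = MulAut.conj g • A) ∧ B ≤ V ∧ (B.subgroupOf V).IsSubnormal)
    (h2 : ∀ V ∈ U, ∀ W ∈ U, ∀ B ∈ S W, B ≤ V → B ∈ S V)
    (h3 : ∀ V ∈ U, ∀ W ∈ U, ∃ X ∈ U,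
      Subgroup.normalizer ((sSup (S V ∩ S W) : Subgroup G) : Set G) ≤ X) :
    ∃ M ∈ U, ∀ V ∈ U, V ≤ M := by
  obtain ⟨V₀, hV₀⟩ := hU
  obtain ⟨M₀, hM₀, -⟩ := exists_max U hV₀
  by_contra hcon
  push Not at hcon
  obtain ⟨V₁, hV₁, hV₁'⟩ := hcon M₀ hM₀.prop
  obtain ⟨M₁, hM₁, hle₁⟩ := exists_max U hV₁
  -- a bad pair maximising the intersection
  let P : Set (Subgroup G × Subgroup G) :=
    {vw | Maximal (· ∈ U) vw.1 ∧ Maximal (· ∈ U) vw.2 ∧ vw.1 ≠ vw.2}
  have hP : (M₀, M₁) ∈ P := ⟨hM₀, hM₁, fun h => hV₁' ((le_of_le_of_eq hle₁ h.symm))⟩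
  obtain ⟨⟨V, W⟩, ⟨hV, hW, hne⟩, hbest⟩ := (Set.toFinite P).exists_maximalFor
    (fun vw => (S vw.1 ∩ S vw.2).ncard) P ⟨_, hP⟩
  -- members of `S V` are invariant in `V`
  have hinv : ∀ (L B : Subgroup G), B ∈ S L → ∀ l ∈ L, MulAut.conj l • B ∈ S L := by
    intro L B hB l hl
    obtain ⟨⟨g, rfl⟩, hBL, hsn⟩ := (hS L B).1 hB
    have hLl : ∀ l ∈ L, MulAut.conj l • L = L := fun l hl =>
      conj_smul_eq_self_iff.2 (Subgroup.le_normalizer hl)
    refine (hS _ _).2 ⟨⟨l * g, (conj_smul_mul _ _ _).symm⟩, ?_, ?_⟩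
    · rw [← hLl l hl]
      exact Subgroup.pointwise_smul_le_pointwise_smul_iff.2 hBL
    · refine Subnormal.Join.isSubnormal_subgroupOf_conj l ?_
      rwa [hLl _ (inv_mem hl)]
  have hnormal : ∀ L : Subgroup G, L ≤ Subgroup.normalizer ((sSup (S L) : Subgroup G) : Set G) := by
    intro L l hl
    rw [← conj_smul_eq_self_iff]
    have key : ∀ l ∈ L, MulAut.conj l • sSup (S L) ≤ sSup (S L) := by
      intro l hl
      rw [Subgroup.pointwise_smul_subset_iff]
      refine sSup_le fun B hB => ?_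
      rw [← Subgroup.pointwise_smul_subset_iff]
      exact le_sSup (hinv L B hB l hl)
    refine le_antisymm (key l hl) ?_
    have h2 := Subgroup.pointwise_smul_le_pointwise_smul_iff (a := MulAut.conj l) |>.2
      (key l⁻¹ (inv_mem hl))
    rwa [← conj_smul_mul, mul_inv_cancel, conj_smul_one] at h2
  have hext : ∀ L : Subgroup G, S V ∩ S W ⊂ S L →
      ∃ B ∈ S L, B ∉ S V ∩ S W ∧
        B ≤ Subgroup.normalizer ((sSup (S V ∩ S W) : Subgroup G) : Set G) := by
    intro L hL
    have hle : ∀ B ∈ S L, B ≤ L := fun B hB => ((hS L B).1 hB).2.1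
    let T : Set (Subgroup L) := {B | B.map L.subtype ∈ S L}
    let T₀ : Set (Subgroup L) := {B | B.map L.subtype ∈ S V ∩ S W}
    have hmem : ∀ B ∈ S L, (B.subgroupOf L).map L.subtype = B := fun B hB =>
      Subgroup.map_subgroupOf_eq_of_le (hle B hB)
    obtain ⟨B₁, hB₁, hB₁'⟩ := Set.exists_of_ssubset hL
    obtain ⟨X, hX, hX', hXle⟩ := exists_le_normalizer_sSup _ L rfl T T₀
      (fun B hB => by
        have h1 := ((hS L _).1 hB).2.2
        rwa [Subgroup.subgroupOf, Subgroup.comap_map_eq_self_of_injective L.subtype_injective]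
          at h1)
      (fun B hB l => by
        change _ ∈ S L
        rw [map_conj_smul]
        exact hinv L _ hB l l.2)
      ((Set.ssubset_iff_of_subset (show T₀ ⊆ T from fun B hB => hL.subset hB)).2
        ⟨B₁.subgroupOf L, by rwa [Set.mem_setOf_eq, hmem _ hB₁],
          fun h => hB₁' (by rwa [Set.mem_setOf_eq, hmem _ hB₁] at h)⟩)
    refine ⟨X.map L.subtype, hX, hX', ?_⟩
    have hJ' : (sSup T₀).map L.subtype = sSup (S V ∩ S W) := by
      refine le_antisymm ?_ (sSup_le fun B hB => ?_)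
      · rw [Subgroup.map_le_iff_le_comap]
        exact sSup_le fun B hB => Subgroup.map_le_iff_le_comap.1 (le_sSup hB)
      · rw [← hmem B (hL.subset hB)]
        refine Subgroup.map_mono (le_sSup ?_)
        change _ ∈ S V ∩ S W
        rwa [hmem B (hL.subset hB)]
    rw [← hJ']
    exact (Subgroup.map_mono hXle).trans (Subgroup.le_normalizer_map _)
  -- neither `S V` nor `S W` is contained in the other
  have hproper : ∀ V' W' : Subgroup G, Maximal (· ∈ U) V' → Maximal (· ∈ U) W' → V' ≠ W' →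
      S V' ∩ S W' = S V ∩ S W → S V' ∩ S W' ⊂ S V' := by
    intro V' W' hV' hW' hne' heq
    refine ssubset_of_subset_of_ne Set.inter_subset_left fun he => ?_
    obtain ⟨X, hX, hNX⟩ := h3 V' hV'.prop W' hW'.prop
    have hVX : V' ≤ X := by
      rw [he] at hNX
      exact (hnormal V').trans hNX
    have hXV : X ≤ V' := hV'.2 hX hVX
    by_cases hWe : S V' ∩ S W' = S W'
    · rw [hWe] at hNX
      exact hne' (le_antisymm (hW'.2 hV'.prop ((hnormal W').trans (hNX.trans hXV)))
        ((hnormal W').trans (hNX.trans hXV)))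
    · have hss : S V ∩ S W ⊂ S W' :=
        heq ▸ ssubset_of_subset_of_ne Set.inter_subset_right hWe
      obtain ⟨B, hB, hB', hBN⟩ := hext W' hss
      rw [← heq] at hB' hBN
      exact hB' ⟨h2 V' hV'.prop W' hW'.prop B hB (hBN.trans (hNX.trans hXV)), hB⟩
  have hpV := hproper V W hV hW hne rfl
  have hpW := hproper W V hW hV hne.symm (Set.inter_comm _ _)
  rw [Set.inter_comm (S W)] at hpW
  obtain ⟨X, hX, hNX⟩ := h3 V hV.prop W hW.prop
  obtain ⟨M, hM, hXM⟩ := exists_max U hX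
  have hJX : sSup (S V ∩ S W) ≤ M := (Subgroup.le_normalizer.trans hNX).trans hXM
  have hkey : ∀ L : Subgroup G, Maximal (· ∈ U) L → S V ∩ S W ⊂ S L → L = M := by
    intro L hL hss
    obtain ⟨B, hB, hB', hBN⟩ := hext L hss
    by_contra hLM
    have hsub : S V ∩ S W ⊆ S L ∩ S M := fun C hC =>
      ⟨hss.subset hC, h2 M hM.prop V hV.prop C hC.1 ((le_sSup hC).trans hJX)⟩
    have hBM : B ∈ S M := h2 M hM.prop L hL.prop B hB ((hBN.trans hNX).trans hXM)
    have hlt : (S V ∩ S W).ncard < (S L ∩ S M).ncard :=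
      Set.ncard_lt_ncard ((Set.ssubset_iff_of_subset hsub).2 ⟨B, ⟨hB, hBM⟩, hB'⟩) (Set.toFinite _)
    have hle : (S V ∩ S W).ncard ≤ (S L ∩ S M).ncard := hlt.le
    exact absurd (hbest (show (L, M) ∈ P from ⟨hL, hM, hLM⟩) hle) (not_le.2 hlt)
  exact hne ((hkey V hV hpV).trans (hkey W hW hpW).symm)

/-- Alperin–Gorenstein type criterion. -/
theorem exists_sylow_normalizing [Finite G] (p : ℕ) [Fact p.Prime] (Z Y : Subgroup G)
    (h : ∀ g : G, IsPGroup p ↥(⨆ y ∈ Y, MulAut.conj (y * g) • Z)) :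
    ∃ P : Sylow p G, Y ≤ Subgroup.normalizer
      ((⨆ g ∈ {g : G | MulAut.conj g • Z ≤ (P : Subgroup G)}, MulAut.conj g • Z : Subgroup G)
        : Set G) := by
  let J : Set G → Subgroup G := fun Ω => ⨆ g ∈ Ω, MulAut.conj g • Z
  let good : Set (Set G) := {Ω | (∀ y ∈ Y, ∀ g ∈ Ω, y * g ∈ Ω) ∧ IsPGroup p (J Ω)}
  obtain ⟨Ω, hΩ⟩ := (Set.toFinite good).exists_maximal ⟨∅, fun y _ g hg => hg.elim, by
    have hb : J ∅ = ⊥ := le_bot_iff.1 (iSup₂_le fun g hg => hg.elim)
    rw [hb]
    exact IsPGroup.of_bot⟩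
  obtain ⟨hinv, hp⟩ := hΩ.prop
  obtain ⟨P, hP⟩ := hp.exists_le_sylow
  refine ⟨P, ?_⟩
  have hsub : ∀ g ∈ Ω, MulAut.conj g • Z ≤ (P : Subgroup G) := fun g hg =>
    (le_iSup₂_of_le g hg le_rfl).trans hP
  have hJY : Y ≤ Subgroup.normalizer (J Ω : Set G) := by
    intro y hy
    rw [← conj_smul_eq_self_iff]
    have key : ∀ y ∈ Y, MulAut.conj y • J Ω ≤ J Ω := by
      intro y hy
      rw [Subgroup.pointwise_smul_subset_iff]
      refine iSup₂_le fun g hg => ?_
      rw [← Subgroup.pointwise_smul_subset_iff, ← conj_smul_mul]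
      exact le_iSup₂_of_le (y * g) (hinv y hy g hg) le_rfl
    refine le_antisymm (key y hy) ?_
    have h2 := Subgroup.pointwise_smul_le_pointwise_smul_iff (a := MulAut.conj y) |>.2
      (key y⁻¹ (inv_mem hy))
    rwa [← conj_smul_mul, mul_inv_cancel, conj_smul_one] at h2
  suffices hall : ∀ g : G, MulAut.conj g • Z ≤ (P : Subgroup G) → MulAut.conj g • Z ≤ J Ω by
    refine hJY.trans (le_of_eq ?_)
    congr 2
    exact le_antisymm (iSup₂_le fun g hg => le_iSup₂_of_le g (hsub g hg) le_rfl)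
      (iSup₂_le fun g hg => hall g hg)
  by_contra hne
  push Not at hne
  obtain ⟨g₁, hg₁, hg₁'⟩ := hne
  let S : Set (Subgroup ↥(P : Subgroup G)) :=
    {B | ∃ g : G, B.map (P : Subgroup G).subtype = MulAut.conj g • Z}
  let S₀ : Set (Subgroup ↥(P : Subgroup G)) :=
    {B | ∃ g : G, B.map (P : Subgroup G).subtype = MulAut.conj g • Z ∧ MulAut.conj g • Z ≤ J Ω}
  haveI : Group.IsNilpotent ↥(P : Subgroup G) := P.2.isNilpotent
  obtain ⟨X, ⟨g, hXg⟩, hX', hXle⟩ := exists_le_normalizer_sSup _ ↥(P : Subgroup G) rfl S S₀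
    (fun B _ => isSubnormal_of_isNilpotent B)
    (fun B hB x => by
      obtain ⟨g, hg⟩ := hB
      exact ⟨x * g, by rw [map_conj_smul, hg, conj_smul_mul]; rfl⟩)
    ((Set.ssubset_iff_of_subset fun B hB => hB.imp fun _ h => h.1).2
      ⟨(MulAut.conj g₁ • Z).subgroupOf P, ⟨g₁, Subgroup.map_subgroupOf_eq_of_le hg₁⟩, by
        rintro ⟨g, hg, hgJ⟩
        rw [Subgroup.map_subgroupOf_eq_of_le hg₁] at hg
        exact hg₁' (hg ▸ hgJ)⟩)
  have hgN : MulAut.conj g • Z ≤ Subgroup.normalizer (J Ω : Set G) := by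
    rw [← hXg]
    refine (Subgroup.map_mono hXle).trans ((Subgroup.le_normalizer_map _).trans (le_of_eq ?_))
    congr 2
    refine le_antisymm ?_ (iSup₂_le fun g' hg' => ?_)
    · rw [Subgroup.map_le_iff_le_comap]
      refine sSup_le fun B hB => Subgroup.map_le_iff_le_comap.1 ?_
      obtain ⟨g', hg', hJ'⟩ := hB
      exact hg'.trans_le hJ'
    · rw [← Subgroup.map_subgroupOf_eq_of_le (hsub g' hg')]
      exact Subgroup.map_mono (le_sSup ⟨g', Subgroup.map_subgroupOf_eq_of_le (hsub g' hg'),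
        le_iSup₂_of_le g' hg' le_rfl⟩)
  set R : Subgroup G := ⨆ y ∈ Y, MulAut.conj (y * g) • Z with hR
  have hRN : R ≤ Subgroup.normalizer (J Ω : Set G) := iSup₂_le fun y hy => by
    rw [conj_smul_mul, ← conj_smul_eq_self_iff.2 (Subgroup.le_normalizer (hJY hy))]
    exact Subgroup.pointwise_smul_le_pointwise_smul_iff.2 hgN
  have hbig : IsPGroup p ↥(R ⊔ J Ω : Subgroup G) := (h g).to_sup_of_normal_right' hp hRN
  let Ω' : Set G := Ω ∪ {x | ∃ y ∈ Y, x = y * g}
  have hΩ' : Ω' ∈ good := by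
    refine ⟨fun y hy x hx => ?_, hbig.to_le (iSup₂_le fun x hx => ?_)⟩
    · rcases hx with hx | ⟨y', hy', rfl⟩
      · exact Or.inl (hinv y hy x hx)
      · exact Or.inr ⟨y * y', mul_mem hy hy', (mul_assoc y y' g).symm⟩
    · rcases hx with hx | ⟨y', hy', rfl⟩
      · exact (show MulAut.conj x • Z ≤ J Ω from le_iSup₂_of_le x hx le_rfl).trans le_sup_right
      · exact (show MulAut.conj (y' * g) • Z ≤ R from le_iSup₂_of_le y' hy' le_rfl).trans le_sup_left
  have hgΩ : g ∈ Ω := hΩ.2 hΩ' Set.subset_union_left (Or.inr ⟨1, one_mem Y, (one_mul g).symm⟩)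
  exact hX' ⟨g, hXg, le_iSup₂_of_le g hgΩ le_rfl⟩

end Cfsg.Agent.SolvStruct.Conjugates
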