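import Cfsg.Agent.Solvable.HallOrder
import Cfsg.Agent.Solvable.Carter
import Cfsg.Agent.Lib.Cores.Basic
import Cfsg.Agent.Lib.Cores.Fitting
import Cfsg.Agent.Lib.Cores.Nilpotent
import Cfsg.Prelude.Def_SolvableStructure

/-!
Hall complement systems and system normalizers of finite solvable groups (P. Hall, Carter).
-/

set_option autoImplicit false

namespace Cfsg.Agent.SolvStruct.SystemNormalizer

open Cfsg Cfsg.Agent.Cores Cfsg.Agent.Coprime Cfsg.Agent.Solvable
open scoped Pointwise commutatorElement

variable {G : Type*} [Group G] [Finite G]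

/-! ### Complement systems -/

theorem isPiHall_of_complement {p : Nat.Primes} {H : Subgroup G}
    (h : H.index = (p : ℕ) ^ (Nat.card G).factorization p) : IsPiHall {(p : ℕ)}ᶜ H := by
  refine ⟨fun q hq hd => ?_, fun q hq hqp hd => ?_⟩
  · rintro rfl
    have h1 : (p : ℕ) ^ ((Nat.card G).factorization p + 1) ∣ Nat.card G := by
      have h2 := mul_dvd_mul hd (dvd_of_eq h.symm)
      rwa [H.card_mul_index, ← pow_succ'] at h2
    exact Nat.not_succ_le_self _ ((p.2.pow_dvd_iff_le_factorization Nat.card_pos.ne').1 h1)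
  · rw [h] at hd
    exact hqp ((Nat.prime_dvd_prime_iff_eq hq p.2).1 (hq.dvd_of_dvd_pow hd))

theorem complement_of_isPiHall {p : Nat.Primes} {H : Subgroup G}
    (h : IsPiHall {(p : ℕ)}ᶜ H) : H.index = (p : ℕ) ^ (Nat.card G).factorization p := by
  have hne : H.index ≠ 0 := Subgroup.index_ne_zero_of_finite
  obtain ⟨k, h1⟩ : ∃ k, H.index = (p : ℕ) ^ k :=
    ⟨_, Nat.eq_prime_pow_of_unique_prime_dvd hne fun {d} hd hdvd =>
      by_contra fun hne' => h.2 d hd hne' hdvd⟩
  have h2 : (Nat.card H).factorization (p : ℕ) = 0 :=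
    Nat.factorization_eq_zero_of_not_dvd fun hd => h.1 p p.2 hd rfl
  rw [h1]
  congr 1
  rw [← H.card_mul_index, Nat.factorization_mul Nat.card_pos.ne' hne, Finsupp.add_apply, h2,
    zero_add, h1, p.2.factorization_pow, Finsupp.single_eq_same]

theorem isComplementSystem_iff {K : Nat.Primes → Subgroup G} :
    IsComplementSystem K ↔ ∀ p : Nat.Primes, IsPiHall {(p : ℕ)}ᶜ (K p) :=
  ⟨fun h p => isPiHall_of_complement (h p), fun h p => complement_of_isPiHall (h p)⟩

theorem eq_top_of_not_dvd {K : Nat.Primes → Subgroup G} (hK : IsComplementSystem K)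
    {p : Nat.Primes} (h : ¬ (p : ℕ) ∣ Nat.card G) : K p = ⊤ := by
  rw [← Subgroup.index_eq_one, hK p, Nat.factorization_eq_zero_of_not_dvd h, pow_zero]

theorem isComplementSystem_conj {K : Nat.Primes → Subgroup G} (hK : IsComplementSystem K) (g : G) :
    IsComplementSystem fun p => MulAut.conj g • K p :=
  isComplementSystem_iff.2 fun p => Hall.isPiHall_conj_smul (isComplementSystem_iff.1 hK p) g

theorem coprime_index {K : Nat.Primes → Subgroup G} (hK : IsComplementSystem K)
    {p q : Nat.Primes} (h : p ≠ q) : (K p).index.Coprime (K q).index := by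
  rw [hK p, hK q]
  exact Nat.Coprime.pow _ _ ((Nat.coprime_primes p.2 q.2).2 fun he => h (Subtype.ext he))

theorem coprime_index_finset_inf {K : Nat.Primes → Subgroup G} (hK : IsComplementSystem K)
    {s : Finset Nat.Primes} {a : Nat.Primes} (ha : a ∉ s) {A : Subgroup G}
    (hA : A.index = (K a).index) : (s.inf K).index.Coprime A.index := by
  rw [HallOrder.index_finset_inf s K fun i _ j _ hij => coprime_index hK hij, hA]
  exact Nat.Coprime.prod_left fun i hi => coprime_index hK fun he => ha (he ▸ hi)

theorem index_conj_smul (g : G) (H : Subgroup G) : (MulAut.conj g • H).index = H.index := by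
  have h1 := (MulAut.conj g • H).card_mul_index
  rw [card_conj_smul, ← H.card_mul_index] at h1
  exact Nat.eq_of_mul_eq_mul_left Nat.card_pos h1

theorem conj_smul_eq_of_mem {g : G} {H : Subgroup G} (hg : g ∈ H) : MulAut.conj g • H = H :=
  conj_smul_eq_self_iff.2 (Subgroup.le_normalizer hg)

theorem conj_smul_top (g : G) : MulAut.conj g • (⊤ : Subgroup G) = ⊤ :=
  conj_smul_eq_of_mem trivial

/-- Any two complement systems are conjugate. -/
theorem exists_conj_eq [Group.IsSolvable G] {K L : Nat.Primes → Subgroup G}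
    (hK : IsComplementSystem K) (hL : IsComplementSystem L) :
    ∃ g : G, ∀ p : Nat.Primes, MulAut.conj g • K p = L p := by
  classical
  have key : ∀ s : Finset Nat.Primes, ∃ g : G, ∀ p ∈ s, MulAut.conj g • K p = L p := by
    intro s
    induction s using Finset.induction with
    | empty => exact ⟨1, fun p hp => absurd hp (Finset.notMem_empty p)⟩
    | insert a s ha ih =>
      obtain ⟨g, hg⟩ := ih
      obtain ⟨y, hy⟩ := Hall.exists_conj_eq_of_isPiHall
        (isComplementSystem_iff.1 (isComplementSystem_conj hK g) a) (isComplementSystem_iff.1 hL a)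
      have hidx : (MulAut.conj g • K a).index = (L a).index := by
        rw [index_conj_smul, hK a, hL a]
      obtain ⟨u, hu, l, hl, rfl⟩ :=
        (S0007.result (s.inf L) (MulAut.conj g • K a) (coprime_index_finset_inf hL ha hidx)).2 y
      refine ⟨u * g, fun p hp => ?_⟩
      rw [conj_smul_mul]
      rcases Finset.mem_insert.1 hp with rfl | hp
      · rw [conj_smul_mul, conj_smul_eq_of_mem hl] at hy
        exact hy
      · rw [hg p hp]
        exact conj_smul_eq_of_mem ((Finset.inf_le hp : s.inf L ≤ L p) hu)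
  obtain ⟨g, hg⟩ := key (HallOrder.primesOf G)
  refine ⟨g, fun p => ?_⟩
  by_cases hp : (p : ℕ) ∣ Nat.card G
  · exact hg p (HallOrder.mem_primesOf.2 hp)
  · rw [eq_top_of_not_dvd hK hp, eq_top_of_not_dvd hL hp, conj_smul_top]

theorem mem_systemNormalizer {K : Nat.Primes → Subgroup G} {x : G} :
    x ∈ systemNormalizer K ↔ ∀ p : Nat.Primes, MulAut.conj x • K p = K p := by
  simp only [systemNormalizer, Subgroup.mem_iInf, conj_smul_eq_self_iff]

theorem systemNormalizer_le_normalizer (K : Nat.Primes → Subgroup G) (p : Nat.Primes) :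
    systemNormalizer K ≤ Subgroup.normalizer (K p : Set G) :=
  iInf_le (fun p : Nat.Primes => Subgroup.normalizer (K p : Set G)) p

theorem systemNormalizer_conj {K L : Nat.Primes → Subgroup G} {g : G}
    (h : ∀ p, MulAut.conj g • K p = L p) :
    systemNormalizer L = MulAut.conj g • systemNormalizer K := by
  ext x
  simp only [mem_conj_smul, systemNormalizer, Subgroup.mem_iInf, ← h, ← conj_smul_normalizer]

/-! ### Quotients -/

theorem isComplementSystem_map {K : Nat.Primes → Subgroup G} (hK : IsComplementSystem K)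
    (N : Subgroup G) [N.Normal] :
    IsComplementSystem fun p => (K p).map (QuotientGroup.mk' N) :=
  isComplementSystem_iff.2 fun p =>
    Hall.isPiHall_map (isComplementSystem_iff.1 hK p) (QuotientGroup.mk'_surjective N)

theorem conj_smul_sup_eq {K : Subgroup G} {N : Subgroup G} [N.Normal] {g : G}
    (h : MulAut.conj ((QuotientGroup.mk' N) g) • K.map (QuotientGroup.mk' N) =
      K.map (QuotientGroup.mk' N)) :
    (MulAut.conj g • K) ⊔ N = K ⊔ N := by
  rw [← map_conj_smul] at h
  have h1 := congrArg (Subgroup.comap (QuotientGroup.mk' N)) h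
  rwa [Subgroup.comap_map_eq, Subgroup.comap_map_eq, QuotientGroup.ker_mk'] at h1

theorem systemNormalizer_map [Group.IsSolvable G] {K : Nat.Primes → Subgroup G}
    (hK : IsComplementSystem K) (N : Subgroup G) [N.Normal] :
    systemNormalizer (fun p => (K p).map (QuotientGroup.mk' N)) =
      (systemNormalizer K).map (QuotientGroup.mk' N) := by
  classical
  refine le_antisymm (fun x hx => ?_) ?_
  · obtain ⟨g, rfl⟩ := QuotientGroup.mk'_surjective N x
    rw [mem_systemNormalizer] at hx
    have hH := isComplementSystem_iff.1 hK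
    have key : ∀ s : Finset Nat.Primes, ∃ n ∈ N, ∀ p ∈ s, MulAut.conj (n * g) • K p = K p := by
      intro s
      induction s using Finset.induction with
      | empty => exact ⟨1, one_mem N, fun p hp => absurd hp (Finset.notMem_empty p)⟩
      | insert a s ha ih =>
        obtain ⟨n, hn, hns⟩ := ih
        have hmk : QuotientGroup.mk' N (n * g) = QuotientGroup.mk' N g := by
          rw [map_mul, show QuotientGroup.mk' N n = 1 from (QuotientGroup.eq_one_iff n).2 hn,
            one_mul]
        have hsup := conj_smul_sup_eq (K := K a) (N := N) (g := n * g) (by rw [hmk]; exact hx a)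
        set L := MulAut.conj (n * g) • K a with hLdef
        set M := K a ⊔ N
        have hLM : L ≤ M := hsup ▸ le_sup_left
        have hKM : K a ≤ M := le_sup_left
        have hallM : ∀ A : Subgroup G, A ≤ M → IsPiHall {(a : ℕ)}ᶜ A →
            IsPiHall {(a : ℕ)}ᶜ (A.subgroupOf M) := fun A hA hh =>
          ⟨IsPi.subgroupOf hh.1 M, fun q hq hqa hd =>
            hh.2 q hq hqa (hd.trans (Subgroup.relIndex_dvd_index_of_le hA))⟩
        obtain ⟨m, hm⟩ := Hall.exists_conj_eq_of_isPiHall
          (hallM L hLM (Hall.isPiHall_conj_smul (hH a) _)) (hallM (K a) hKM (hH a))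
        have hm' : MulAut.conj (m : G) • L = K a := by
          have h1 := congrArg (Subgroup.map M.subtype) hm
          rwa [map_conj_smul, Subgroup.map_subgroupOf_eq_of_le hLM,
            Subgroup.map_subgroupOf_eq_of_le hKM] at h1
        obtain ⟨k, hk, n', hn', hkn⟩ := Subgroup.mem_sup_of_normal_right.1 (show (m : G) ∈ K a ⊔ N from m.2)
        have h1 : MulAut.conj n' • L = K a := by
          rw [← hkn, conj_smul_mul] at hm'
          rw [← conj_inv_smul_smul k (MulAut.conj n' • L), hm', conj_smul_eq_of_mem (inv_mem hk)]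
        have hcop : ((K a).subgroupOf N).index.Coprime ((s.inf K).subgroupOf N).index :=
          Nat.Coprime.coprime_dvd_left (relIndex_dvd_index_right_normal (K a) N)
            ((coprime_index_finset_inf hK ha rfl).symm.coprime_dvd_right
              (relIndex_dvd_index_right_normal (s.inf K) N))
        obtain ⟨v, hv, u, hu, hvu⟩ := (S0007.result _ _ hcop).2 ⟨n', hn'⟩
        have hvu' : n' = (v : G) * u := congrArg Subtype.val hvu
        rw [Subgroup.mem_subgroupOf] at hv hu
        have h2 : MulAut.conj (u : G) • L = K a := by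
          rw [hvu', conj_smul_mul] at h1
          rw [← conj_inv_smul_smul (v : G) (MulAut.conj (u : G) • L), h1,
            conj_smul_eq_of_mem (inv_mem hv)]
        refine ⟨u * n, mul_mem u.2 hn, fun p hp => ?_⟩
        rw [mul_assoc, conj_smul_mul]
        rcases Finset.mem_insert.1 hp with rfl | hp
        · exact h2
        · rw [hns p hp]
          exact conj_smul_eq_of_mem ((Finset.inf_le hp : s.inf K ≤ K p) hu)
    obtain ⟨n, hn, hns⟩ := key (HallOrder.primesOf G)
    refine ⟨n * g, mem_systemNormalizer.2 fun p => ?_, ?_⟩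
    · by_cases hp : (p : ℕ) ∣ Nat.card G
      · exact hns p (HallOrder.mem_primesOf.2 hp)
      · rw [eq_top_of_not_dvd hK hp, conj_smul_top]
    · rw [map_mul, show QuotientGroup.mk' N n = 1 from (QuotientGroup.eq_one_iff n).2 hn, one_mul]
  · rintro _ ⟨g, hg, rfl⟩
    rw [mem_systemNormalizer]
    intro p
    rw [← map_conj_smul, mem_systemNormalizer.1 hg p]

/-! ### Nilpotency -/

theorem mem_of_normalizing {p : ℕ} {H : Subgroup G} (hH : IsPiHall {p}ᶜ H) {x : G}
    (hx : x ∈ Subgroup.normalizer (H : Set G)) (hord : ¬ p ∣ orderOf x) : x ∈ H := by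
  refine (Carter.le_of_coprime_relIndex (C := Subgroup.normalizer (H : Set G)) le_rfl
    Subgroup.le_normalizer (Subgroup.zpowers_le.2 hx) ?_) (Subgroup.mem_zpowers x)
  rw [Nat.card_zpowers]
  refine Nat.coprime_of_dvd fun q hq hd hd' => ?_
  exact hH.2 q hq (fun he => hord (Set.mem_singleton_iff.1 he ▸ hd))
    (hd'.trans (Subgroup.relIndex_dvd_index_of_le Subgroup.le_normalizer))

theorem systemNormalizer_isNilpotent {K : Nat.Primes → Subgroup G} (hK : IsComplementSystem K) :
    Group.IsNilpotent (systemNormalizer K) := by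
  set D := systemNormalizer K
  apply ((isNilpotent_of_finite_tfae (G := D)).out 0 3).mpr
  intro p hp P
  let T : Subgroup D := ⨅ q : Nat.Primes, ⨅ _ : (q : ℕ) ≠ p, (K q).subgroupOf D
  have hT : ∀ x : D, x ∈ T ↔ ∀ q : Nat.Primes, (q : ℕ) ≠ p → (x : G) ∈ K q := fun x => by
    simp only [T, Subgroup.mem_iInf, Subgroup.mem_subgroupOf]
  haveI hTn : T.Normal := ⟨fun x hx d => (hT _).2 fun q hq =>
    (Subgroup.mem_normalizer_iff.1 (systemNormalizer_le_normalizer K q d.2) _).1
      ((hT x).1 hx q hq)⟩
  have hPT : (P : Subgroup D) ≤ T := fun x hx => (hT x).2 fun q hq => by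
    refine mem_of_normalizing (isComplementSystem_iff.1 hK q)
      (systemNormalizer_le_normalizer K q x.2) fun hd => ?_
    obtain ⟨k, hk⟩ := P.2 ⟨x, hx⟩
    have h1 : orderOf (x : G) ∣ p ^ k := by
      rw [Subgroup.orderOf_coe]
      exact orderOf_dvd_of_pow_eq_one (congrArg Subtype.val hk)
    exact hq ((Nat.prime_dvd_prime_iff_eq q.2 hp.out).1 (q.2.dvd_of_dvd_pow (hd.trans h1)))
  have hTp : IsPGroup p T := by
    refine (isPi_iff_isPGroup T).1 fun r hr hd => ?_
    by_contra hne
    obtain ⟨x, hx⟩ := exists_prime_orderOf_dvd_card' r (hp := ⟨hr⟩) hd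
    have h1 : ((x : D) : G) ∈ K ⟨r, hr⟩ := (hT x.1).1 x.2 ⟨r, hr⟩ hne
    refine (isComplementSystem_iff.1 hK ⟨r, hr⟩).1 r hr ?_ rfl
    have h2 := Subgroup.orderOf_dvd_natCard (K ⟨r, hr⟩) h1
    rwa [Subgroup.orderOf_coe, Subgroup.orderOf_coe, hx] at h2
  rw [← P.3 hTp hPT]
  exact hTn

/-! ### Normal closure and chief factors -/

theorem normalClosure_eq_top [Group.IsSolvable G] {K : Nat.Primes → Subgroup G}
    (hK : IsComplementSystem K) :
    Subgroup.normalClosure ((systemNormalizer K : Subgroup G) : Set G) = ⊤ := by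
  set N := Subgroup.normalClosure ((systemNormalizer K : Subgroup G) : Set G)
  by_contra hne
  haveI : Nontrivial (G ⧸ N) := QuotientGroup.nontrivial_iff.2 hne
  have hlt := IsSolvable.commutator_lt_top_of_nontrivial (G := G ⧸ N)
  set M := (_root_.commutator (G ⧸ N)).comap (QuotientGroup.mk' N) with hMdef
  have hM : M ≠ ⊤ := fun h => hlt.ne (by
    rw [← Subgroup.map_comap_eq_self_of_surjective (QuotientGroup.mk'_surjective N)
      (_root_.commutator (G ⧸ N)), ← hMdef, h,
      Subgroup.map_top_of_surjective _ (QuotientGroup.mk'_surjective N)])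
  have hcM : _root_.commutator G ≤ M := by
    rw [hMdef, ← Subgroup.map_le_iff_le_comap, commutator_def, commutator_def,
      Subgroup.map_commutator]
    exact Subgroup.commutator_mono le_top le_top
  have hDM : systemNormalizer K ≤ M := fun x hx => by
    rw [hMdef, Subgroup.mem_comap, show QuotientGroup.mk' N x = 1 from
      (QuotientGroup.eq_one_iff x).2 (Subgroup.subset_normalClosure hx)]
    exact one_mem _
  haveI hMn : M.Normal := inferInstance
  have h1 := systemNormalizer_map hK M
  have h2 : systemNormalizer (fun p => (K p).map (QuotientGroup.mk' M)) = ⊤ := by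
    refine top_le_iff.1 fun x _ => mem_systemNormalizer.2 fun p => ?_
    haveI : (K p ⊔ M).Normal := Subgroup.Normal.of_commutator_le G (hcM.trans le_sup_right)
    haveI h3 := Subgroup.Normal.map (inferInstance : (K p ⊔ M).Normal) (QuotientGroup.mk' M)
      (QuotientGroup.mk'_surjective M)
    rw [Subgroup.map_sup, QuotientGroup.map_mk'_self, sup_bot_eq] at h3
    exact conj_smul_eq_self_iff.2 (Subgroup.normalizer_eq_top_iff.2 h3 ▸ trivial)
  rw [h2] at h1
  apply hM
  rw [eq_top_iff]
  intro x _
  have h4 : QuotientGroup.mk' M x ∈ (systemNormalizer K).map (QuotientGroup.mk' M) :=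
    h1 ▸ trivial
  obtain ⟨d, hd, hdx⟩ := h4
  have h5 : d⁻¹ * x ∈ M := (QuotientGroup.eq.1 hdx)
  simpa using mul_mem (hDM hd) h5

/-- Central chief factors are covered, eccentric ones avoided: the case `A = ⊥`, central. -/
theorem center_le_systemNormalizer (K : Nat.Primes → Subgroup G) :
    Subgroup.center G ≤ systemNormalizer K :=
  le_iInf fun _ => Subgroup.center_le_normalizer _

/-- A normal `q`-subgroup lies in every Hall `q'`-containing Hall subgroup. -/
theorem le_hall_of_normal {π : Set ℕ} {H N : Subgroup G} [N.Normal] (hH : IsPiHall π H)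
    (hN : IsPi π N) : N ≤ H := by
  rw [Hall.isPiHall_eq_of_le hH (IsPi.sup hH.1 hN) le_sup_left]
  exact le_sup_right

theorem minimal_inf_systemNormalizer [Group.IsSolvable G] {K : Nat.Primes → Subgroup G}
    (hK : IsComplementSystem K) {B : Subgroup G} [B.Normal] (hB : B ≠ ⊥)
    (hmin : ∀ N : Subgroup G, N.Normal → N ≤ B → N = ⊥ ∨ N = B)
    (hnc : ¬ B ≤ Subgroup.center G) : B ⊓ systemNormalizer K = ⊥ := by
  obtain ⟨q, hq, -, hBq, -⟩ := Hall.minimal_normal_isElementaryAbelian hB hmin
  haveI : Fact q.Prime := ⟨hq⟩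
  let Q : Nat.Primes := ⟨q, hq⟩
  refine le_bot_iff.1 fun x hx => ?_
  have hxB : x ∈ B := hx.1
  have hxD : x ∈ systemNormalizer K := hx.2
  rw [Subgroup.mem_bot]
  by_contra hx1
  have hKq : IsPiHall {q}ᶜ (K Q) := isComplementSystem_iff.1 hK Q
  have hcomm : ∀ k ∈ K Q, k * x = x * k := by
    intro k hk
    have h1 : ⁅x, k⁆ ∈ B ⊓ K Q := by
      refine Subgroup.mem_inf.2 ⟨?_, ?_⟩
      · rw [commutatorElement_def, mul_assoc, mul_assoc]
        exact mul_mem hxB (by simpa [mul_assoc] using
          (inferInstance : B.Normal).conj_mem _ (inv_mem hxB) k)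
      · rw [commutatorElement_def]
        exact mul_mem ((Subgroup.mem_normalizer_iff.1 (systemNormalizer_le_normalizer K Q hxD) k).1 hk)
          (inv_mem hk)
    have h2 : B ⊓ K Q = ⊥ := by
      refine disjoint_iff.1 (disjoint_of_coprime ?_)
      refine Nat.coprime_of_dvd fun r hr hd hd' => hKq.1 r hr hd' ?_
      exact (isPi_iff_isPGroup B).2 hBq r hr hd
    rw [h2, Subgroup.mem_bot, commutatorElement_eq_one_iff_mul_comm] at h1
    exact h1.symm
  set C := Subgroup.centralizer (B : Set G)
  have hC : C ≠ ⊤ := fun h => hnc fun b hb => Subgroup.mem_center_iff.2 fun g =>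
    ((Subgroup.mem_centralizer_iff.1 (h ▸ trivial : g ∈ C)) b hb).symm
  haveI : Nontrivial (G ⧸ C) := QuotientGroup.nontrivial_iff.2 hC
  obtain ⟨Rq, hRn, -, hR, hRmin⟩ :=
    Hall.exists_minimal_normal (⊤ : Subgroup (G ⧸ C)) top_ne_bot
  obtain ⟨r, hr, -, hRr, -⟩ := Hall.minimal_normal_isElementaryAbelian hR hRmin
  haveI : Fact r.Prime := ⟨hr⟩
  set R := Rq.comap (QuotientGroup.mk' C) with hRdef
  have hCR : C ≤ R := by
    intro c hc
    rw [hRdef, Subgroup.mem_comap, show QuotientGroup.mk' C c = 1 from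
      (QuotientGroup.eq_one_iff c).2 hc]
    exact one_mem _
  have hRC : ¬ R ≤ C := fun h => hR (by
    rw [← Subgroup.map_comap_eq_self_of_surjective (QuotientGroup.mk'_surjective C) Rq, ← hRdef,
      le_antisymm h hCR, QuotientGroup.map_mk'_self])
  have hidx : C.relIndex R = Nat.card Rq := by
    have h1 := Subgroup.relIndex_mul_relIndex ⊥ C R bot_le hCR
    rw [Subgroup.relIndex_bot_left, Subgroup.relIndex_bot_left, hRdef, card_comap_mk'] at h1
    exact Nat.eq_of_mul_eq_mul_left Nat.card_pos h1
  -- no nontrivial element of `B` centralises a supplement of `C` in `R`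
  have hno : ∀ U : Subgroup G, U ≤ R → ¬ r ∣ U.relIndex R → ∀ y ∈ B, y ≠ 1 →
      ¬ ∀ u ∈ U, u * y = y * u := by
    intro U hUR hU y hy hy1 hcu
    have hsup : C ⊔ U = R := by
      refine le_antisymm (sup_le hCR hUR) (Subgroup.relIndex_eq_one.1 ?_)
      obtain ⟨k, hk⟩ := IsPGroup.iff_card.1 hRr
      refine Nat.eq_one_of_dvd_coprimes ((Nat.Coprime.pow_left k ((hr.coprime_iff_not_dvd).2 hU)))
        (?_ : _ ∣ r ^ k) (Subgroup.relIndex_dvd_of_le_left R le_sup_right)
      rw [← hk, ← hidx]
      exact Subgroup.relIndex_dvd_of_le_left R le_sup_left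
    have hRy : R ≤ Subgroup.centralizer {y} := by
      rw [← hsup]
      refine sup_le (fun c hc => Subgroup.mem_centralizer_singleton_iff.2
        ((Subgroup.mem_centralizer_iff.1 hc) y hy).symm) fun u hu =>
          Subgroup.mem_centralizer_singleton_iff.2 (hcu u hu)
    have hBR : B ⊓ Subgroup.centralizer (R : Set G) = B := by
      refine (hmin _ inferInstance inf_le_left).resolve_left fun hb => hy1 ?_
      have h1 : y ∈ B ⊓ Subgroup.centralizer (R : Set G) := ⟨hy, Subgroup.mem_centralizer_iff.2
        fun z hz => Subgroup.mem_centralizer_singleton_iff.1 (hRy hz)⟩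
      rwa [hb, Subgroup.mem_bot] at h1
    exact hRC fun z hz => Subgroup.mem_centralizer_iff.2 fun b hb =>
      ((Subgroup.mem_centralizer_iff.1 ((hBR.ge hb).2)) z hz).symm
  by_cases hrq : r = q
  · subst hrq
    obtain ⟨S⟩ := (inferInstance : Nonempty (Sylow r R))
    set P : Subgroup G := (S : Subgroup R).map R.subtype
    have hP : IsPGroup r P := S.2.map R.subtype
    have hPR : ¬ r ∣ P.relIndex R := by
      rw [show P.relIndex R = (S : Subgroup R).index by
        rw [Subgroup.relIndex, Subgroup.subgroupOf,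
          Subgroup.comap_map_eq_self_of_injective R.subtype_injective]]
      exact S.not_dvd_index
    haveI := (hP.to_sup_of_normal_right hBq).isNilpotent
    set T := P ⊔ B
    have hBT : B ≤ T := le_sup_right
    have hne : B.subgroupOf T ≠ ⊥ := fun h => hB (by
      rw [← Subgroup.map_subgroupOf_eq_of_le hBT, h, Subgroup.map_bot])
    obtain ⟨⟨y, hyB, hyc⟩, hy1⟩ := Subgroup.ne_bot_iff_exists_ne_one.1 (inf_center_ne_bot hne)
    exact hno P (Subgroup.map_subtype_le _) hPR y (Subgroup.mem_subgroupOf.1 hyB)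
      (fun h => hy1 (Subtype.ext (Subtype.ext h))) fun u hu => congrArg Subtype.val
        (Subgroup.mem_center_iff.1 hyc ⟨u, Subgroup.mem_sup_left hu⟩)
  · refine hno (K Q ⊓ R) inf_le_right ?_ x hxB hx1 fun u hu => hcomm u hu.1
    rw [Subgroup.inf_relIndex_right]
    exact fun hd => hKq.2 r hr (fun he => hrq (Set.mem_singleton_iff.1 he))
      (hd.trans (relIndex_dvd_index_right_normal (K Q) R))

/-- A chief factor is covered if central. -/
theorem le_sup_systemNormalizer_of_central [Group.IsSolvable G] {K : Nat.Primes → Subgroup G}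
    (hK : IsComplementSystem K) {A B : Subgroup G} [A.Normal]
    (h : ⁅B, (⊤ : Subgroup G)⁆ ≤ A) : B ≤ A ⊔ systemNormalizer K := by
  intro b hb
  have h1 : QuotientGroup.mk' A b ∈ (systemNormalizer K).map (QuotientGroup.mk' A) := by
    rw [← systemNormalizer_map hK A]
    refine center_le_systemNormalizer _ (Subgroup.mem_center_iff.2 fun z => ?_)
    obtain ⟨g, rfl⟩ := QuotientGroup.mk'_surjective A z
    have h2 : ⁅QuotientGroup.mk' A b, QuotientGroup.mk' A g⁆ = 1 := by
      rw [← map_commutatorElement]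
      exact (QuotientGroup.eq_one_iff _).2 (h (Subgroup.commutator_mem_commutator hb trivial))
    exact (commutatorElement_eq_one_iff_mul_comm.1 h2).symm
  rw [← Subgroup.mem_comap, Subgroup.comap_map_eq, QuotientGroup.ker_mk', sup_comm] at h1
  exact h1

theorem inf_systemNormalizer_le_of_eccentric [Group.IsSolvable G] {K : Nat.Primes → Subgroup G}
    (hK : IsComplementSystem K) {A B : Subgroup G} [A.Normal] [B.Normal] (hAB : A < B)
    (hchief : ∀ N : Subgroup G, N.Normal → A ≤ N → N ≤ B → N = A ∨ N = B)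
    (h : ¬ ⁅B, (⊤ : Subgroup G)⁆ ≤ A) : B ⊓ systemNormalizer K ≤ A := by
  set f := QuotientGroup.mk' A with hf
  have hfs : Function.Surjective f := QuotientGroup.mk'_surjective A
  haveI : (B.map f).Normal := Subgroup.Normal.map inferInstance f hfs
  have hcB : (B.map f).comap f = B := by
    rw [Subgroup.comap_map_eq, QuotientGroup.ker_mk', sup_eq_left.2 hAB.le]
  have hB : B.map f ≠ ⊥ := fun hb => hAB.ne (le_antisymm hAB.le (by
    rw [← hcB, hb, MonoidHom.comap_bot, QuotientGroup.ker_mk']))
  have hmin : ∀ N : Subgroup (G ⧸ A), N.Normal → N ≤ B.map f → N = ⊥ ∨ N = B.map f := by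
    intro N hN hle
    have h1 : A ≤ N.comap f := by
      intro a ha
      rw [Subgroup.mem_comap, show f a = 1 from (QuotientGroup.eq_one_iff a).2 ha]
      exact one_mem N
    rcases hchief _ (hN.comap f) h1 (hcB ▸ Subgroup.comap_mono hle) with h2 | h2
    · left
      rw [← Subgroup.map_comap_eq_self_of_surjective hfs N, h2, QuotientGroup.map_mk'_self]
    · right
      rw [← Subgroup.map_comap_eq_self_of_surjective hfs N, h2]
  have hnc : ¬ B.map f ≤ Subgroup.center (G ⧸ A) := by
    refine fun hc => h (Subgroup.commutator_le.2 fun b hb g _ => ?_)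
    have h2 := (Subgroup.mem_center_iff.1 (hc (Subgroup.mem_map_of_mem f hb)) (f g)).symm
    rw [← QuotientGroup.eq_one_iff, ← QuotientGroup.mk'_apply, map_commutatorElement]
    exact commutatorElement_eq_one_iff_mul_comm.2 h2
  intro x hx
  have h3 : f x ∈ B.map f ⊓ systemNormalizer (fun p => (K p).map f) := by
    refine ⟨Subgroup.mem_map_of_mem f hx.1, ?_⟩
    rw [hf, systemNormalizer_map hK A]
    exact Subgroup.mem_map_of_mem _ hx.2
  rw [minimal_inf_systemNormalizer (isComplementSystem_map hK A) hB hmin hnc,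
    Subgroup.mem_bot] at h3
  exact (QuotientGroup.eq_one_iff x).1 h3

end Cfsg.Agent.SolvStruct.SystemNormalizer
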