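import Cfsg.Agent.Lib.Hall.Solvable
import Cfsg.Agent.Lib.Hall.Product
import Cfsg.Agent.Lib.Coprime.Basic

/-!
Hall subgroups of factorized solvable groups, and permutability.
-/

set_option autoImplicit false

namespace Cfsg.Agent.SolvStruct.FactorizedHall

open Cfsg Cfsg.Agent.Cores Cfsg.Agent.Coprime
open scoped Pointwise

variable {G : Type*} [Group G]

/-- A Hall subgroup of a factor, read inside the whole group. -/
theorem exists_hall_compatible [Finite G] [Group.IsSolvable G] {H K : Subgroup G}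
    (hHK : ∀ g : G, ∃ h ∈ H, ∃ k ∈ K, g = h * k) (π : Set ℕ) :
    ∃ R : Subgroup G, IsPiHall π R ∧
      (∃ U : Subgroup H, IsPiHall π U ∧ U.map H.subtype ≤ R) ∧
      (∃ V : Subgroup K, IsPiHall π V ∧ V.map K.subtype ≤ R) := by
  obtain ⟨U₀, hU₀⟩ := Hall.exists_hall π H
  obtain ⟨V₀, hV₀⟩ := Hall.exists_hall π K
  obtain ⟨R₀, hR₀, hUR⟩ := Hall.exists_le_hall (hU₀.1 |> fun h => IsPi.map h H.subtype)
  obtain ⟨g, hg⟩ := Hall.exists_conj_le_hall hR₀ (IsPi.map hV₀.1 K.subtype)
  obtain ⟨k, hk, h, hh, rfl⟩ := Hall.factorization_symm hHK g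
  refine ⟨MulAut.conj h • R₀, Hall.isPiHall_conj_smul hR₀ h,
    ⟨MulAut.conj (⟨h, hh⟩ : H) • U₀, Hall.isPiHall_conj_smul hU₀ _, ?_⟩,
    ⟨MulAut.conj (⟨k, hk⟩ : K)⁻¹ • V₀, Hall.isPiHall_conj_smul hV₀ _, ?_⟩⟩
  · rw [map_conj_smul]
    exact Subgroup.pointwise_smul_le_pointwise_smul_iff.2 hUR
  · rw [map_conj_smul]
    rw [conj_smul_mul] at hg
    refine (Subgroup.pointwise_smul_le_pointwise_smul_iff.2 hg).trans (le_of_eq ?_)
    exact conj_inv_smul_smul k _

theorem le_map_hall [Finite G] {π : Set ℕ} {H A : Subgroup G} (hA : A ≤ H)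
    (hAn : (A.subgroupOf H).Normal) (hπ : IsPi π A) {U : Subgroup H} (hU : IsPiHall π U) :
    A ≤ U.map H.subtype := by
  rw [← Subgroup.map_subgroupOf_eq_of_le hA]
  refine Subgroup.map_mono ?_
  haveI := hAn
  rw [Hall.isPiHall_eq_of_le hU (IsPi.sup hU.1 (IsPi.subgroupOf hπ H)) le_sup_left]
  exact le_sup_right

theorem mul_subgroup [Finite G] [Group.IsSolvable G] {H K A B : Subgroup G}
    (hHK : ∀ g : G, ∃ h ∈ H, ∃ k ∈ K, g = h * k) (hA : A ≤ H) (hAn : (A.subgroupOf H).Normal)
    (hB : B ≤ K) (hBn : (B.subgroupOf K).Normal) (hAh : (Nat.card A).Coprime A.index)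
    (hBh : (Nat.card B).Coprime B.index) :
    ∃ S : Subgroup G, (S : Set G) = (A : Set G) * (B : Set G) := by
  let π : Set ℕ := {r | r ∣ Nat.card A ∨ r ∣ Nat.card B}
  obtain ⟨R, hR, ⟨U, hU, hUR⟩, ⟨V, hV, hVR⟩⟩ := exists_hall_compatible hHK π
  have hAR : A ≤ R := (le_map_hall hA hAn (fun r _ hd => Or.inl hd) hU).trans hUR
  have hBR : B ≤ R := (le_map_hall hB hBn (fun r _ hd => Or.inr hd) hV).trans hVR
  have hcard : Nat.card R * Nat.card ↥(A ⊓ B) ≤ Nat.card A * Nat.card B := by
    refine Nat.le_of_dvd (Nat.mul_pos Nat.card_pos Nat.card_pos)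
      ((Nat.dvd_iff_prime_pow_dvd_dvd _ _).2 fun r k hr hd => ?_)
    have hne : ∀ (X : Subgroup G), Nat.card X ≠ 0 := fun X => Nat.card_pos.ne'
    rw [hr.pow_dvd_iff_le_factorization (Nat.mul_ne_zero (hne A) (hne B)),
      Nat.factorization_mul (hne A) (hne B), Finsupp.add_apply]
    refine le_trans ((hr.pow_dvd_iff_le_factorization (Nat.mul_ne_zero (hne R) (hne _))).1 hd) ?_
    rw [Nat.factorization_mul (hne R) (hne _), Finsupp.add_apply]
    have hfull : ∀ {X : Subgroup G}, (Nat.card X).Coprime X.index → r ∣ Nat.card X →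
        (Nat.card G).factorization r = (Nat.card X).factorization r := by
      intro X hX hrd
      rw [← X.card_mul_index, Nat.factorization_mul (hne X) Subgroup.index_ne_zero_of_finite,
        Finsupp.add_apply, Nat.factorization_eq_zero_of_not_dvd fun h =>
          hr.ne_one (Nat.eq_one_of_dvd_coprimes hX hrd h), add_zero]
    have hle : ∀ {X Y : Subgroup G}, X ≤ Y →
        (Nat.card X).factorization r ≤ (Nat.card Y).factorization r := fun {X Y} h =>
      (Nat.factorization_le_iff_dvd (hne X) (hne Y)).2 (Subgroup.card_dvd_of_le h) r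
    have hG : ∀ X : Subgroup G, (Nat.card X).factorization r ≤ (Nat.card G).factorization r :=
      fun X => (Nat.factorization_le_iff_dvd (hne X) Nat.card_pos.ne').2
        X.card_subgroup_dvd_card r
    by_cases hrA : r ∣ Nat.card A
    · by_cases hrB : r ∣ Nat.card B
      · rw [← hfull hAh hrA]
        exact add_le_add (hG R) (hle inf_le_right)
      · have h0 : (Nat.card ↥(A ⊓ B)).factorization r = 0 :=
          Nat.factorization_eq_zero_of_not_dvd fun h =>
            hrB (h.trans (Subgroup.card_dvd_of_le inf_le_right))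
        rw [h0, add_zero, ← hfull hAh hrA]
        exact (hG R).trans (Nat.le_add_right _ _)
    · have h0 : (Nat.card ↥(A ⊓ B)).factorization r = 0 :=
        Nat.factorization_eq_zero_of_not_dvd fun h =>
          hrA (h.trans (Subgroup.card_dvd_of_le inf_le_left))
      rw [h0, add_zero]
      by_cases hrB : r ∣ Nat.card B
      · rw [← hfull hBh hrB]
        exact (hG R).trans (Nat.le_add_left _ _)
      · rw [Nat.factorization_eq_zero_of_not_dvd
          (fun h => (hR.1 r hr h).elim hrA hrB : ¬ r ∣ Nat.card R)]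
        exact Nat.zero_le _
  refine ⟨R, Set.eq_of_subset_of_ncard_le ?_ ?_ (Set.toFinite _) |>.symm⟩
  · rintro _ ⟨a, ha, b, hb, rfl⟩
    exact mul_mem (hAR ha) (hBR hb)
  · rw [← Nat.card_coe_set_eq, ← Nat.card_coe_set_eq]
    exact Nat.le_of_mul_le_mul_right (hcard.trans (Hall.card_mul_inf A B).ge) Nat.card_pos

end Cfsg.Agent.SolvStruct.FactorizedHall
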