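import Cfsg.Agent.S0572
import Cfsg.Agent.Lib.Hall.Supersolvable
import Cfsg.Agent.Lib.Cores.Fitting
import Cfsg.Agent.Lib.Cores.Nilpotent

/-!
Itô: products of two abelian (cyclic) subgroups.
-/

set_option autoImplicit false

namespace Cfsg.Agent.SolvStruct.AbelianProduct

open Cfsg Cfsg.Agent.Cores
open scoped Pointwise

variable {G : Type*} [Group G]

theorem normal_of_le_center {H : Subgroup G} (h : H ≤ Subgroup.center G) : H.Normal :=
  ⟨fun x hx g => by rwa [Subgroup.mem_center_iff.1 (h hx) g, mul_inv_cancel_right]⟩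

theorem factor_center {A B : Subgroup G} [IsMulCommutative A] [IsMulCommutative B]
    (hAB : ∀ g : G, ∃ a ∈ A, ∃ b ∈ B, g = a * b) {a b : G} (ha : a ∈ A) (hb : b ∈ B)
    (h : a * b ∈ Subgroup.center G) : a ∈ Subgroup.center G := by
  rw [Subgroup.mem_center_iff] at h ⊢
  intro g
  obtain ⟨a', ha', b', hb', rfl⟩ := hAB g
  have h1 : Commute a' a := setLike_mul_comm ha' ha
  have h3 : Commute b' (a * b) := h b'
  have h4 : Commute b' b⁻¹ := (Commute.inv_right (setLike_mul_comm hb' hb))
  have h2 : Commute b' a := by simpa using h3.mul_right h4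
  exact (h1.mul_left h2).eq

theorem eq_one_of_centralizes {A B : Subgroup G} [IsMulCommutative A] [IsMulCommutative B]
    (hAB : ∀ g : G, ∃ a ∈ A, ∃ b ∈ B, g = a * b)
    (hA : ∀ N : Subgroup G, N.Normal → N ≤ A → N = ⊥) (hZ : Subgroup.center G = ⊥)
    {c : G} (hc : c ∈ A) (hcD : ∀ x ∈ _root_.commutator G, x * c = c * x) : c = 1 := by
  set X := A ⊔ _root_.commutator G
  haveI : X.Normal := Subgroup.Normal.of_commutator_le G le_sup_right
  have hW : X ⊓ Subgroup.centralizer (X : Set G) ≤ A := by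
    intro w hw
    obtain ⟨a, ha, b, hb, rfl⟩ := hAB w
    have hb' : b ∈ Subgroup.center G := by
      rw [Subgroup.mem_center_iff]
      intro g
      obtain ⟨a', ha', b', hb', rfl⟩ := hAB g
      have h3 : Commute a' (a * b) :=
        (Subgroup.mem_centralizer_iff.1 hw.2) a' (Subgroup.mem_sup_left ha')
      have h4 : Commute a' a⁻¹ := (Commute.inv_right (setLike_mul_comm ha' ha))
      have h2 : Commute a' b := by simpa using h4.mul_right h3
      exact (h2.mul_left (setLike_mul_comm hb' hb)).eq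
    rw [hZ, Subgroup.mem_bot] at hb'
    rwa [hb', mul_one]
  have h1 : c ∈ X ⊓ Subgroup.centralizer (X : Set G) := by
    refine ⟨Subgroup.mem_sup_left hc, ?_⟩
    have hX : X ≤ Subgroup.centralizer {c} := sup_le
      (fun a ha => Subgroup.mem_centralizer_singleton_iff.2 (setLike_mul_comm ha hc))
      (fun x hx => Subgroup.mem_centralizer_singleton_iff.2 (hcD x hx))
    exact Subgroup.mem_centralizer_iff.2 fun z hz =>
      Subgroup.mem_centralizer_singleton_iff.1 (hX hz)
  rwa [hA _ inferInstance hW, Subgroup.mem_bot] at h1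

theorem mul_eq [Finite G] {A B D : Subgroup G} (hA : A ≤ D) (hB : B ≤ D)
    (hd : Disjoint A B) (hc : Nat.card A * Nat.card B = Nat.card D) :
    (A : Set G) * B = D := by
  refine Set.eq_of_subset_of_ncard_le ?_ ?_ (Set.toFinite _)
  · rintro _ ⟨a, ha, b, hb, rfl⟩
    exact mul_mem (hA ha) (hB hb)
  · have h := Hall.card_mul_inf A B
    rw [hd.eq_bot, Subgroup.card_bot, mul_one, hc] at h
    rw [← Nat.card_coe_set_eq, ← Nat.card_coe_set_eq, h]
    rfl

theorem exists_normal_le [Finite G] [Nontrivial G] (A B : Subgroup G) [IsMulCommutative A]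
    [IsMulCommutative B] (hAB : ∀ g : G, ∃ a ∈ A, ∃ b ∈ B, g = a * b) :
    ∃ N : Subgroup G, N.Normal ∧ N ≠ ⊥ ∧ (N ≤ A ∨ N ≤ B) := by
  by_contra hcon
  push Not at hcon
  have hA : ∀ N : Subgroup G, N.Normal → N ≤ A → N = ⊥ := fun N hN hle =>
    by_contra fun hne => (hcon N hN hne).1 hle
  have hB : ∀ N : Subgroup G, N.Normal → N ≤ B → N = ⊥ := fun N hN hle =>
    by_contra fun hne => (hcon N hN hne).2 hle
  have hZ : Subgroup.center G = ⊥ := by
    refine le_bot_iff.1 fun z hz => ?_
    obtain ⟨a, ha, b, hb, rfl⟩ := hAB z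
    have h1 := factor_center hAB ha hb hz
    have h2 : b ∈ Subgroup.center G := by simpa using mul_mem (inv_mem h1) hz
    have h3 : a ∈ A ⊓ Subgroup.center G := ⟨ha, h1⟩
    rw [hA _ (normal_of_le_center inf_le_right) inf_le_left, Subgroup.mem_bot] at h3
    have h4 : b ∈ B ⊓ Subgroup.center G := ⟨hb, h2⟩
    rw [hB _ (normal_of_le_center inf_le_right) inf_le_left, Subgroup.mem_bot] at h4
    rw [h3, h4, mul_one]
    exact one_mem _
  have hd : A ⊓ B = ⊥ := by
    refine le_bot_iff.1 (hZ ▸ fun x hx => Subgroup.mem_center_iff.2 fun g => ?_)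
    obtain ⟨a, ha, b, hb, rfl⟩ := hAB g
    exact (Commute.mul_left (setLike_mul_comm ha hx.1) (setLike_mul_comm hb hx.2) : Commute (a * b) x).eq
  set D := _root_.commutator G
  have hDc : IsMulCommutative D := by
    rw [← Subgroup.commutator_self_eq_bot_iff]
    have h := S0572.result A B hAB
    rwa [derivedSeries_succ, derivedSeries_one] at h
  have hD : D ≠ ⊥ := fun h => bot_ne_top (hZ ▸ (commutator_eq_bot_iff_center_eq_top G).1 h)
  obtain ⟨p, hp, hpd⟩ := Nat.exists_prime_and_dvd
    (fun h => hD (D.card_eq_one.1 h))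
  haveI : Fact p.Prime := ⟨hp⟩
  -- Sylow subgroups of `D` are normal in `G`
  have hSylow : ∀ (q : ℕ), Fact q.Prime → ∀ S : Sylow q D,
      (S : Subgroup D).map D.subtype ≤ pCore q G := by
    intro q hq S
    haveI : (S : Subgroup D).Normal := ⟨fun n hn g => by
      rwa [hDc.is_comm.comm g n, mul_inv_cancel_right]⟩
    exact (Subgroup.map_mono (le_pCore S.2)).trans (map_pCore_subtype_le q D)
  set E := D ⊓ pCore p G
  obtain ⟨x, hx⟩ := exists_prime_orderOf_dvd_card' p hpd
  have hxE : (x : G) ∈ E := by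
    refine ⟨x.2, ?_⟩
    obtain ⟨S, hS⟩ := (IsPGroup.of_card (n := 1)
      (by rw [Nat.card_zpowers, hx, pow_one]) : IsPGroup p (Subgroup.zpowers x)).exists_le_sylow
    exact hSylow p inferInstance S ⟨x, hS (Subgroup.mem_zpowers x), rfl⟩
  have hE : E ≠ ⊥ := fun h => by
    rw [h, Subgroup.mem_bot, OneMemClass.coe_eq_one] at hxE
    rw [hxE, orderOf_one] at hx
    exact hp.ne_one hx.symm
  -- a Sylow subgroup `P = A_p B_p`
  obtain ⟨SA⟩ := (inferInstance : Nonempty (Sylow p A))
  obtain ⟨SB⟩ := (inferInstance : Nonempty (Sylow p B))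
  set Ap := (SA : Subgroup A).map A.subtype
  set Bp := (SB : Subgroup B).map B.subtype
  have hApA : Ap ≤ A := Subgroup.map_subtype_le _
  have hBpB : Bp ≤ B := Subgroup.map_subtype_le _
  obtain ⟨P₀, hP₀⟩ := (SA.2.map A.subtype : IsPGroup p Ap).exists_le_sylow
  obtain ⟨P₁, hP₁⟩ := (SB.2.map B.subtype : IsPGroup p Bp).exists_le_sylow
  obtain ⟨g, rfl⟩ := MulAction.exists_smul_eq G P₀ P₁
  obtain ⟨b', hb', a', ha', rfl⟩ := Hall.factorization_symm hAB g
  set P := a' • P₀
  have hAP : Ap ≤ (P : Subgroup G) := fun y hy => by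
    change y ∈ ((a' • P₀ : Sylow p G) : Subgroup G)
    rw [Sylow.smul_def, Sylow.pointwise_smul_def, Coprime.mem_conj_smul]
    rw [setLike_mul_comm (inv_mem ha') (hApA hy), inv_mul_cancel_right]
    exact hP₀ hy
  have hBP : Bp ≤ (P : Subgroup G) := fun y hy => by
    have h1 := hP₁ hy
    rw [mul_smul, Sylow.smul_def, Sylow.pointwise_smul_def, Coprime.mem_conj_smul,
      setLike_mul_comm (inv_mem hb') (hBpB hy), inv_mul_cancel_right] at h1
    exact h1
  have hPeq : (Ap : Set G) * Bp = ((P : Subgroup G) : Set G) := by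
    refine mul_eq hAP hBP
      (disjoint_iff.2 (le_bot_iff.1 (hd ▸ inf_le_inf hApA hBpB))) ?_
    rw [Subgroup.card_map_of_injective A.subtype_injective,
      Subgroup.card_map_of_injective B.subtype_injective, Sylow.card_eq_multiplicity,
      Sylow.card_eq_multiplicity, Sylow.card_eq_multiplicity, ← pow_add]
    have h1 := Hall.card_factorization hAB
    rw [hd, Subgroup.card_bot, mul_one] at h1
    rw [h1, Nat.factorization_mul Nat.card_pos.ne' Nat.card_pos.ne', Finsupp.add_apply]
  have hEP : E ≤ (P : Subgroup G) := inf_le_right.trans (pCore_le_sylow P)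
  haveI : Group.IsNilpotent (P : Subgroup G) := P.2.isNilpotent
  haveI : (pCore p G).Normal := inferInstance
  have hne : E.subgroupOf (P : Subgroup G) ≠ ⊥ := fun h => hE (by
    rw [← Subgroup.map_subgroupOf_eq_of_le hEP, h, Subgroup.map_bot])
  obtain ⟨⟨z, hzE, hzc⟩, hz1⟩ := Subgroup.ne_bot_iff_exists_ne_one.1 (inf_center_ne_bot hne)
  obtain ⟨a, ha, b, hb, hab⟩ : ((z : G)) ∈ (Ap : Set G) * Bp := by rw [hPeq]; exact z.2
  change a * b = (z : G) at hab
  have hzP : ∀ y ∈ (P : Subgroup G), Commute y (z : G) := fun y hy =>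
    congrArg Subtype.val (Subgroup.mem_center_iff.1 hzc ⟨y, hy⟩)
  have haP : ∀ y ∈ (P : Subgroup G), Commute y a := by
    intro y hy
    rw [← SetLike.mem_coe, ← hPeq] at hy
    obtain ⟨u, hu, v, hv, rfl⟩ := hy
    refine (Commute.mul_left (setLike_mul_comm (hApA hu) (hApA ha)) ?_)
    have h3 := hzP v (hBP hv)
    rw [← hab] at h3
    have h4 : Commute v b⁻¹ := (Commute.inv_right (setLike_mul_comm (hBpB hv) (hBpB hb)))
    simpa using h3.mul_right h4
  set M := E ⊔ Subgroup.zpowers a
  haveI hMn : M.Normal := by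
    refine Subgroup.normalizer_eq_top_iff.1 (top_le_iff.1 fun g _ => ?_)
    have key : ∀ g : G, ∀ m ∈ M, g * m * g⁻¹ ∈ M := by
      intro g
      have h1 : M ≤ M.comap (MulAut.conj g).toMonoidHom := by
        refine sup_le (fun e he => ?_) (Subgroup.zpowers_le.2 ?_)
        · exact Subgroup.mem_sup_left ((inferInstance : E.Normal).conj_mem e he g)
        · rw [Subgroup.mem_comap]
          change g * a * g⁻¹ ∈ M
          obtain ⟨a'', ha'', b'', hb'', rfl⟩ := hAB g
          have hzE' : (z : G) ∈ E := hzE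
          have hcb : b'' * b⁻¹ = b⁻¹ * b'' := setLike_mul_comm hb'' (inv_mem (hBpB hb))
          have h2 : a'' * b'' * a * (a'' * b'')⁻¹ =
              (a'' * ((b'' * (z : G) * b''⁻¹) * (z : G)⁻¹) * a''⁻¹) * (a'' * a * a''⁻¹) := by
            rw [show a = (z : G) * b⁻¹ by rw [← hab, mul_inv_cancel_right]]
            simp only [mul_inv_rev, inv_inv, mul_assoc, inv_mul_cancel_left, mul_inv_cancel_left]
            rw [← mul_assoc b⁻¹ b''⁻¹, show b⁻¹ * b''⁻¹ = b''⁻¹ * b⁻¹ from
              setLike_mul_comm (inv_mem (hBpB hb)) (inv_mem hb'')]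
            simp only [mul_assoc]
          rw [h2, setLike_mul_comm ha'' (hApA ha), mul_inv_cancel_right]
          refine mul_mem (Subgroup.mem_sup_left ((inferInstance : E.Normal).conj_mem _
            (mul_mem ((inferInstance : E.Normal).conj_mem _ hzE' _) (inv_mem hzE')) _))
            (Subgroup.mem_sup_right (Subgroup.mem_zpowers a))
      exact fun m hm => h1 hm
    rw [Subgroup.mem_normalizer_iff]
    exact fun m => ⟨key g m, fun hm => by simpa [mul_assoc] using key g⁻¹ _ hm⟩
  have hMP : M ≤ (P : Subgroup G) := sup_le hEP (Subgroup.zpowers_le.2 (hAP ha))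
  have haO : a ∈ pCore p G :=
    le_pCore (P.2.to_le hMP) (Subgroup.mem_sup_right (Subgroup.mem_zpowers a))
  have haD : ∀ y ∈ D, y * a = a * y := by
    have htop : (Subgroup.centralizer {a}).subgroupOf D = ⊤ := by
      refine eq_top_of_sylow_le fun q hq' _ => ?_
      have hq : Fact q.Prime := ⟨hq'⟩
      obtain ⟨S⟩ := (inferInstance : Nonempty (Sylow q D))
      refine ⟨S, fun y hy => ?_⟩
      rw [Subgroup.mem_subgroupOf, Subgroup.mem_centralizer_singleton_iff]
      have h1 := hSylow q hq S ⟨y, hy, rfl⟩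
      by_cases hqp : q = p
      · subst hqp
        exact (haP _ (hEP ⟨y.2, h1⟩)).eq
      · haveI := hq; exact (pCore_commute hqp h1 haO).eq
    exact fun y hy => Subgroup.mem_centralizer_singleton_iff.1 (Subgroup.subgroupOf_eq_top.1 htop hy)
  have ha1 := eq_one_of_centralizes hAB hA hZ (hApA ha) haD
  rw [ha1, one_mul] at hab
  have hb1 := eq_one_of_centralizes (Hall.factorization_symm hAB) hB hZ (hBpB hb) fun y hy => by
    rw [hab]
    exact congrArg Subtype.val (hDc.is_comm.comm (⟨y, hy⟩ : D) ⟨(z : G), (hzE : (z : G) ∈ E).1⟩)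
  apply hz1
  rw [hb1] at hab
  exact Subtype.ext (Subtype.ext hab.symm)

universe u

theorem isSupersolvable_of_cyclic_factorization : ∀ (n : ℕ) (G : Type u) [Group G] [Finite G]
    (A B : Subgroup G) [IsCyclic A] [IsCyclic B], Nat.card G = n →
    (∀ g : G, ∃ a ∈ A, ∃ b ∈ B, g = a * b) → Cfsg.IsSupersolvable G := by
  intro n
  induction n using Nat.strongRecOn with
  | ind n ih =>
  intro G _ _ A B _ _ hn hAB
  rcases subsingleton_or_nontrivial G with hs | hnt
  · exact Hall.Supersolvable.of_subsingleton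
  haveI : IsMulCommutative A := inferInstance
  haveI : IsMulCommutative B := inferInstance
  obtain ⟨N, hNn, hN, hle⟩ := exists_normal_le A B hAB
  haveI : IsCyclic N := hle.elim (fun h => isCyclic_of_injective (Subgroup.inclusion h)
    (Subgroup.inclusion_injective h)) fun h => isCyclic_of_injective (Subgroup.inclusion h)
    (Subgroup.inclusion_injective h)
  refine Hall.Supersolvable.of_normal_cyclic N ?_
  have hlt : Nat.card (G ⧸ N) < n := hn ▸ Hall.Supersolvable.card_quotient_lt
    (N.one_lt_card_iff_ne_bot.2 hN)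
  set f := QuotientGroup.mk' N
  haveI : IsCyclic (A.map f) := isCyclic_of_surjective (f.subgroupMap A) (f.subgroupMap_surjective A)
  haveI : IsCyclic (B.map f) := isCyclic_of_surjective (f.subgroupMap B) (f.subgroupMap_surjective B)
  refine ih _ hlt (G ⧸ N) (A.map f) (B.map f) rfl fun g => ?_
  obtain ⟨g, rfl⟩ := QuotientGroup.mk'_surjective N g
  obtain ⟨a, ha, b, hb, rfl⟩ := hAB g
  exact ⟨f a, ⟨a, ha, rfl⟩, f b, ⟨b, hb, rfl⟩, map_mul f a b⟩

end Cfsg.Agent.SolvStruct.AbelianProduct
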