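import Cfsg.Agent.S0564
import Cfsg.Agent.S0572

/-!
Products of an abelian subgroup and a subgroup of class at most two.
-/

set_option autoImplicit false

namespace Cfsg.Agent.SolvStruct.ClassTwoProduct

open scoped commutatorElement

universe u

/-- If `G = A⁅B,B⁆^G` and `G` is metabelian, then `B` is abelian. -/
theorem commutator_eq_bot_of_metabelian {G : Type*} [Group G] (A B : Subgroup G) [IsMulCommutative A]
    (hB : ∀ z ∈ ⁅B, B⁆, ∀ b ∈ B, z * b = b * z) (hAB : ∀ g : G, ∃ a ∈ A, ∃ b ∈ B, g = a * b)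
    (hgen : A ⊔ ⁅B, B⁆ = ⊤) (hM : ∀ x ∈ commutator G, ∀ y ∈ commutator G, x * y = y * x) :
    ⁅B, B⁆ = ⊥ := by
  set Y := Subgroup.normalClosure ((⁅B, B⁆ : Subgroup G) : Set G)
  have hZM : ⁅B, B⁆ ≤ commutator G := by
    rw [commutator_def]; exact Subgroup.commutator_mono le_top le_top
  have hYM : Y ≤ commutator G := Subgroup.normalClosure_le_normal hZM
  have hbY : ∀ b ∈ B, Y ≤ Subgroup.centralizer {b} := by
    intro b hb
    refine (Subgroup.closure_le _).2 fun v hv => ?_
    obtain ⟨z, hz, hzv⟩ := Group.mem_conjugatesOfSet_iff.1 hv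
    obtain ⟨g, rfl⟩ := isConj_iff.1 hzv
    obtain ⟨a, ha, b1, hb1, rfl⟩ := hAB g
    rw [SetLike.mem_coe, Subgroup.mem_centralizer_singleton_iff]
    have h1 : a * b1 * z * (a * b1)⁻¹ = a * z * a⁻¹ := by
      rw [mul_inv_rev, mul_assoc a b1 z, ← hB z hz b1 hb1]; simp [mul_assoc]
    have hm : ⁅b⁻¹, a⁻¹⁆ ∈ commutator G := by
      rw [commutator_def]; exact Subgroup.commutator_mem_commutator trivial trivial
    have h2 : z * (a⁻¹ * b * a) = (a⁻¹ * b * a) * z := by
      have h3 : a⁻¹ * b * a = b * ⁅b⁻¹, a⁻¹⁆ := by simp [commutatorElement_def, mul_assoc]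
      rw [h3, ← mul_assoc, hB z hz b hb, mul_assoc, hM z (hZM hz) _ hm, mul_assoc]
    rw [h1]
    calc a * z * a⁻¹ * b = a * (z * (a⁻¹ * b * a)) * a⁻¹ := by simp [mul_assoc]
      _ = b * (a * z * a⁻¹) := by rw [h2]; simp [mul_assoc]
  have hsplit : ∀ g : G, ∃ a ∈ A, ∃ y ∈ Y, a * y = g := fun g =>
    Subgroup.mem_sup_of_normal_right.1
      ((sup_le_sup_left Subgroup.le_normalClosure A : A ⊔ ⁅B, B⁆ ≤ A ⊔ Y) (hgen ▸ trivial))
  refine le_bot_iff.1 (Subgroup.commutator_le.2 fun b1 hb1 b2 hb2 => ?_)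
  rw [Subgroup.mem_bot, commutatorElement_eq_one_iff_mul_comm]
  obtain ⟨a1, ha1, y1, hy1, he1⟩ := hsplit b1
  have h1 : ∀ a ∈ A, a1 * a = a * a1 := fun a ha =>
    congrArg Subtype.val (IsMulCommutative.is_comm.comm (⟨a1, ha1⟩ : A) ⟨a, ha⟩)
  have h2 : ∀ y ∈ Y, a1 * y = y * a1 := by
    intro y hy
    have h3 : y * b1 = b1 * y := Subgroup.mem_centralizer_singleton_iff.1 (hbY b1 hb1 hy)
    rw [← he1, ← mul_assoc, mul_assoc a1 y1 y, hM y1 (hYM hy1) y (hYM hy), ← mul_assoc] at h3
    exact (mul_right_cancel h3).symm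
  have h3 : y1 * b2 = b2 * y1 := Subgroup.mem_centralizer_singleton_iff.1 (hbY b2 hb2 hy1)
  obtain ⟨a2, ha2, y2, hy2, he2⟩ := hsplit b2
  have h4 : a1 * b2 = b2 * a1 := by
    rw [← he2, ← mul_assoc, h1 a2 ha2, mul_assoc, h2 y2 hy2, mul_assoc]
  rw [← he1, mul_assoc, h3, ← mul_assoc, h4, mul_assoc]

theorem quot_props {G : Type*} [Group G] (N : Subgroup G) [N.Normal] {A B : Subgroup G}
    (hAB : ∀ g : G, ∃ a ∈ A, ∃ b ∈ B, g = a * b) (g : G ⧸ N) :
    ∃ a ∈ A.map (QuotientGroup.mk' N), ∃ b ∈ B.map (QuotientGroup.mk' N), g = a * b := by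
  obtain ⟨g, rfl⟩ := QuotientGroup.mk'_surjective N g
  obtain ⟨a, ha, b, hb, rfl⟩ := hAB g
  exact ⟨_, ⟨a, ha, rfl⟩, _, ⟨b, hb, rfl⟩, map_mul _ a b⟩

theorem commutator_eq_bot_of_gen {G : Type*} [Group G] [Group.IsSolvable G] (A B : Subgroup G)
    [IsMulCommutative A] (hB : ∀ z ∈ ⁅B, B⁆, ∀ b ∈ B, z * b = b * z)
    (hAB : ∀ g : G, ∃ a ∈ A, ∃ b ∈ B, g = a * b) (hgen : A ⊔ ⁅B, B⁆ = ⊤) : ⁅B, B⁆ = ⊥ := by
  set D := derivedSeries G 2
  set f := QuotientGroup.mk' D
  have hfs : Function.Surjective f := QuotientGroup.mk'_surjective D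
  have hBD : ⁅B, B⁆ ≤ D := by
    have h := commutator_eq_bot_of_metabelian (A.map f) (B.map f) (fun z hz b hb => by
      rw [← Subgroup.map_commutator] at hz
      obtain ⟨z, hz, rfl⟩ := hz
      obtain ⟨b, hb, rfl⟩ := hb
      rw [← map_mul, ← map_mul, hB z hz b hb]) (quot_props D hAB)
      (by rw [← Subgroup.map_commutator, ← Subgroup.map_sup, hgen,
        Subgroup.map_top_of_surjective _ hfs])
      (fun x hx y hy => by
        rw [← derivedSeries_one, ← map_derivedSeries_eq hfs 1] at hx hy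
        obtain ⟨x, hx, rfl⟩ := hx
        obtain ⟨y, hy, rfl⟩ := hy
        rw [← commutatorElement_eq_one_iff_mul_comm, ← map_commutatorElement]
        exact (QuotientGroup.eq_one_iff _).2 (Subgroup.commutator_mem_commutator hx hy))
    rw [← Subgroup.map_commutator] at h
    intro x hx
    exact (QuotientGroup.eq_one_iff x).1 (Subgroup.mem_bot.1 (h ▸ ⟨x, hx, rfl⟩))
  have hAD : A ⊔ D = ⊤ := top_le_iff.1 (hgen.symm.le.trans (sup_le_sup_left hBD A))
  have hle : derivedSeries G 1 ≤ D := by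
    rw [derivedSeries_one, commutator_def, Subgroup.commutator_le]
    intro x _ y _
    obtain ⟨a, ha, d, hd, rfl⟩ := Subgroup.mem_sup_of_normal_right.1
      (show x ∈ A ⊔ D by rw [hAD]; trivial)
    obtain ⟨a', ha', d', hd', rfl⟩ := Subgroup.mem_sup_of_normal_right.1
      (show y ∈ A ⊔ D by rw [hAD]; trivial)
    refine (QuotientGroup.eq_one_iff _).1 (?_ : f _ = 1)
    rw [map_commutatorElement, map_mul, map_mul, show f d = 1 from (QuotientGroup.eq_one_iff d).2 hd,
      show f d' = 1 from (QuotientGroup.eq_one_iff d').2 hd', mul_one, mul_one,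
      ← map_commutatorElement, show ⁅a, a'⁆ = 1 from commutatorElement_eq_one_iff_mul_comm.2
        (congrArg Subtype.val (IsMulCommutative.is_comm.comm (⟨a, ha⟩ : A) ⟨a', ha'⟩)), map_one]
  obtain ⟨k, hk⟩ := (Group.isSolvable_def G).1 ‹_›
  have hconst : ∀ j, derivedSeries G 1 ≤ derivedSeries G (1 + j) := by
    intro j
    induction j with
    | zero => exact le_rfl
    | succ j ih =>
      refine hle.trans ?_
      show derivedSeries G 2 ≤ derivedSeries G (1 + j + 1)
      rw [derivedSeries_succ G 1, derivedSeries_succ G (1 + j)]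
      exact Subgroup.commutator_mono ih ih
  refine le_bot_iff.1 ?_
  calc ⁅B, B⁆ ≤ D := hBD
    _ ≤ derivedSeries G 1 := derivedSeries_antitone G (by norm_num)
    _ ≤ derivedSeries G (1 + k) := hconst k
    _ ≤ ⊥ := hk ▸ derivedSeries_antitone G (by omega)

theorem primeFactorsList_length_lt {a b : ℕ} (hb : b ≠ 0) (h : a ∣ b) (hne : a ≠ b) :
    a.primeFactorsList.length < b.primeFactorsList.length := by
  obtain ⟨c, rfl⟩ := h
  have hc : 2 ≤ c := by
    rcases c with _ | _ | c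
    · simp at hb
    · simp at hne
    · omega
  rw [(Nat.perm_primeFactorsList_mul (left_ne_zero_of_mul hb) (by omega)).length_eq,
    List.length_append]
  have : 0 < c.primeFactorsList.length := by
    rw [List.length_pos_iff]
    simp [Nat.primeFactorsList_eq_nil]; omega
  omega

theorem derivedSeries_eq_bot_aux : ∀ (n : ℕ) (G : Type u) [Group G] [Finite G] (A B : Subgroup G)
    [IsMulCommutative A], (∀ z ∈ ⁅B, B⁆, ∀ b ∈ B, z * b = b * z) →
    (∀ g : G, ∃ a ∈ A, ∃ b ∈ B, g = a * b) →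
    (Nat.card (⁅B, B⁆ : Subgroup G)).primeFactorsList.length ≤ n →
    derivedSeries G (2 * (1 + n)) = ⊥ := by
  intro n
  induction n using Nat.strongRecOn with
  | ind n ih =>
  intro G _ _ A B _ hB hAB hn
  by_cases h0 : ⁅B, B⁆ = ⊥
  · haveI : IsMulCommutative B := ⟨⟨fun x y => Subtype.ext (by
      have h1 := Subgroup.commutator_mem_commutator x.2 y.2
      rw [h0, Subgroup.mem_bot, commutatorElement_eq_one_iff_mul_comm] at h1
      exact h1)⟩⟩
    exact le_bot_iff.1 ((derivedSeries_antitone G (by omega : 2 ≤ 2 * (1 + n))).trans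
      (le_of_eq (S0572.result A B hAB)))
  set Y := Subgroup.normalClosure ((⁅B, B⁆ : Subgroup G) : Set G)
  set X := A ⊔ ⁅B, B⁆
  have hYX : Y ≤ X := by
    refine (Subgroup.closure_le _).2 fun v hv => ?_
    obtain ⟨z, hz, hzv⟩ := Group.mem_conjugatesOfSet_iff.1 hv
    obtain ⟨g, rfl⟩ := isConj_iff.1 hzv
    obtain ⟨a, ha, b1, hb1, rfl⟩ := hAB g
    have ha' : a ∈ X := Subgroup.mem_sup_left ha
    have h1 : a * b1 * z * (a * b1)⁻¹ = a * z * a⁻¹ := by
      rw [mul_inv_rev, mul_assoc a b1 z, ← hB z hz b1 hb1]; simp [mul_assoc]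
    rw [h1]
    exact mul_mem (mul_mem ha' (Subgroup.mem_sup_right hz)) (inv_mem ha')
  have hG2 : derivedSeries G 2 ≤ X := by
    refine le_trans ?_ hYX
    set f := QuotientGroup.mk' Y
    haveI : IsMulCommutative (A.map f) := Subgroup.map_isMulCommutative A f
    haveI : IsMulCommutative (B.map f) := ⟨⟨by
      rintro ⟨_, x, hx, rfl⟩ ⟨_, y, hy, rfl⟩
      refine Subtype.ext ?_
      show f x * f y = f y * f x
      rw [← commutatorElement_eq_one_iff_mul_comm, ← map_commutatorElement]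
      exact (QuotientGroup.eq_one_iff _).2
        (Subgroup.le_normalClosure (Subgroup.commutator_mem_commutator hx hy))⟩⟩
    have h1 : derivedSeries (G ⧸ Y) 2 = ⊥ := S0572.result (A.map f) (B.map f) (quot_props Y hAB)
    intro x hx
    exact (QuotientGroup.eq_one_iff x).1 (Subgroup.mem_bot.1
      (h1 ▸ map_derivedSeries_le_derivedSeries f 2 ⟨x, hx, rfl⟩))
  -- the factorization of `X`
  have hAX : ∀ g : X, ∃ a ∈ A.subgroupOf X, ∃ b ∈ B.subgroupOf X, g = a * b := by
    intro g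
    obtain ⟨a, ha, b, hb, he⟩ := hAB g
    have ha' : a ∈ X := Subgroup.mem_sup_left ha
    have hb' : b ∈ X := by
      have : b = a⁻¹ * g := by rw [he]; simp
      rw [this]; exact mul_mem (inv_mem ha') g.2
    exact ⟨⟨a, ha'⟩, ha, ⟨b, hb'⟩, hb, Subtype.ext he⟩
  haveI : IsMulCommutative (A.subgroupOf X) := ⟨⟨fun x y => Subtype.ext (Subtype.ext
    (show ((x : X) : G) * ((y : X) : G) = ((y : X) : G) * ((x : X) : G) from
      congrArg Subtype.val (IsMulCommutative.is_comm.comm (⟨_, x.2⟩ : A) ⟨_, y.2⟩)))⟩⟩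
  have hle : (⁅B.subgroupOf X, B.subgroupOf X⁆ : Subgroup X).map X.subtype ≤ ⁅B, B⁆ := by
    rw [Subgroup.map_commutator]
    exact Subgroup.commutator_mono (Subgroup.map_comap_le _ _) (Subgroup.map_comap_le _ _)
  have hBX : ∀ z ∈ (⁅B.subgroupOf X, B.subgroupOf X⁆ : Subgroup X), ∀ b ∈ B.subgroupOf X,
      z * b = b * z := fun z hz b hb => Subtype.ext (hB z (hle ⟨z, hz, rfl⟩) b hb)
  have hne : Nat.card (⁅B.subgroupOf X, B.subgroupOf X⁆ : Subgroup X) ≠
      Nat.card (⁅B, B⁆ : Subgroup G) := by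
    intro he
    rw [← Subgroup.card_map_of_injective X.subtype_injective] at he
    have heq := Subgroup.eq_of_le_of_card_ge hle he.ge
    haveI : Group.IsSolvable X := S0564.result (A.subgroupOf X) (B.subgroupOf X)
      (by letI : CommGroup (A.subgroupOf X) := { mul_comm := IsMulCommutative.is_comm.comm }
          infer_instance)
      (Subgroup.isNilpotent_of_ker_le_center (Abelianization.of : B.subgroupOf X →* _) (by
        rw [Abelianization.ker_of]
        intro z hz
        rw [Subgroup.mem_center_iff]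
        intro b
        refine Subtype.ext (hBX z ?_ b b.2).symm
        rw [← Subgroup.map_subtype_commutator]
        exact ⟨z, hz, rfl⟩)) hAX
    have hgen : A.subgroupOf X ⊔ ⁅B.subgroupOf X, B.subgroupOf X⁆ = ⊤ := by
      refine Subgroup.map_injective X.subtype_injective ?_
      rw [Subgroup.map_sup, heq, Subgroup.map_subgroupOf_eq_of_le le_sup_left,
        ← MonoidHom.range_eq_map, Subgroup.range_subtype]
    rw [commutator_eq_bot_of_gen _ _ hBX hAX hgen, Subgroup.map_bot] at heq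
    exact h0 heq.symm
  have hdvd : Nat.card (⁅B.subgroupOf X, B.subgroupOf X⁆ : Subgroup X) ∣
      Nat.card (⁅B, B⁆ : Subgroup G) := by
    rw [← Subgroup.card_map_of_injective X.subtype_injective]
    exact Subgroup.card_dvd_of_le hle
  have hlt := primeFactorsList_length_lt Nat.card_pos.ne' hdvd hne
  obtain ⟨m, rfl⟩ : ∃ m, n = m + 1 := ⟨n - 1, by omega⟩
  have hX : derivedSeries X (2 * (1 + m)) = ⊥ :=
    ih m (by omega) X (A.subgroupOf X) (B.subgroupOf X) hBX hAX (by omega)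
  have key : ∀ j, derivedSeries G (2 + j) ≤ (derivedSeries X j).map X.subtype := by
    intro j
    induction j with
    | zero =>
      rw [derivedSeries_zero, ← MonoidHom.range_eq_map, Subgroup.range_subtype]
      exact hG2
    | succ j ihj =>
      rw [← add_assoc, derivedSeries_succ, derivedSeries_succ, Subgroup.map_commutator]
      exact Subgroup.commutator_mono ihj ihj
  refine le_bot_iff.1 ?_
  rw [show 2 * (1 + (m + 1)) = 2 + 2 * (1 + m) by omega]
  exact (key _).trans (by rw [hX, Subgroup.map_bot])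

end Cfsg.Agent.SolvStruct.ClassTwoProduct
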