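import Cfsg.Agent.Lib.Transfer.NilpotentHall
import Cfsg.Agent.Lib.Hall.Supersolvable
import Cfsg.Agent.S0524
import Cfsg.Agent.S0531
import Cfsg.Agent.S0532

/-!
Conjugacy of supersolvable Hall subgroups of equal order.
-/

set_option autoImplicit false
set_option linter.unusedSectionVars false

namespace Cfsg.Agent.SolvStruct.SupersolvableHall

open Cfsg Subgroup Cfsg.Agent.PLocal.Cores Cfsg.Agent.Transfer.NormalPComplement
  Cfsg.Agent.Transfer.Fusion Cfsg.Agent.Transfer.Frobenius Cfsg.Agent.Transfer.NilpotentHall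

universe u

theorem exists_max_prime {n : ℕ} (hn : 0 < n) (h1 : n ≠ 1) :
    ∃ p : ℕ, p.Prime ∧ p ∣ n ∧ ∀ q : ℕ, q.Prime → q ∣ n → q ≤ p := by
  have hne : n.primeFactors.Nonempty := Nat.nonempty_primeFactors.2 (by omega)
  have hmem := Nat.mem_primeFactors.1 (n.primeFactors.max'_mem hne)
  exact ⟨_, hmem.1, hmem.2.1, fun q hq hd =>
    n.primeFactors.le_max' q (Nat.mem_primeFactors.2 ⟨hq, hd, hn.ne'⟩)⟩

theorem sylow_normal {G : Type*} [Group G] [Finite G] (hG : Cfsg.IsSupersolvable G) {p : ℕ}
    [Fact p.Prime] (hd : p ∣ Nat.card G) (hmax : ∀ q : ℕ, q.Prime → q ∣ Nat.card G → q ≤ p)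
    (P : Sylow p G) : (P : Subgroup G).Normal :=
  S0532.result (fun H => S0531.result (S0524.result hG H ⊥).1) p hd hmax P

/-- P. Hall: supersolvable Hall subgroups of the same order are conjugate. -/
theorem exists_conj_of_supersolvable_hall : ∀ {G : Type u} [Group G] [Finite G] {H K : Subgroup G},
    Cfsg.IsSupersolvable H → Cfsg.IsSupersolvable K → Nat.card H = Nat.card K →
      Nat.Coprime (Nat.card H) H.index →
      ∃ g : G, H.map (MulAut.conj g).toMonoidHom = K := by
  suffices ∀ n : ℕ, ∀ (G : Type u) [Group G] [Finite G] (H K : Subgroup G), Nat.card H = n →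
      Cfsg.IsSupersolvable H → Cfsg.IsSupersolvable K → Nat.card H = Nat.card K →
      Nat.Coprime (Nat.card H) H.index →
      ∃ g : G, H.map (MulAut.conj g).toMonoidHom = K from
    fun {G} _ _ H K => this _ G H K rfl
  intro n
  induction n using Nat.strong_induction_on with
  | _ n ih =>
    intro G _ _ H K hn hH hK hcard hHall
    by_cases h1 : Nat.card H = 1
    · refine ⟨1, ?_⟩
      rw [map_conj_one, eq_bot_of_card_eq H h1, eq_bot_of_card_eq K (hcard ▸ h1)]
    obtain ⟨p, hp, hpd, hmax⟩ := exists_max_prime (Nat.card_pos (α := H)) h1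
    have := Fact.mk hp
    have hKHall : Nat.Coprime (Nat.card K) K.index := by
      have hidx : H.index = K.index := by
        have e1 := H.card_mul_index
        rw [← K.card_mul_index, hcard] at e1
        exact Nat.eq_of_mul_eq_mul_left Nat.card_pos e1
      rw [← hcard, ← hidx]
      exact hHall
    obtain ⟨S⟩ := (inferInstance : Nonempty (Sylow p H))
    obtain ⟨T⟩ := (inferInstance : Nonempty (Sylow p K))
    haveI hSn : (S : Subgroup H).Normal := sylow_normal hH hpd hmax S
    haveI hTn : (T : Subgroup K).Normal :=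
      sylow_normal hK (hcard ▸ hpd) (hcard ▸ hmax) T
    obtain ⟨P, hP⟩ := exists_sylow_map_eq hHall hpd S
    obtain ⟨Q, hQ⟩ := exists_sylow_map_eq hKHall (hcard ▸ hpd) T
    have hPH : (P : Subgroup G) ≤ H := hP ▸ map_subtype_le _
    have hQK : (Q : Subgroup G) ≤ K := hQ ▸ map_subtype_le _
    have hHN : H ≤ normalizer (P : Set G) := by
      change H ≤ normalizer ((P : Subgroup G) : Set G)
      rw [hP]
      intro x hx
      exact le_normalizer_map H.subtype ⟨⟨x, hx⟩, by rw [normalizer_eq_top]; trivial, rfl⟩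
    have hKN : K ≤ normalizer (Q : Set G) := by
      change K ≤ normalizer ((Q : Subgroup G) : Set G)
      rw [hQ]
      intro x hx
      exact le_normalizer_map K.subtype ⟨⟨x, hx⟩, by rw [normalizer_eq_top]; trivial, rfl⟩
    obtain ⟨g, hg⟩ := MulAction.exists_smul_eq G Q P
    set K' := K.map (MulAut.conj g).toMonoidHom with hK'
    have hPK' : (P : Subgroup G) ≤ K' := by
      rw [← hg, coe_smul_eq_map]
      exact map_mono hQK
    have hK'N : K' ≤ normalizer (P : Set G) := by
      change K' ≤ normalizer ((P : Subgroup G) : Set G)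
      rw [← hg, coe_smul_eq_map]
      exact le_trans (map_mono hKN) (le_normalizer_map _)
    set N := normalizer (P : Set G) with hNdef
    set P₀ : Subgroup N := (P : Subgroup G).subgroupOf N
    have : P₀.Normal := normal_in_normalizer
    set π := QuotientGroup.mk' P₀
    have hker : π.ker = P₀ := QuotientGroup.ker_mk' _
    have hcP : Nat.card P₀ = Nat.card (P : Subgroup G) :=
      Nat.card_congr (subgroupOfEquivOfLe le_normalizer).toEquiv
    have hquot : ∀ {L : Subgroup G}, (P : Subgroup G) ≤ L → L ≤ N → Cfsg.IsSupersolvable L →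
        Nat.card ↥((L.subgroupOf N).map π) * Nat.card (P : Subgroup G) = Nat.card L ∧
          Cfsg.IsSupersolvable ↥((L.subgroupOf N).map π) ∧
          ((L.subgroupOf N).map π).comap π = L.subgroupOf N := by
      intro L hL1 hL2 hL3
      have hle : π.ker ≤ L.subgroupOf N := by rw [hker]; exact fun x hx => hL1 hx
      refine ⟨?_, ?_, comap_map_eq_self hle⟩
      · rw [← Nat.card_congr (subgroupOfEquivOfLe hL2).toEquiv,
          card_eq_card_inf_ker_mul_card_map (L.subgroupOf N) π, inf_eq_right.mpr hle, hker, hcP,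
          mul_comm]
      · exact Hall.Supersolvable.of_surjective
          (Hall.Supersolvable.of_mulEquiv hL3 (subgroupOfEquivOfLe hL2).symm)
          (π.subgroupMap_surjective _)
    have hK'nil : Cfsg.IsSupersolvable K' :=
      Hall.Supersolvable.of_surjective hK (f := (MulAut.conj g).toMonoidHom.subgroupMap K)
        (MonoidHom.subgroupMap_surjective _ _)
    obtain ⟨c1, n1, e1⟩ := hquot hPH hHN hH
    obtain ⟨c2, n2, e2⟩ := hquot hPK' hK'N hK'nil
    have hc2 : Nat.card K' = Nat.card H := (card_map_conj K g).trans hcard.symm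
    have hP1 : 1 < Nat.card (P : Subgroup G) := by
      refine (one_lt_card_iff_ne_bot _).mpr (P.ne_bot_of_dvd_card ?_)
      exact hpd.trans (card_subgroup_dvd_card H)
    have hlt : Nat.card ↥((H.subgroupOf N).map π) < n := by
      rw [← hn, ← c1]
      exact lt_mul_right Nat.card_pos hP1
    have hce : Nat.card ↥((H.subgroupOf N).map π) = Nat.card ↥((K'.subgroupOf N).map π) := by
      refine Nat.eq_of_mul_eq_mul_right (Nat.zero_lt_of_lt hP1) ?_
      rw [c1, c2, hc2]
    have hco : Nat.Coprime (Nat.card ↥((H.subgroupOf N).map π))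
        ((H.subgroupOf N).map π).index := by
      refine (Nat.Coprime.coprime_dvd_left (Dvd.intro _ c1) ?_)
      refine hHall.coprime_dvd_right ?_
      refine dvd_trans (index_map_dvd _ (QuotientGroup.mk'_surjective _)) ?_
      exact relIndex_dvd_index_of_le hHN
    obtain ⟨q, hq⟩ := ih _ hlt (N ⧸ P₀) _ _ rfl n1 n2 hce hco
    obtain ⟨m, rfl⟩ := QuotientGroup.mk'_surjective P₀ q
    refine ⟨g⁻¹ * m, ?_⟩
    have hmain : (H.subgroupOf N).map (MulAut.conj m).toMonoidHom = K'.subgroupOf N := by
      have hcomp : ((H.subgroupOf N).map (MulAut.conj m).toMonoidHom).map π =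
          ((H.subgroupOf N).map π).map (MulAut.conj (π m)).toMonoidHom := by
        rw [map_map, map_map]
        congr 1
      rw [← e2, ← hq, ← hcomp, comap_map_eq_self]
      rw [hker]
      intro x hx
      refine mem_map_conj.mpr (hPH ?_)
      have hmn : ((m⁻¹ : N) : G) ∈ normalizer (P : Set G) := (m⁻¹).2
      have hx' := (hmn (x : G)).mp hx
      simp only [coe_inv, inv_inv] at hx' ⊢
      exact hx'
    have hmainG : H.map (MulAut.conj (m : G)).toMonoidHom = K' := by
      rw [← map_subgroupOf_eq_of_le hK'N, ← hmain, map_map]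
      conv_lhs => rw [← map_subgroupOf_eq_of_le hHN, map_map]
      rfl
    rw [map_conj_mul, hmainG, hK', map_conj_inv_cancel]

end Cfsg.Agent.SolvStruct.SupersolvableHall
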