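import Cfsg.Agent.Lib.PGroups.Basic
import Cfsg.Agent.Lib.PGroups.UniqueSubgroup
import Cfsg.Agent.Lib.Coprime.PGroup

/-!
A non-abelian `2`-group with commutator quotient of order `4` and an automorphism of odd order
is the quaternion group of order `8`.
-/

set_option autoImplicit false

namespace Cfsg.Agent.SolvStruct.TausskyOdd

open scoped commutatorElement

variable {G : Type*} [Group G]

/-- The third term of the lower central series, as an iterated commutator. -/
abbrev gamma3 (G : Type*) [Group G] : Subgroup G := ⁅commutator G, (⊤ : Subgroup G)⁆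

theorem comm_mul_left (x y c : G) : ⁅x * y, c⁆ = x * ⁅y, c⁆ * x⁻¹ * ⁅x, c⁆ := by
  simp [commutatorElement_def, mul_assoc]

theorem comm_mul_right (x y c : G) : ⁅x, y * c⁆ = ⁅x, y⁆ * (y * ⁅x, c⁆ * y⁻¹) := by
  simp [commutatorElement_def, mul_assoc]

theorem mem_commutator (x y : G) : ⁅x, y⁆ ∈ commutator G := by
  rw [commutator_def]; exact Subgroup.commutator_mem_commutator trivial trivial

/-- Inside a group with central `gamma3`: the commutator of two elements generates `G'` modulo
`gamma3`. -/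
theorem commutator_le_of_gen (a b : G) (hgen : Subgroup.closure {a, b} = ⊤) :
    commutator G ≤ Subgroup.zpowers ⁅a, b⁆ ⊔ gamma3 G := by
  set N := Subgroup.zpowers ⁅a, b⁆ ⊔ gamma3 G
  have hNC : N ≤ commutator G :=
    sup_le ((Subgroup.zpowers_le).2 (mem_commutator a b)) (Subgroup.commutator_le_left _ _)
  haveI hN : N.Normal := by
    refine ⟨fun n hn g => ?_⟩
    have h : g * n * g⁻¹ = ⁅n, g⁆⁻¹ * n := by simp [commutatorElement_def, mul_assoc]
    rw [h]
    exact mul_mem (inv_mem (Subgroup.mem_sup_right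
      (Subgroup.commutator_mem_commutator (hNC hn) trivial))) hn
  set f := QuotientGroup.mk' N
  have hc : f a * f b = f b * f a := by
    rw [← commutatorElement_eq_one_iff_mul_comm, ← map_commutatorElement]
    exact (QuotientGroup.eq_one_iff _).2 (Subgroup.mem_sup_left (Subgroup.mem_zpowers _))
  have key : ∀ z w : G, Commute (f z) (f w) := by
    have h1 : ∀ w : G, (f a * f w = f w * f a) ∧ (f b * f w = f w * f b) := by
      intro w
      have hw : w ∈ Subgroup.closure {a, b} := hgen ▸ Subgroup.mem_top w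
      induction hw using Subgroup.closure_induction with
      | mem x hx =>
        rcases hx with rfl | hx
        · exact ⟨rfl, hc.symm⟩
        · rw [Set.mem_singleton_iff.1 hx]; exact ⟨hc, rfl⟩
      | one => simp
      | mul x y _ _ hx hy =>
        exact ⟨by rw [map_mul]; exact (Commute.mul_right hx.1 hy.1).eq,
          by rw [map_mul]; exact (Commute.mul_right hx.2 hy.2).eq⟩
      | inv x _ hx =>
        exact ⟨by rw [map_inv]; exact (Commute.inv_right (show Commute _ _ from hx.1)).eq,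
          by rw [map_inv]; exact (Commute.inv_right (show Commute _ _ from hx.2)).eq⟩
    intro z w
    have hz : z ∈ Subgroup.closure {a, b} := hgen ▸ Subgroup.mem_top z
    induction hz using Subgroup.closure_induction with
    | mem x hx =>
      rcases hx with rfl | hx
      · exact (h1 w).1
      · rw [Set.mem_singleton_iff.1 hx]; exact (h1 w).2
    | one => simp
    | mul x y _ _ hx hy => rw [map_mul]; exact hx.mul_left hy
    | inv x _ hx => rw [map_inv]; exact hx.inv_left
  rw [commutator_def, Subgroup.commutator_le]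
  intro z _ w _
  refine (QuotientGroup.eq_one_iff _).1 (?_ : f _ = 1)
  rw [map_commutatorElement, commutatorElement_eq_one_iff_mul_comm]
  exact key z w

/-- The key relation: if the squares of `x, y, xy` are of the same class then `⁅x,y⁆` commutes
with `x`. -/
theorem comm_eq_one {Z : Subgroup G} (hZ : ∀ z ∈ Z, ∀ g : G, z * g = g * z) (x y : G)
    (hx : ⁅x, ⁅x, y⁆⁆ ∈ Z) (hy : ⁅y, ⁅x, y⁆⁆ ∈ Z) (hw : ⁅x, y⁆ * ⁅x, y⁆ ∈ Z)
    (h : (x * x ∈ Z ∧ y * y ∈ Z ∧ (x * y) * (x * y) ∈ Z) ∨
      (⁅x, y⁆⁻¹ * (x * x) ∈ Z ∧ ⁅x, y⁆⁻¹ * (y * y) ∈ Z ∧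
        ⁅x, y⁆⁻¹ * ((x * y) * (x * y)) ∈ Z)) :
    ⁅x, ⁅x, y⁆⁆ = 1 := by
  set c := ⁅x, y⁆ with hc
  set U := ⁅x, c⁆ with hU
  set V := ⁅y, c⁆ with hV
  have hZ1 : ∀ z ∈ Z, ∀ g : G, g * z * g⁻¹ = z := fun z hz g => by
    rw [← hZ z hz g, mul_inv_cancel_right]
  have hZ2 : ∀ z ∈ Z, ∀ g : G, ⁅g, z⁆ = 1 := fun z hz g =>
    commutatorElement_eq_one_iff_mul_comm.2 (hZ z hz g).symm
  have hZ3 : ∀ z ∈ Z, ∀ g : G, ⁅z, g⁆ = 1 := fun z hz g =>
    commutatorElement_eq_one_iff_mul_comm.2 (hZ z hz g)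
  have hU2 : U * U = 1 := by
    have h1 := comm_mul_right x c c
    rw [hZ2 _ hw x, ← hU, hZ1 U hx] at h1
    exact h1.symm
  have hsq : ∀ u v : G, ⁅u * u, v⁆ = u * ⁅u, v⁆ * u⁻¹ * ⁅u, v⁆ := fun u v => comm_mul_left u u v
  have hxc : x * c * x⁻¹ = U * c := by rw [hU]; simp [commutatorElement_def, mul_assoc]
  have hyc : y * c * y⁻¹ = V * c := by rw [hV]; simp [commutatorElement_def, mul_assoc]
  have hA : ⁅x * x, y⁆ = U * (c * c) := by rw [hsq, ← hc, hxc, mul_assoc]
  have hB : ⁅x, y * y⁆ = V * (c * c) := by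
    rw [comm_mul_right, ← hc, hyc, ← mul_assoc c V c, ← hZ V hy c, mul_assoc]
  -- the pair `(x, x * y)`
  have hc' : ⁅x, x * y⁆ = U * c := by
    rw [comm_mul_right, commutatorElement_self, one_mul, ← hc, hxc]
  have hV' : ⁅x * y, U * c⁆ = V * U := by
    rw [comm_mul_right, hZ2 U hx, one_mul, comm_mul_left, ← hV, ← hU, hZ1 V hy,
      hZ1 (V * U) (mul_mem hy hx) U]
  have hB' : ⁅x, (x * y) * (x * y)⁆ = V * U * (c * c) := by
    rw [comm_mul_right, hc']
    have h1 : x * y * (U * c) * (x * y)⁻¹ = ⁅x * y, U * c⁆ * (U * c) := by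
      simp [commutatorElement_def, mul_assoc]
    have h2 : U * c * (V * U * (U * c)) = V * U * (c * c) := by
      rw [mul_assoc V U (U * c), ← mul_assoc U U c, hU2, one_mul, mul_assoc U c,
        ← mul_assoc c V c, ← hZ V hy c, mul_assoc V c c, ← mul_assoc U V,
        hZ U hx V]
    rw [h1, hV', h2]
  have hcancel : ∀ {u v : G}, c⁻¹ * u = v → u = c * v := fun h => by rw [← h, mul_inv_cancel_left]
  rcases h with ⟨h1, h2, h3⟩ | ⟨h1, h2, h3⟩
  · rw [hZ3 _ h1] at hA
    rw [hZ2 _ h2] at hB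
    rw [hZ2 _ h3] at hB'
    have hUV : U = V := mul_right_cancel (hA.symm.trans hB)
    rw [← hUV, hU2, one_mul] at hB'
    rw [← hB', mul_one] at hA
    exact hA.symm
  · have e2 : ⁅x, y * y⁆ = U := by
      rw [hcancel (rfl : c⁻¹ * (y * y) = _), comm_mul_right, hZ2 _ h2, ← hU]; simp
    have e3 : ⁅x, (x * y) * (x * y)⁆ = U := by
      rw [hcancel (rfl : c⁻¹ * ((x * y) * (x * y)) = _), comm_mul_right, hZ2 _ h3, ← hU]; simp
    rw [e3] at hB'
    rw [e2] at hB
    -- `U = V W` and `U = V U W`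
    have h4 : V * (c * c) = V * U * (c * c) := hB.symm.trans hB'
    have h5 : V * 1 = V * U := by rw [mul_one]; exact mul_right_cancel h4
    exact (mul_left_cancel h5).symm

/-- In a group with central `gamma3`, the conditions force `gamma3 = ⊥`. -/
theorem gamma3_eq_bot (hZ : ∀ z ∈ gamma3 G, ∀ g : G, z * g = g * z) (a b : G)
    (hgen : Subgroup.closure {a, b} = ⊤)
    (ha : a ∉ commutator G) (hb : b ∉ commutator G) (hab : a * b ∉ commutator G)
    (hsq : ∀ x : G, x * x ∈ commutator G)
    (hclass : ∀ x y : G, x ∉ commutator G → y ∉ commutator G → x * x ∈ gamma3 G → y * y ∈ gamma3 G) :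
    gamma3 G = ⊥ := by
  set c := ⁅a, b⁆ with hc
  have hU : ∀ g : G, ⁅g, c⁆ ∈ gamma3 G := fun g => by
    rw [← commutatorElement_inv]
    exact inv_mem (Subgroup.commutator_mem_commutator (mem_commutator a b) trivial)
  have hconj : ∀ z ∈ gamma3 G, ∀ g : G, g * z * g⁻¹ = z := fun z hz g => by
    rw [← hZ z hz g, mul_inv_cancel_right]
  have hW : c * c ∈ gamma3 G := by
    have h1 : ⁅a * a, b⁆ = ⁅a, c⁆ * (c * c) := by
      rw [comm_mul_left, ← hc]; simp [commutatorElement_def, mul_assoc]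
    have h2 := mul_mem (inv_mem (hU a))
      (Subgroup.commutator_mem_commutator (hsq a) (Subgroup.mem_top b) : ⁅a * a, b⁆ ∈ gamma3 G)
    rwa [h1, inv_mul_cancel_left] at h2
  have hC := commutator_le_of_gen a b hgen
  have hcz : ∀ z ∈ commutator G, z ∈ gamma3 G ∨ c⁻¹ * z ∈ gamma3 G := by
    intro z hz
    obtain ⟨u, hu, v, hv, rfl⟩ := Subgroup.mem_sup_of_normal_right.1 (hC hz)
    obtain ⟨i, rfl⟩ := Subgroup.mem_zpowers_iff.1 hu
    rcases Int.even_or_odd i with ⟨j, rfl⟩ | ⟨j, rfl⟩
    · refine Or.inl (mul_mem ?_ hv)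
      rw [← two_mul, zpow_mul, zpow_ofNat, pow_two]
      exact zpow_mem hW j
    · refine Or.inr ?_
      rw [← mul_assoc, add_comm (2 * j) 1, zpow_add, zpow_one, inv_mul_cancel_left]
      refine mul_mem ?_ hv
      rw [zpow_mul, zpow_ofNat, pow_two]
      exact zpow_mem hW j
  have hsame : (a * a ∈ gamma3 G ∧ b * b ∈ gamma3 G ∧ (a * b) * (a * b) ∈ gamma3 G) ∨
      (c⁻¹ * (a * a) ∈ gamma3 G ∧ c⁻¹ * (b * b) ∈ gamma3 G ∧
        c⁻¹ * ((a * b) * (a * b)) ∈ gamma3 G) := by
    by_cases h : a * a ∈ gamma3 G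
    · exact Or.inl ⟨h, hclass a b ha hb h, hclass a _ ha hab h⟩
    · exact Or.inr ⟨(hcz _ (hsq a)).resolve_left h,
        (hcz _ (hsq b)).resolve_left fun h' => h (hclass b a hb ha h'),
        (hcz _ (hsq _)).resolve_left fun h' => h (hclass _ a hab ha h')⟩
  have hA : ⁅a, c⁆ = 1 := comm_eq_one hZ a b (hU a) (hU b) hW hsame
  -- the same for the pair `(b, a)`
  have hba : ⁅b, a⁆ = c⁻¹ := by rw [hc, commutatorElement_inv]
  have hUi : ∀ g : G, ⁅g, c⁻¹⁆ ∈ gamma3 G := fun g => by
    rw [← commutatorElement_inv]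
    exact inv_mem (Subgroup.commutator_mem_commutator (inv_mem (mem_commutator a b)) trivial)
  have habba : (b * a) * (b * a) = a⁻¹ * ((a * b) * (a * b)) * a := by simp [mul_assoc]
  have hB0 : ⁅b, ⁅b, a⁆⁆ = 1 := by
    refine comm_eq_one hZ b a (by rw [hba]; exact hUi b) (by rw [hba]; exact hUi a)
      (by rw [hba, ← mul_inv_rev]; exact inv_mem hW) ?_
    rcases hsame with ⟨h1, h2, h3⟩ | ⟨h1, h2, h3⟩
    · refine Or.inl ⟨h2, h1, ?_⟩
      rw [habba]
      simpa using (Subgroup.Normal.conj_mem inferInstance _ h3 a⁻¹)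
    · have key : ∀ u, c⁻¹ * u ∈ gamma3 G → ⁅b, a⁆⁻¹ * u ∈ gamma3 G := fun u hu => by
        rw [hba, inv_inv]; simpa [mul_assoc] using mul_mem hW hu
      refine Or.inr ⟨key _ h2, key _ h1, key _ ?_⟩
      rw [habba]
      have h4 : a⁻¹ * (c⁻¹ * ((a * b) * (a * b))) * a ∈ gamma3 G := by
        simpa using (Subgroup.Normal.conj_mem inferInstance _ h3 a⁻¹)
      have h8 : a⁻¹ * (c⁻¹ * ((a * b) * (a * b))) * a = c⁻¹ * (a⁻¹ * ((a * b) * (a * b)) * a) := by
        rw [← mul_assoc a⁻¹ c⁻¹, ((Commute.inv_left (show Commute a c from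
          commutatorElement_eq_one_iff_mul_comm.1 hA)).inv_right).eq]
        simp [mul_assoc]
      rwa [h8] at h4
  have hB : ⁅b, c⁆ = 1 := by
    rw [hba, commutatorElement_eq_one_iff_mul_comm] at hB0
    rw [commutatorElement_eq_one_iff_mul_comm]
    simpa using (Commute.inv_right (show Commute b c⁻¹ from hB0)).eq
  have hcc : c ∈ Subgroup.center G := by
    rw [Subgroup.mem_center_iff]
    intro g
    have hg : g ∈ Subgroup.closure {a, b} := hgen ▸ Subgroup.mem_top g
    induction hg using Subgroup.closure_induction with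
    | mem x hx =>
      rcases hx with rfl | hx
      · exact commutatorElement_eq_one_iff_mul_comm.1 hA
      · rw [Set.mem_singleton_iff.1 hx]; exact commutatorElement_eq_one_iff_mul_comm.1 hB
    | one => simp
    | mul x y _ _ hx hy => exact (Commute.mul_left (show Commute x c from hx) hy).eq
    | inv x _ hx => exact (Commute.inv_left (show Commute x c from hx)).eq
  have hle : commutator G ≤ Subgroup.center G := hC.trans (sup_le ((Subgroup.zpowers_le).2 hcc)
    fun z hz => Subgroup.mem_center_iff.2 fun g => (hZ z hz g).symm)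
  refine le_bot_iff.1 (Subgroup.commutator_le.2 fun z hz g _ => Subgroup.mem_bot.2 ?_)
  exact commutatorElement_eq_one_iff_mul_comm.2 (Subgroup.mem_center_iff.1 (hle hz) g).symm

/-- Automorphisms that act trivially on `G/N` form a `2`-group, for `N` a `2`-group of which the
cosets of the generators generate. -/
theorem isPGroup_kernel [Finite G] (N : Subgroup G) (hN : IsPGroup 2 N) (a b : G)
    (hgen : Subgroup.closure {a, b} = ⊤) (K : Subgroup (MulAut G))
    (hK : ∀ φ ∈ K, ∀ x, x⁻¹ * φ x ∈ N) (hKN : ∀ φ ∈ K, ∀ x ∈ N, φ x ∈ N)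
    (hgen' : ∀ u ∈ N, ∀ v ∈ N, Subgroup.closure {a * u, b * v} = ⊤) : IsPGroup 2 K := by
  classical
  letI : MulAction K (N × N) :=
    { smul := fun φ uv => (⟨a⁻¹ * (φ : MulAut G) (a * uv.1), by
          rw [map_mul, ← mul_assoc]
          exact mul_mem (hK _ φ.2 a) (hKN _ φ.2 _ uv.1.2)⟩,
        ⟨b⁻¹ * (φ : MulAut G) (b * uv.2), by
          rw [map_mul, ← mul_assoc]
          exact mul_mem (hK _ φ.2 b) (hKN _ φ.2 _ uv.2.2)⟩)
      one_smul := fun uv => Prod.ext (Subtype.ext (by
        show a⁻¹ * (a * (uv.1 : G)) = uv.1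
        simp)) (Subtype.ext (by
        show b⁻¹ * (b * (uv.2 : G)) = uv.2
        simp))
      mul_smul := fun φ ψ uv => Prod.ext (Subtype.ext (by
        show a⁻¹ * (φ : MulAut G) ((ψ : MulAut G) (a * uv.1)) =
          a⁻¹ * (φ : MulAut G) (a * (a⁻¹ * (ψ : MulAut G) (a * uv.1)))
        rw [mul_inv_cancel_left])) (Subtype.ext (by
        show b⁻¹ * (φ : MulAut G) ((ψ : MulAut G) (b * uv.2)) =
          b⁻¹ * (φ : MulAut G) (b * (b⁻¹ * (ψ : MulAut G) (b * uv.2)))
        rw [mul_inv_cancel_left])) }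
  have hstab : ∀ uv : N × N, MulAction.stabilizer K uv = ⊥ := by
    intro uv
    rw [Subgroup.eq_bot_iff_forall]
    intro φ hφ
    have h1 := congrArg (fun w : N × N => ((w.1 : G), (w.2 : G))) (MulAction.mem_stabilizer_iff.1 hφ)
    simp only [Prod.mk.injEq] at h1
    have ha : (φ : MulAut G) (a * uv.1) = a * uv.1 := by
      have := congrArg (a * ·) h1.1
      rw [show ((φ • uv).1 : G) = a⁻¹ * (φ : MulAut G) (a * uv.1) from rfl] at this
      simpa using this
    have hb : (φ : MulAut G) (b * uv.2) = b * uv.2 := by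
      have := congrArg (b * ·) h1.2
      rw [show ((φ • uv).2 : G) = b⁻¹ * (φ : MulAut G) (b * uv.2) from rfl] at this
      simpa using this
    refine Subtype.ext (MulEquiv.ext fun g => ?_)
    have h2 : (φ : MulAut G).toMonoidHom = MonoidHom.id G := by
      refine MonoidHom.eq_of_eqOn_dense (hgen' _ uv.1.2 _ uv.2.2) ?_
      rintro x (rfl | hx)
      · exact ha
      · rw [Set.mem_singleton_iff.1 hx]; exact hb
    exact DFunLike.congr_fun h2 g
  have hcard : Nat.card (N × N) = Nat.card (MulAction.orbitRel.Quotient K (N × N)) * Nat.card K := by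
    rw [← Nat.card_prod]
    refine Nat.card_congr ((MulAction.selfEquivSigmaOrbitsQuotientStabilizer K (N × N)).trans
      ((Equiv.sigmaCongrRight fun ω => ?_).trans (Equiv.sigmaEquivProd _ _)))
    exact (Subgroup.quotientEquivOfEq (hstab _)).trans (QuotientGroup.quotientBot (G := K)).toEquiv
  obtain ⟨k, hk⟩ := hN.exists_card_eq
  rw [IsPGroup.iff_card]
  have hd : Nat.card K ∣ 2 ^ (k + k) := by
    rw [pow_add, ← hk, ← Nat.card_prod, hcard]; exact dvd_mul_left _ _
  obtain ⟨i, -, hi⟩ := (Nat.dvd_prime_pow Nat.prime_two).1 hd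
  exact ⟨i, hi⟩

theorem map_commutator_equiv (φ : MulAut G) {x : G} (hx : x ∈ commutator G) :
    φ x ∈ commutator G := by
  have h : (commutator G).map φ.toMonoidHom = commutator G := by
    rw [commutator_def, Subgroup.map_commutator, Subgroup.map_top_of_surjective _ φ.surjective]
  exact h ▸ ⟨x, hx, rfl⟩

theorem map_gamma3_equiv (φ : MulAut G) {x : G} (hx : x ∈ gamma3 G) : φ x ∈ gamma3 G := by
  have h : (gamma3 G).map φ.toMonoidHom = gamma3 G := by
    simp only [gamma3, commutator_def, Subgroup.map_commutator,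
      Subgroup.map_top_of_surjective φ.toMonoidHom φ.surjective]
  exact h ▸ ⟨x, hx, rfl⟩

/-- The theorem. -/
theorem quaternion [Finite G] (hG : IsPGroup 2 G) (hna : ¬ IsMulCommutative G)
    (h4 : (commutator G).index = 4) (haut : ¬ IsPGroup 2 (MulAut G)) :
    Nonempty (G ≃* QuaternionGroup 2) := by
  classical
  haveI := hG.isNilpotent
  set C := commutator G with hCdef
  set f := QuotientGroup.mk' C
  have hcard : Nat.card (G ⧸ C) = 4 := by rw [← Subgroup.index_eq_card]; exact h4
  have hf1 : ∀ x, f x = 1 ↔ x ∈ C := fun x => QuotientGroup.eq_one_iff x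
  have hfeq : ∀ x y, f x = f y ↔ x⁻¹ * y ∈ C := fun x y => QuotientGroup.eq
  have hlift : ∀ X : Subgroup G, (∀ g, ∃ u ∈ X, u⁻¹ * g ∈ C) → X = ⊤ := by
    intro X hX
    refine frattini_nongenerating (top_le_iff.1 fun g _ => ?_)
    obtain ⟨u, hu, hug⟩ := hX g
    have h := mul_mem (Subgroup.mem_sup_left hu : u ∈ X ⊔ frattini G)
      (Subgroup.mem_sup_right (Coprime.commutator_le_frattini G hug))
    rwa [mul_inv_cancel_left] at h
  -- `G/C` is not cyclic
  have hfour : ∀ x, f x * f x = 1 := by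
    intro x
    by_contra hx
    obtain ⟨k, -, hk⟩ := (Nat.dvd_prime_pow Nat.prime_two).1
      (show orderOf (f x) ∣ 2 ^ 2 by rw [show (2 ^ 2 : ℕ) = 4 from rfl, ← hcard]; exact orderOf_dvd_natCard _)
    have hk2 : orderOf (f x) = 4 := by
      rcases k with _ | _ | _ | k
      · simp [orderOf_eq_one_iff] at hk; exact absurd (by rw [hk, mul_one]) hx
      · exact absurd (by rw [← pow_two]; simpa [hk] using pow_orderOf_eq_one (f x)) hx
      · simpa using hk
      · exfalso
        have h1 := Nat.le_of_dvd Nat.card_pos (orderOf_dvd_natCard (f x))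
        rw [hcard, hk] at h1
        have h2 : 2 ^ 3 ≤ 2 ^ (k + 1 + 1 + 1) := Nat.pow_le_pow_right (by norm_num) (by omega)
        omega
    refine hna ?_
    have hX : Subgroup.zpowers x = ⊤ := hlift _ fun g => by
      have h1 : f g ∈ Subgroup.zpowers (f x) := by
        rw [Subgroup.eq_top_of_card_eq (Subgroup.zpowers (f x))
          (by rw [Nat.card_zpowers, hk2, hcard])]
        trivial
      obtain ⟨i, hi⟩ := Subgroup.mem_zpowers_iff.1 h1
      exact ⟨x ^ i, Subgroup.zpow_mem_zpowers x i, (hfeq _ _).1 (by rw [← hi, map_zpow])⟩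
    refine ⟨⟨fun u v => ?_⟩⟩
    obtain ⟨i, rfl⟩ := Subgroup.mem_zpowers_iff.1 (hX ▸ Subgroup.mem_top u)
    obtain ⟨j, rfl⟩ := Subgroup.mem_zpowers_iff.1 (hX ▸ Subgroup.mem_top v)
    rw [← zpow_add, ← zpow_add, add_comm]
  have hsq : ∀ x : G, x * x ∈ C := fun x => (hf1 _).1 (by rw [map_mul, hfour x])
  obtain ⟨a, ha⟩ : ∃ a, a ∉ C := by
    by_contra hcon
    push Not at hcon
    have : C = ⊤ := top_le_iff.1 fun x _ => hcon x
    rw [this, Subgroup.index_top] at h4
    omega
  obtain ⟨b, hb, hab⟩ : ∃ b, b ∉ C ∧ a * b ∉ C := by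
    by_contra hcon
    push Not at hcon
    have hsub : ∀ q : G ⧸ C, q = 1 ∨ q = f a := by
      intro q
      obtain ⟨x, rfl⟩ := QuotientGroup.mk'_surjective C q
      by_cases hx : x ∈ C
      · exact Or.inl ((hf1 x).2 hx)
      · refine Or.inr ?_
        have h1 : f a * f x = 1 := by rw [← map_mul]; exact (hf1 _).2 (hcon x hx)
        calc f x = f a * (f a * f x) := by rw [← mul_assoc, hfour a, one_mul]
          _ = f a := by rw [h1, mul_one]
    have : Nat.card (G ⧸ C) ≤ Nat.card Bool :=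
      Nat.card_le_card_of_surjective (fun t : Bool => if t then f a else 1) fun q => by
        rcases hsub q with h | h
        · exact ⟨false, by simp [h]⟩
        · exact ⟨true, by simp [h]⟩
    rw [hcard, Nat.card_eq_fintype_card, Fintype.card_bool] at this
    omega
  -- the four classes
  have hclasses : ∀ q : G ⧸ C, q = 1 ∨ q = f a ∨ q = f b ∨ q = f (a * b) := by
    have hne1 : ∀ x, x ∉ C → f x ≠ 1 := fun x hx h => hx ((hf1 x).1 h)
    have hab' : f a ≠ f b := fun h => hab ((hf1 _).1 (by rw [map_mul, h, hfour b]))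
    have h3 : f a ≠ f (a * b) := fun h => hb ((hf1 b).1 (by
      rw [map_mul] at h; exact (left_eq_mul.1 h)))
    have h4' : f b ≠ f (a * b) := fun h => ha ((hf1 a).1 (by
      rw [map_mul] at h; exact (right_eq_mul.1 h)))
    let S : Finset (G ⧸ C) := {1, f a, f b, f (a * b)}
    haveI : Fintype (G ⧸ C) := Fintype.ofFinite _
    have hS : S = Finset.univ := by
      refine Finset.eq_univ_of_card _ ?_
      rw [← Nat.card_eq_fintype_card, hcard]
      rw [Finset.card_insert_of_notMem (by
          simp only [Finset.mem_insert, Finset.mem_singleton, not_or]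
          exact ⟨(hne1 a ha).symm, (hne1 b hb).symm, (hne1 _ hab).symm⟩),
        Finset.card_insert_of_notMem (by
          simp only [Finset.mem_insert, Finset.mem_singleton, not_or]
          exact ⟨hab', h3⟩),
        Finset.card_insert_of_notMem (by
          simp only [Finset.mem_singleton]
          exact h4'), Finset.card_singleton]
    intro q
    simpa [S] using (hS ▸ Finset.mem_univ q : q ∈ S)
  have hgen : ∀ u ∈ C, ∀ v ∈ C, Subgroup.closure {a * u, b * v} = ⊤ := by
    intro u hu v hv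
    set X := Subgroup.closure {a * u, b * v}
    have hau : a * u ∈ X := Subgroup.subset_closure (by simp)
    have hbv : b * v ∈ X := Subgroup.subset_closure (by simp)
    have hfu : f (a * u) = f a := by rw [map_mul, (hf1 u).2 hu, mul_one]
    have hfv : f (b * v) = f b := by rw [map_mul, (hf1 v).2 hv, mul_one]
    refine hlift X fun g => ?_
    rcases hclasses (f g) with h | h | h | h
    · exact ⟨1, one_mem X, by simpa using (hf1 g).1 h⟩
    · exact ⟨_, hau, (hfeq _ _).1 (by rw [hfu, h])⟩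
    · exact ⟨_, hbv, (hfeq _ _).1 (by rw [hfv, h])⟩
    · exact ⟨_, mul_mem hau hbv, (hfeq _ _).1 (by rw [map_mul, hfu, hfv, h, map_mul])⟩
  have hgen0 : Subgroup.closure {a, b} = ⊤ := by
    simpa using hgen 1 (one_mem C) 1 (one_mem C)
  -- an automorphism moving the classes around
  have hC2 : ∀ φ : MulAut G, ∀ x, x ∈ C → φ x ∈ C := fun φ x hx => map_commutator_equiv φ hx
  let K : Subgroup (MulAut G) :=
    { carrier := {φ | ∀ x, x⁻¹ * φ x ∈ C}
      one_mem' := fun x => by simp
      mul_mem' := fun {φ ψ} hφ hψ x => by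
        have h1 := mul_mem (hψ x) (hφ (ψ x))
        rwa [mul_assoc, mul_inv_cancel_left] at h1
      inv_mem' := fun {φ} hφ x => by
        have h1 := inv_mem (hφ (φ⁻¹ x))
        rwa [mul_inv_rev, inv_inv, MulAut.apply_inv_self] at h1 }
  have hKp : IsPGroup 2 K :=
    isPGroup_kernel C (hG.to_subgroup C) a b hgen0 K (fun φ hφ => hφ) (fun φ _ => hC2 φ) hgen
  obtain ⟨α, q, hq, hq2, hαo⟩ : ∃ α : MulAut G, ∃ q : ℕ, q.Prime ∧ q ≠ 2 ∧ orderOf α = q := by
    by_contra hcon
    push Not at hcon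
    refine haut (IsPGroup.iff_orderOf.2 fun φ => ?_)
    refine ⟨_, Nat.eq_prime_pow_of_unique_prime_dvd (orderOf_pos φ).ne' fun {d} hd hdd => ?_⟩
    by_contra hd2
    exact hcon (φ ^ (orderOf φ / d)) d hd hd2 (orderOf_pow_orderOf_div (orderOf_pos φ).ne' hdd)
  haveI := Fact.mk hq
  have hαK : α ∉ K := by
    intro hmem
    obtain ⟨k, hk⟩ := IsPGroup.iff_orderOf.1 hKp ⟨α, hmem⟩
    rw [← Subgroup.orderOf_coe, hαo] at hk
    exact hq2 ((Nat.prime_dvd_prime_iff_eq hq Nat.prime_two).1 (hq.dvd_of_dvd_pow hk.dvd))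
  obtain ⟨x, hx⟩ : ∃ x, f (α x) ≠ f x := by
    by_contra hcon
    push Not at hcon
    exact hαK fun x => (hfeq _ _).1 (hcon x).symm
  -- `gamma3` is invariant, so all squares of elements outside `C` are of the same class
  have hfα : ∀ (φ : MulAut G) (u v : G), f u = f v → f (φ u) = f (φ v) := fun φ u v h => by
    rw [hfeq] at h ⊢
    rw [← map_inv, ← map_mul]; exact hC2 φ _ h
  have hxC : x ∉ C := fun h => hx (by rw [(hf1 x).2 h, (hf1 _).2 (hC2 α x h)])
  have hαinj : ∀ (φ : MulAut G) (u v : G), f (φ u) = f (φ v) → f u = f v := fun φ u v h => by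
    have := hfα φ⁻¹ _ _ h
    rwa [MulAut.inv_apply_self, MulAut.inv_apply_self] at this
  have h2x : f (α (α x)) ≠ f x := by
    intro h
    have hev : ∀ j, f ((α ^ (2 * j)) x) = f x := by
      intro j
      induction j with
      | zero => simp
      | succ j ih =>
        rw [mul_add, mul_one, pow_succ', pow_succ', MulAut.mul_apply, MulAut.mul_apply]
        exact (hfα α _ _ (hfα α _ _ ih)).trans h
    obtain ⟨j, hj⟩ := hq.odd_of_ne_two hq2
    have h1 := hfα α _ _ (hev j)
    rw [← MulAut.mul_apply, ← pow_succ', ← hj, ← hαo, pow_orderOf_eq_one] at h1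
    exact hx h1.symm
  have hcover : ∀ y, y ∉ C → f y = f x ∨ f y = f (α x) ∨ f y = f (α (α x)) := by
    intro y hy
    by_contra hcon
    push Not at hcon
    haveI : Fintype (G ⧸ C) := Fintype.ofFinite _
    have hne1 : ∀ z, z ∉ C → f z ≠ 1 := fun z hz h => hz ((hf1 z).1 h)
    have hαC : ∀ z, z ∉ C → α z ∉ C := fun z hz h => hz (by
      simpa using hC2 α⁻¹ _ h)
    have h12 : f (α (α x)) ≠ f (α x) := fun h => hx (hαinj α _ _ h)
    have := Finset.card_le_univ ({1, f x, f (α x), f (α (α x)), f y} : Finset (G ⧸ C))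
    rw [← Nat.card_eq_fintype_card, hcard] at this
    simp [(hne1 x hxC).symm, (hne1 _ (hαC x hxC)).symm, (hne1 _ (hαC _ (hαC x hxC))).symm,
      (hne1 y hy).symm, hx.symm, h2x.symm, h12.symm, hcon.1.symm, hcon.2.1.symm, hcon.2.2.symm]
      at this
  -- `gamma3 = ⊥`
  have hg3 : gamma3 G = ⊥ := by
    set D := ⁅gamma3 G, (⊤ : Subgroup G)⁆
    set π := QuotientGroup.mk' D
    have hπs : Function.Surjective π := QuotientGroup.mk'_surjective D
    have hπC : (commutator G).map π = commutator (G ⧸ D) := by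
      simp only [commutator_def, Subgroup.map_commutator, Subgroup.map_top_of_surjective _ hπs]
    have hπ3 : (gamma3 G).map π = gamma3 (G ⧸ D) := by
      simp only [gamma3, Subgroup.map_commutator, hπC, Subgroup.map_top_of_surjective _ hπs]
    have hD3 : D ≤ gamma3 G := Subgroup.commutator_le_left _ _
    have h3C : gamma3 G ≤ C := Subgroup.commutator_le_left _ _
    have hmemC : ∀ z, π z ∈ commutator (G ⧸ D) ↔ z ∈ C := fun z => by
      rw [← hπC]; constructor
      · rintro ⟨w, hw, hwz⟩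
        have h1 : w⁻¹ * z ∈ C := h3C (hD3 (QuotientGroup.eq.1 hwz))
        simpa using mul_mem (show w ∈ C from hw) h1
      · exact fun hz => ⟨z, hz, rfl⟩
    have hmem3 : ∀ z, π z ∈ gamma3 (G ⧸ D) ↔ z ∈ gamma3 G := fun z => by
      rw [← hπ3]; constructor
      · rintro ⟨w, hw, hwz⟩
        have h1 : w⁻¹ * z ∈ gamma3 G := hD3 (QuotientGroup.eq.1 hwz)
        simpa using mul_mem (show w ∈ gamma3 G from hw) h1
      · exact fun hz => ⟨z, hz, rfl⟩
    -- squares of the elements of a coset of `C` are congruent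
    set c := ⁅a, b⁆
    have hcom : ∀ u v : G, u ∈ C → ⁅u, v⁆ ∈ gamma3 G := fun u v hu =>
      Subgroup.commutator_mem_commutator hu trivial
    have hd2 : ∀ d ∈ C, d * d ∈ gamma3 G := by
      let ρ := QuotientGroup.mk' (gamma3 G)
      have hρc : ρ c * ρ c = 1 := by
        have h1 : ⁅a * a, b⁆ = ⁅a, c⁆ * (c * c) := by
          rw [comm_mul_left]; simp [c, commutatorElement_def, mul_assoc]
        have h2 : c * c ∈ gamma3 G := by
          have h3 : ⁅a, c⁆ ∈ gamma3 G := by
            rw [← commutatorElement_inv]; exact inv_mem (hcom _ _ (mem_commutator a b))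
          have h4 := mul_mem (inv_mem h3) (hcom _ b (hsq a))
          rwa [h1, inv_mul_cancel_left] at h4
        rw [← map_mul]; exact (QuotientGroup.eq_one_iff _).2 h2
      intro d hd
      obtain ⟨u, hu, v, hv, rfl⟩ := Subgroup.mem_sup_of_normal_right.1
        (commutator_le_of_gen a b hgen0 hd)
      obtain ⟨i, rfl⟩ := Subgroup.mem_zpowers_iff.1 hu
      refine (QuotientGroup.eq_one_iff _).1 (?_ : ρ _ = 1)
      rw [map_mul, map_mul, show ρ v = 1 from (QuotientGroup.eq_one_iff v).2 hv, mul_one, map_zpow,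
        ← zpow_add, ← two_mul, zpow_mul, zpow_ofNat, pow_two, hρc, one_zpow]
    have hinv : ∀ u v : G, f u = f v → u * u ∈ gamma3 G → v * v ∈ gamma3 G := by
      intro u v huv hu
      rw [hfeq] at huv
      set d := u⁻¹ * v
      have h1 := mul_mem hu (mul_mem (inv_mem (hcom d u⁻¹ huv)) (hd2 d huv))
      have h2 : u * u * (⁅d, u⁻¹⁆⁻¹ * (d * d)) = v * v := by
        simp [d, commutatorElement_def, mul_assoc]
      rwa [h2] at h1
    have hα3 : ∀ u : G, u * u ∈ gamma3 G → α u * α u ∈ gamma3 G := fun u hu => by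
      rw [← map_mul]; exact map_gamma3_equiv α hu
    have hα3' : ∀ u : G, α u * α u ∈ gamma3 G → u * u ∈ gamma3 G := fun u hu => by
      rw [← map_mul] at hu
      simpa using map_gamma3_equiv α⁻¹ hu
    have hcl : ∀ u v : G, u ∉ C → v ∉ C → u * u ∈ gamma3 G → v * v ∈ gamma3 G := by
      intro u v hu hv h
      have hx3 : x * x ∈ gamma3 G := by
        rcases hcover u hu with h1 | h1 | h1
        · exact hinv u x h1 h
        · exact hα3' _ (hinv u _ h1 h)
        · exact hα3' _ (hα3' _ (hinv u _ h1 h))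
      rcases hcover v hv with h1 | h1 | h1
      · exact hinv x v h1.symm hx3
      · exact hinv _ v h1.symm (hα3 _ hx3)
      · exact hinv _ v h1.symm (hα3 _ (hα3 _ hx3))
    have hq3 := gamma3_eq_bot (G := G ⧸ D) (fun z hz g => by
        rw [← hπ3] at hz
        obtain ⟨z, hz, rfl⟩ := hz
        obtain ⟨g, rfl⟩ := hπs g
        rw [← commutatorElement_eq_one_iff_mul_comm, ← map_commutatorElement]
        exact (QuotientGroup.eq_one_iff _).2 (Subgroup.commutator_mem_commutator hz trivial))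
      (π a) (π b)
      (by
        rw [show ({π a, π b} : Set (G ⧸ D)) = π '' {a, b} by rw [Set.image_pair],
          ← MonoidHom.map_closure, hgen0, Subgroup.map_top_of_surjective _ hπs])
      (fun h => ha ((hmemC a).1 h)) (fun h => hb ((hmemC b).1 h))
      (fun h => hab ((hmemC _).1 (by rw [map_mul]; exact h)))
      (fun z => by
        obtain ⟨z, rfl⟩ := hπs z
        rw [← map_mul]; exact (hmemC _).2 (hsq z))
      (fun u v hu hv h => by
        obtain ⟨u, rfl⟩ := hπs u
        obtain ⟨v, rfl⟩ := hπs v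
        rw [← map_mul, hmem3] at h ⊢
        exact hcl u v (fun h' => hu ((hmemC u).2 h')) (fun h' => hv ((hmemC v).2 h')) h)
    have hle : gamma3 G ≤ D := fun z hz => by
      have h1 : π z ∈ gamma3 (G ⧸ D) := (hmem3 z).2 hz
      rw [hq3, Subgroup.mem_bot] at h1
      exact (QuotientGroup.eq_one_iff z).1 h1
    exact le_bot_iff.1 (PGroups.Basic.le_of_le_commutator_sup (gamma3 G) ⊥ (hle.trans le_sup_left))
  -- order 8
  have hcen : ∀ u ∈ C, ∀ v : G, u * v = v * u := fun u hu v =>
    commutatorElement_eq_one_iff_mul_comm.1 (Subgroup.mem_bot.1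
      (hg3 ▸ Subgroup.commutator_mem_commutator hu (Subgroup.mem_top v)))
  set c := ⁅a, b⁆
  have hCc : C = Subgroup.zpowers c := le_antisymm
    ((commutator_le_of_gen a b hgen0).trans (by rw [hg3, sup_bot_eq]))
    (Subgroup.zpowers_le.2 (mem_commutator a b))
  have hc2 : c * c = 1 := by
    have h1 : ⁅a * a, b⁆ = a * c * a⁻¹ * c := comm_mul_left a a b
    rw [commutatorElement_eq_one_iff_mul_comm.2 (hcen _ (hsq a) b),
      ← hcen c (mem_commutator a b) a, mul_inv_cancel_right] at h1
    exact h1.symm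
  have hc1 : c ≠ 1 := by
    intro h1
    refine hna ⟨⟨fun u v => ?_⟩⟩
    have h2 : ⁅u, v⁆ ∈ C := mem_commutator u v
    rw [hCc, h1, Subgroup.zpowers_one_eq_bot, Subgroup.mem_bot,
      commutatorElement_eq_one_iff_mul_comm] at h2
    exact h2
  have hoc : orderOf c = 2 := orderOf_eq_prime (by rw [pow_two]; exact hc2) hc1
  have hC8 : Nat.card G = 8 := by
    rw [← C.card_mul_index, h4, hCc, Nat.card_zpowers, hoc]
  have hCmem : ∀ z ∈ C, z = 1 ∨ z = c := by
    intro z hz
    rw [hCc, Subgroup.mem_zpowers_iff] at hz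
    obtain ⟨i, rfl⟩ := hz
    rcases Int.even_or_odd i with ⟨j, rfl⟩ | ⟨j, rfl⟩
    · left; rw [← two_mul, zpow_mul, zpow_ofNat, pow_two, hc2, one_zpow]
    · right; rw [zpow_add, zpow_mul, zpow_ofNat, pow_two, hc2, one_zpow, one_mul, zpow_one]
  -- no involutions outside `C`
  have hinvC : ∀ u : G, u * u = 1 → u ∈ C := by
    intro u hu
    by_contra huC
    have hall : ∀ z, z ∉ C → z * z = 1 := by
      have hsame : ∀ z w, f z = f w → w * w = z * z := by
        intro z w h
        have hd : z⁻¹ * w ∈ C := (hfeq z w).1 h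
        have hdd : (z⁻¹ * w) * (z⁻¹ * w) = 1 := by
          rcases hCmem _ hd with h1 | h1 <;> rw [h1] <;> simp [hc2]
        calc w * w = z * ((z⁻¹ * w) * z) * (z⁻¹ * w) := by simp [mul_assoc]
          _ = z * z * ((z⁻¹ * w) * (z⁻¹ * w)) := by rw [hcen _ hd z]; simp [mul_assoc]
          _ = z * z := by rw [hdd, mul_one]
      have hx1 : x * x = 1 := by
        rcases hcover u huC with h | h | h
        · rw [hsame u x h]; exact hu
        · have h1 := hsame u _ h
          rw [hu, ← map_mul] at h1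
          exact α.injective (h1.trans (map_one α).symm)
        · have h1 := hsame u _ h
          rw [hu, ← map_mul, ← map_mul] at h1
          exact α.injective (α.injective (h1.trans (by simp)))
      intro z hz
      rcases hcover z hz with h | h | h
      · rw [hsame x z h.symm]; exact hx1
      · rw [hsame _ z h.symm, ← map_mul, hx1, map_one]
      · rw [hsame _ z h.symm, ← map_mul, ← map_mul, hx1, map_one, map_one]
    refine hc1 ?_
    have h1 := hall a ha
    have h2 := hall b hb
    have h3 := hall _ hab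
    have ia : a⁻¹ = a := inv_eq_of_mul_eq_one_right h1
    have ib : b⁻¹ = b := inv_eq_of_mul_eq_one_right h2
    simp only [c, commutatorElement_def, ia, ib]
    simpa [mul_assoc] using h3
  have huniq : ∀ z : G, z ^ 2 = 1 → z ≠ 1 → z = c := fun z hz hz1 =>
    (hCmem z (hinvC z (by rw [← pow_two]; exact hz))).resolve_left hz1
  haveI := Fact.mk Nat.prime_two
  have key : ∀ M : Subgroup G, Nat.card M = 2 → M = Subgroup.zpowers c := by
    intro M hM
    refine (Subgroup.eq_of_le_of_card_ge ?_ (by rw [hM, Nat.card_zpowers, hoc]))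
    intro z hz
    by_cases hz1 : z = 1
    · exact hz1 ▸ one_mem _
    · have h1 : (⟨z, hz⟩ : M) ^ 2 = 1 := by rw [← hM]; exact pow_card_eq_one'
      rw [huniq z (congrArg Subtype.val h1) hz1]
      exact Subgroup.mem_zpowers c
  rcases PGroups.UniqueSubgroup.isCyclic_or_quaternion hG (fun H L hH hL => by rw [key H hH, key L hL]) with h | ⟨-, n, ⟨e⟩⟩
  · haveI := h
    exact absurd ⟨⟨fun u v => (IsCyclic.commGroup (α := G)).mul_comm u v⟩⟩ hna
  · have h1 := Nat.card_congr e.toEquiv
    rw [hC8, Nat.card_eq_fintype_card, QuaternionGroup.card] at h1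
    have hn : 2 ^ n = 2 := by omega
    exact ⟨e.trans (MulEquiv.cast (M := fun m => QuaternionGroup m) hn)⟩

end Cfsg.Agent.SolvStruct.TausskyOdd
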