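import Cfsg.Agent.SolvStruct.Kazarin
import Cfsg.Agent.Lib.Coprime.Commutator
import Cfsg.Agent.Lib.Transfer.NormalPComplement

/-!
# Groups all of whose conjugacy classes have size one or a prime
-/

set_option autoImplicit false
set_option linter.unusedSectionVars false

namespace Cfsg.Agent.SolvStruct.PrimeClassSizes

open scoped commutatorElement

variable {G : Type*} [Group G] [Finite G]

/-- Class sizes are one or a prime. -/
abbrev Hyp (G : Type*) [Group G] : Prop :=
  ∀ x : G, (Subgroup.centralizer ({x} : Set G)).index = 1 ∨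
    ((Subgroup.centralizer ({x} : Set G)).index).Prime

theorem isSolvable (h : Hyp G) : Group.IsSolvable G := by
  obtain ⟨R, -, hR⟩ := (Set.toFinite {N : Subgroup G | N.Normal ∧ Group.IsSolvable N}).exists_le_maximal
    (show (⊥ : Subgroup G) ∈ {N : Subgroup G | N.Normal ∧ Group.IsSolvable N} from
      ⟨inferInstance, inferInstance⟩)
  haveI := hR.prop.1
  haveI := hR.prop.2
  suffices htop : R = ⊤ by
    exact solvable_of_surjective (f := (MulEquiv.subgroupCongr htop).trans Subgroup.topEquiv |>.toMonoidHom)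
      (((MulEquiv.subgroupCongr htop).trans Subgroup.topEquiv).surjective)
  rw [eq_top_iff]
  intro x _
  set N := Subgroup.normalClosure ({x} : Set G)
  haveI : Group.IsSolvable N := by
    rcases h x with h1 | h1
    · exact Kazarin.isSolvable_normalClosure (a := 0) Nat.prime_two (by simpa using h1)
    · exact Kazarin.isSolvable_normalClosure (a := 1) h1 (pow_one _).symm
  haveI : Group.IsSolvable ↥(R ⊔ N) := by
    refine (Group.isSolvable_iff_subgroup_quotient (R.subgroupOf (R ⊔ N))).2
      ⟨solvable_of_surjective (f := (Subgroup.subgroupOfEquivOfLe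
          (show R ≤ R ⊔ N from le_sup_left)).symm.toMonoidHom)
        (Subgroup.subgroupOfEquivOfLe (show R ≤ R ⊔ N from le_sup_left)).symm.surjective, ?_⟩
    let f : N →* ↥(R ⊔ N) ⧸ R.subgroupOf (R ⊔ N) :=
      (QuotientGroup.mk' _).comp (Subgroup.inclusion le_sup_right)
    refine solvable_of_surjective (f := f) fun u => ?_
    obtain ⟨⟨u, hu⟩, rfl⟩ := QuotientGroup.mk_surjective u
    obtain ⟨r, hr, n, hn, rfl⟩ := Subgroup.mem_sup_of_normal_left.1 hu
    refine ⟨⟨n, hn⟩, QuotientGroup.eq.2 ?_⟩
    show n⁻¹ * (r * n) ∈ R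
    rw [← mul_assoc]
    simpa using hR.prop.1.conj_mem r hr n⁻¹
  have hle : R ⊔ N ≤ R := hR.le_of_ge ⟨inferInstance, inferInstance⟩ le_sup_left
  exact hle (Subgroup.mem_sup_right (Subgroup.subset_normalClosure rfl))

/-- In a non-nilpotent soluble group an element of prime power order moves some `O_p`. -/
theorem exists_moved (hs : Group.IsSolvable G) (hn : ¬ Group.IsNilpotent G) :
    ∃ p q : ℕ, p.Prime ∧ q.Prime ∧ p ≠ q ∧ ∃ y : G, (∃ k, orderOf y = q ^ k) ∧
      y ∉ Subgroup.centralizer (Cfsg.pCore p G : Set G) := by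
  by_contra hcon
  push Not at hcon
  haveI := hs
  -- the elements of order prime to `q` centralize `O_q`
  have hq' : ∀ q : ℕ, q.Prime → ∀ z : G, (orderOf z).Coprime q →
      z ∈ Subgroup.centralizer (Cfsg.pCore q G : Set G) := by
    intro q hq z hz
    haveI := Fact.mk hq
    haveI : (Cfsg.pCore q G).Normal := Cores.pCore_normal _
    set C := Subgroup.centralizer (Cfsg.pCore q G : Set G) with hC
    haveI : C.Normal := inferInstance
    refine Transfer.NormalPComplement.mem_of_pow_mem ?_ (Subgroup.pow_index_mem C z)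
    refine Nat.coprime_of_dvd fun r hr hrz hrC => ?_
    haveI := Fact.mk hr
    have hne : r ≠ q := fun e => hq.ne_one (Nat.eq_one_of_dvd_coprimes hz (e ▸ hrz) dvd_rfl)
    obtain ⟨R⟩ := (inferInstance : Nonempty (Sylow r G))
    refine R.not_dvd_index (hrC.trans (Subgroup.index_dvd_of_le fun u hu => ?_))
    obtain ⟨k, hk⟩ := IsPGroup.iff_orderOf.1 R.2 ⟨u, hu⟩
    rw [Subgroup.orderOf_mk] at hk
    exact hcon q r hq hr hne.symm u ⟨k, hk⟩
  refine hn ((Cores.fittingSubgroup_eq_top_iff (G := G)).1
    (Cores.eq_top_of_sylow_le fun q hq _ => ?_))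
  haveI := Fact.mk hq
  obtain ⟨Q⟩ := (inferInstance : Nonempty (Sylow q G))
  refine ⟨Q, ?_⟩
  set C := ⨅ p : {p : ℕ // p.Prime ∧ p ≠ q}, Subgroup.centralizer (Cfsg.pCore p.1 G : Set G)
  have hQC : (Q : Subgroup G) ≤ C := fun z hz => by
    refine Subgroup.mem_iInf.2 fun p => hcon p.1 q p.2.1 hq p.2.2 z ?_
    obtain ⟨k, hk⟩ := IsPGroup.iff_orderOf.1 Q.2 ⟨z, hz⟩
    exact ⟨k, by rwa [Subgroup.orderOf_mk] at hk⟩
  haveI hCn : C.Normal := Subgroup.normal_iInf_normal fun p => by
    haveI : (Cfsg.pCore p.1 G).Normal := Cores.pCore_normal _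
    infer_instance
  set F := Cfsg.fittingSubgroup G with hF
  haveI : F.Normal := Components.Fitting.fitting_normal
  -- elements of `C` of order prime to `q` are in `C(F) ≤ F`
  have hCF : ∀ z ∈ C, (orderOf z).Coprime q → z ∈ F := fun z hz hzq => by
    refine Cores.centralizer_fittingSubgroup_le ?_
    have hle : F ≤ Subgroup.centralizer ({z} : Set G) := by
      rw [hF, Cores.fittingSubgroup_eq_iSup]
      refine iSup_le fun p w hw => ?_
      rw [Subgroup.mem_centralizer_singleton_iff]
      by_cases hpq : p.1 = q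
      · rw [hpq] at hw
        exact hq' q hq z hzq w hw
      · exact Subgroup.mem_iInf.1 hz ⟨p.1, Nat.prime_of_mem_primeFactors p.2, hpq⟩ w hw
    exact fun w hw => Subgroup.mem_centralizer_singleton_iff.1 (hle hw)
  set S := C ⊓ F
  have heq : (Q : Subgroup G) ⊔ S = C := by
    refine le_antisymm (sup_le hQC inf_le_left) ?_
    rw [← Subgroup.relIndex_eq_one]
    by_contra hne
    obtain ⟨r, hr, hrd⟩ := Nat.exists_prime_and_dvd hne
    haveI := Fact.mk hr
    rw [Subgroup.relIndex] at hrd
    by_cases hrq : r = q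
    · subst hrq
      refine (Q.subtype hQC).not_dvd_index (hrd.trans ?_)
      exact Subgroup.index_dvd_of_le (Subgroup.comap_mono le_sup_left)
    · obtain ⟨R⟩ := (inferInstance : Nonempty (Sylow r C))
      refine R.not_dvd_index (hrd.trans (Subgroup.index_dvd_of_le fun z hz => ?_))
      refine Subgroup.mem_subgroupOf.2 (le_sup_right (a := (Q : Subgroup G))
        ⟨z.2, hCF z z.2 ?_⟩)
      obtain ⟨k, hk⟩ := IsPGroup.iff_orderOf.1 R.2 ⟨z, hz⟩
      rw [Subgroup.orderOf_mk] at hk
      rw [Subgroup.orderOf_coe, hk]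
      exact Nat.Coprime.pow_left _ ((Nat.coprime_primes hr hq).2 hrq)
  -- `Q` is normal in `C`, hence in `G`
  have hSN : S ≤ Subgroup.normalizer ((Q : Subgroup G) : Set G) := by
    intro z hz
    have hzF : z ∈ Cfsg.fittingSubgroup G := hz.2
    rw [Cores.fittingSubgroup_eq_iSup] at hzF
    refine (iSup_le (fun p w hw => ?_) :
      (⨆ p : (Nat.card G).primeFactors, Cfsg.pCore (p : ℕ) G) ≤
        Subgroup.normalizer ((Q : Subgroup G) : Set G)) hzF
    by_cases hpq : p.1 = q
    · rw [hpq] at hw
      exact Subgroup.le_normalizer (Cores.pCore_le_sylow Q hw)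
    · refine Subgroup.centralizer_le_normalizer _ fun u hu => ?_
      exact (Subgroup.mem_iInf.1 (hQC hu) ⟨p.1, Nat.prime_of_mem_primeFactors p.2, hpq⟩ w hw).symm
  haveI : ((Q.subtype hQC : Sylow q C) : Subgroup C).Normal := by
    rw [Sylow.coe_subtype]
    exact (Subgroup.normal_subgroupOf_iff_le_normalizer hQC).2
      (heq.ge.trans (sup_le Subgroup.le_normalizer hSN))
  haveI : ((Q.subtype hQC : Sylow q C) : Subgroup C).Characteristic :=
    (Q.subtype hQC).characteristic_of_normal inferInstance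
  haveI hQn : (((Q.subtype hQC : Sylow q C) : Subgroup C).map C.subtype).Normal :=
    Cores.normal_map_subtype _ _
  rw [Sylow.coe_subtype, Subgroup.map_subgroupOf_eq_of_le hQC] at hQn
  haveI := hQn
  exact (Cores.le_pCore Q.2).trans (Cores.pCore_le_fitting q)

/-- The structure theorem. -/
theorem structure_of_not_nilpotent (h : Hyp G) (hn : ¬ Group.IsNilpotent G) :
    ∃ p q : ℕ, p.Prime ∧ q.Prime ∧ p ≠ q ∧ Nat.card (G ⧸ Subgroup.center G) = p * q ∧
      ¬ IsMulCommutative (G ⧸ Subgroup.center G) := by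
  obtain ⟨p, q, hp, hq, hpq, y, ⟨e, hye⟩, hy⟩ := exists_moved (isSolvable h) hn
  haveI := Fact.mk hp
  haveI := Fact.mk hq
  set V := Cfsg.pCore p G
  haveI : V.Normal := Cores.pCore_normal p
  have hV : IsPGroup p V := Cores.pCore_isPGroup p
  set Y := Subgroup.zpowers y
  set Cy := Subgroup.centralizer ({y} : Set G) with hCy
  have hYy : Subgroup.centralizer (Y : Set G) = Cy := by
    show Subgroup.centralizer (Subgroup.zpowers y : Set G) = Subgroup.centralizer ({y} : Set G)
    rw [Subgroup.zpowers_eq_closure, Subgroup.centralizer_closure]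
  have hVy : ¬ V ≤ Cy := fun hle => hy fun v hv =>
    Subgroup.mem_centralizer_singleton_iff.1 (hle hv)
  have hne : Cy.relIndex V ≠ 1 := fun e => hVy (Subgroup.relIndex_eq_one.1 e)
  have hyi : Cy.index.Prime := (h y).resolve_left fun h1 => hne
    (Nat.dvd_one.1 (h1 ▸ Cores.relIndex_dvd_index_right_normal Cy V))
  have hrel : Cy.relIndex V = Cy.index :=
    (hyi.eq_one_or_self_of_dvd _ (Cores.relIndex_dvd_index_right_normal Cy V)).resolve_left hne
  have hidx : Cy.index = p := by
    obtain ⟨k, hk⟩ := hV.exists_card_eq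
    exact (Nat.prime_dvd_prime_iff_eq hyi hp).1
      (hyi.dvd_of_dvd_pow (hrel ▸ hk ▸ Subgroup.relIndex_dvd_card Cy V))
  have hYN : Y ≤ Subgroup.normalizer (V : Set G) := by
    rw [Subgroup.normalizer_eq_top_iff.2 inferInstance]; exact le_top
  have hcop : (Nat.card Y).Coprime (Nat.card V) := by
    obtain ⟨k, hk⟩ := hV.exists_card_eq
    rw [Nat.card_zpowers, hye, hk]
    exact Nat.Coprime.pow _ _ ((Nat.coprime_primes hq hp).2 hpq.symm)
  haveI : Group.IsSolvable V := haveI := hV.isNilpotent; inferInstance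
  set W := ⁅V, Y⁆ with hW
  have hWV : W ≤ V := Coprime.commutator_le_of_le_normalizer hYN
  have hsup := Coprime.commutator_sup_inf_centralizer hYN hcop (Or.inr inferInstance)
  have hWW := Coprime.commutator_commutator_eq hYN hcop (Or.inr inferInstance)
  rw [← hW] at hsup hWW
  rw [hYy] at hsup
  have hVC : V ⊔ Cy = ⊤ := by
    rw [← Subgroup.index_eq_one]
    refine (hyi.eq_one_or_self_of_dvd _ (Subgroup.index_dvd_of_le le_sup_right)).resolve_right
      fun h1 => hVy ?_
    have h2 : Cy = V ⊔ Cy := Subgroup.eq_of_le_of_card_ge le_sup_right (le_of_eq ?_)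
    · exact le_sup_left.trans h2.ge
    · have h3 := (V ⊔ Cy).card_mul_index
      rw [← Cy.card_mul_index, h1] at h3
      exact Nat.eq_of_mul_eq_mul_right hyi.pos h3
  -- `W` is normal in `G`
  haveI hWn : W.Normal := by
    rw [← Subgroup.normalizer_eq_top_iff, eq_top_iff, ← hVC]
    refine sup_le ?_ fun c hc => ?_
    · exact Subgroup.normalizer_commutator_ge_left V Y
    · have hc' : ∀ u ∈ Y, Commute c u := fun u hu => (hYy.ge hc u hu).symm
      have key : ∀ c ∈ Cy, W.map (MulAut.conj c).toMonoidHom ≤ W := fun c hc => by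
        rw [hW, Subgroup.map_commutator]
        refine Subgroup.commutator_mono ?_ ?_
        · rintro _ ⟨v, hv, rfl⟩
          exact (inferInstance : V.Normal).conj_mem v hv c
        · rintro _ ⟨u, hu, rfl⟩
          show c * u * c⁻¹ ∈ Y
          rw [(show Commute c u from (hYy.ge hc u hu).symm).eq, mul_inv_cancel_right]
          exact hu
      refine Subgroup.mem_normalizer_iff.2 fun w => ⟨fun hw => key c hc ⟨w, hw, rfl⟩, fun hw => ?_⟩
      have := key c⁻¹ (inv_mem hc) ⟨_, hw, rfl⟩
      simpa [mul_assoc] using this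
  have hW0 : W ≠ ⊥ := fun e => hVy ((sup_le (e ▸ bot_le) inf_le_right).trans' hsup.ge)
  -- `|W : C_W(y)| = p`
  set D := W ⊓ Cy with hD
  have hWC : ¬ W ≤ Cy := fun hle => by
    refine hW0 ?_
    rw [← hWW, Subgroup.commutator_eq_bot_iff_le_centralizer, hYy]
    exact hle
  have hDidx : D.relIndex W = p := by
    rw [Subgroup.inf_relIndex_left]
    refine ((Nat.dvd_prime hp).1 (hidx ▸ Cores.relIndex_dvd_index_right_normal Cy W)).resolve_left ?_
    exact fun e => hWC (Subgroup.relIndex_eq_one.1 e)
  haveI hDn : (D.subgroupOf W).Normal := by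
    refine Subgroup.normal_of_index_eq_minFac_card ?_
    rw [show (D.subgroupOf W).index = p from hDidx]
    obtain ⟨k, hk⟩ := (hV.to_le hWV).exists_card_eq
    rw [hk, Nat.Prime.pow_minFac hp]
    rintro rfl
    exact hW0 (Subgroup.card_eq_one.1 (hk.trans (pow_zero p)))
  -- `W` centralizes `D`
  have hWD : W ≤ Subgroup.centralizer (D : Set G) := by
    refine hWW.ge.trans (Subgroup.commutator_le.2 fun w hw u hu d hd => ?_)
    have hdy : ∀ d ∈ D, Commute d u := fun d hd => (hYy.ge hd.2 u hu).symm
    have h1 : w⁻¹ * d * w ∈ D := by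
      have := hDn.conj_mem ⟨d, hd.1⟩ hd ⟨w⁻¹, inv_mem hw⟩
      simpa [Subgroup.mem_subgroupOf] using this
    have h2 : Commute d (w * u * w⁻¹) := by
      have := (hdy _ h1).map (MulAut.conj w).toMonoidHom
      simpa [MulAut.conj_apply, mul_assoc] using this
    rw [commutatorElement_def]
    exact (h2.mul_right (hdy d hd).inv_right)
  haveI hWab : IsMulCommutative W := by
    haveI : Fact p.Prime := ⟨hp⟩
    refine Subgroup.le_centralizer_iff_isMulCommutative.1 fun a ha b hb => ?_
    by_cases haD : a ∈ D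
    · exact (hWD hb a haD).symm
    obtain ⟨i, hi⟩ : ∃ i : ℤ, b * (a ^ i)⁻¹ ∈ D := by
      have hgen := mem_zpowers_of_prime_card (p := p) (g' := ((⟨b, hb⟩ : W) : W ⧸ D.subgroupOf W))
        ((Subgroup.index_eq_card _).symm.trans hDidx)
        (g := ((⟨a, ha⟩ : W) : W ⧸ D.subgroupOf W))
        (fun e => haD ((QuotientGroup.eq_one_iff (N := D.subgroupOf W) _).1 e))
      obtain ⟨i, hi⟩ := Subgroup.mem_zpowers_iff.1 hgen
      refine ⟨i, ?_⟩
      have h2 : (((⟨b, hb⟩ : W) * (⟨a, ha⟩ ^ i)⁻¹ : W) : W ⧸ D.subgroupOf W) = 1 := by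
        rw [QuotientGroup.mk_mul, QuotientGroup.mk_inv, QuotientGroup.mk_zpow, hi, mul_inv_cancel]
      exact (QuotientGroup.eq_one_iff (N := D.subgroupOf W) _).1 h2
    have h1 : Commute (b * (a ^ i)⁻¹) a := (hWD ha _ hi)
    have h2 : Commute b a := by
      have := h1.mul_left ((Commute.refl a).zpow_left i)
      rwa [inv_mul_cancel_right] at this
    exact h2
  have hD1 : D = ⊥ := by
    have h1 := Coprime.inf_centralizer_inf_commutator (V := W) (A := Y)
      (by rw [Subgroup.normalizer_eq_top_iff.2 hWn]; exact le_top)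
      (hcop.coprime_dvd_right (Subgroup.card_dvd_of_le hWV))
    rw [hWW, hYy] at h1
    rwa [inf_eq_left.2 (inf_le_left : W ⊓ Cy ≤ W)] at h1
  have hWp : Nat.card W = p := by rw [← hDidx, hD1, Subgroup.relIndex_bot_left]
  haveI : IsCyclic W := isCyclic_of_prime_card hWp
  obtain ⟨⟨x, hxW⟩, hx⟩ := IsCyclic.exists_generator (α := W)
  have hxgen : Subgroup.zpowers x = W := by
    refine le_antisymm (Subgroup.zpowers_le.2 hxW) fun w hw => ?_
    obtain ⟨i, hi⟩ := Subgroup.mem_zpowers_iff.1 (hx ⟨w, hw⟩)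
    exact Subgroup.mem_zpowers_iff.2 ⟨i, congrArg Subtype.val hi⟩
  set Cx := Subgroup.centralizer ({x} : Set G) with hCx
  have hCxW : Subgroup.centralizer (W : Set G) = Cx := by
    rw [← hxgen, Subgroup.zpowers_eq_closure, Subgroup.centralizer_closure]
  haveI hCxn : Cx.Normal := hCxW ▸ inferInstance
  have hyx : y ∉ Cx := fun hh => hWC fun w hw => by
    rw [hCy, Subgroup.mem_centralizer_singleton_iff]
    exact (hCxW.ge hh w hw)
  have hxi : Cx.index.Prime := (h x).resolve_left fun h1 => hyx (by
    rw [hCx, Subgroup.index_eq_one.1 h1]; exact Subgroup.mem_top y)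
  have hxq : Cx.index = q := by
    have h1 : y ^ Cx.index ∈ Cx := Subgroup.pow_index_mem Cx y
    by_contra hne'
    refine hyx (Transfer.NormalPComplement.mem_of_pow_mem ?_ h1)
    rw [hye]
    exact Nat.Coprime.pow_left _ ((Nat.coprime_primes hq hxi).2 (Ne.symm hne'))
  set M := Cx ⊓ Cy with hM
  have hWCx : W ≤ Cx := hCxW ▸ Subgroup.le_centralizer_iff_isMulCommutative.2 hWab
  have hMidx : M.index = p * q := by
    have h1 : Cy.relIndex Cx = p := by
      refine ((Nat.dvd_prime hp).1 (hidx ▸ Cores.relIndex_dvd_index_right_normal Cy Cx)).resolve_left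
        fun e => hWC ?_
      exact hWCx.trans (Subgroup.relIndex_eq_one.1 e)
    rw [hM, ← Subgroup.relIndex_mul_index (inf_le_left : Cx ⊓ Cy ≤ Cx), hxq,
      Subgroup.inf_relIndex_left, h1]
  have hgenG : ∀ L : Subgroup G, M ≤ L → x ∈ L → y ∈ L → L = ⊤ := by
    intro L hML hxL hyL
    rw [← Subgroup.index_eq_one]
    have h1 : L.index ∣ p * q := hMidx ▸ Subgroup.index_dvd_of_le hML
    have hnp : ¬ p ∣ L.index := fun hd => by
      have hWL : W ≤ L := hxgen ▸ Subgroup.zpowers_le.2 hxL
      have h2 : (M ⊔ W).relIndex Cx = 1 := by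
        refine ((Nat.dvd_prime hp).1 ?_).resolve_right fun e => ?_
        · have h3 := Subgroup.relIndex_dvd_of_le_left Cx (le_sup_left : M ≤ M ⊔ W)
          rw [hM, Subgroup.inf_relIndex_left] at h3
          exact h3.trans (hidx ▸ Cores.relIndex_dvd_index_right_normal Cy Cx)
        · have h4 : M.relIndex (M ⊔ W) = 1 := by
            have h5 := Subgroup.relIndex_mul_relIndex M (M ⊔ W) Cx le_sup_left
              (sup_le inf_le_left hWCx)
            have h6 : M.relIndex Cx = p := by
              have h7 := Subgroup.relIndex_mul_index (inf_le_left : M ≤ Cx)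
              rw [hMidx, hxq] at h7
              exact Nat.eq_of_mul_eq_mul_right hq.pos h7
            rw [h6, e] at h5
            exact Nat.eq_of_mul_eq_mul_right hp.pos (h5.trans (one_mul p).symm)
          exact hWC ((le_sup_right.trans (Subgroup.relIndex_eq_one.1 h4)).trans inf_le_right)
      have hCxL : Cx ≤ L := (Subgroup.relIndex_eq_one.1 h2).trans (sup_le hML hWL)
      exact hpq ((Nat.prime_dvd_prime_iff_eq hp hq).1
        (hd.trans (hxq ▸ Subgroup.index_dvd_of_le hCxL)))
    have h3 : L.index ∣ q := Nat.Coprime.dvd_of_dvd_mul_left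
      ((hp.coprime_iff_not_dvd.2 hnp).symm) h1
    refine ((Nat.dvd_prime hq).1 h3).resolve_right fun e => hyx ?_
    have hWL : W ≤ L := hxgen ▸ Subgroup.zpowers_le.2 hxL
    have hMC : M ⊔ W ≤ Cx := sup_le inf_le_left hWCx
    have hLCx : Cx = L := by
      have hle : Cx ≤ L := by
        have h4 : M.relIndex Cx = p := by
          have h7 := Subgroup.relIndex_mul_index (inf_le_left : M ≤ Cx)
          rw [hMidx, hxq] at h7
          exact Nat.eq_of_mul_eq_mul_right hq.pos h7
        have h5 := Subgroup.relIndex_mul_relIndex M (M ⊔ W) Cx le_sup_left hMC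
        rw [h4] at h5
        rcases (Nat.dvd_prime hp).1 (Dvd.intro _ h5) with h6 | h6
        · exact absurd ((le_sup_right.trans (Subgroup.relIndex_eq_one.1 h6)).trans inf_le_right) hWC
        · rw [h6] at h5
          have h7 := Nat.eq_of_mul_eq_mul_left hp.pos (h5.trans (mul_one p).symm)
          exact (Subgroup.relIndex_eq_one.1 h7).trans (sup_le hML hWL)
      refine Subgroup.eq_of_le_of_card_ge hle (le_of_eq ?_)
      have h8 := L.card_mul_index
      rw [← Cx.card_mul_index, e, hxq] at h8
      exact Nat.eq_of_mul_eq_mul_right hq.pos h8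
    exact hLCx ▸ hyL
  -- `M` is central
  have hMZ : M ≤ Subgroup.center G := by
    intro m hm
    have hab : ∀ m' ∈ M, Commute m m' := by
      by_contra hcon
      push Not at hcon
      obtain ⟨m', hm', hmm⟩ := hcon
      set Cm := Subgroup.centralizer ({m} : Set G)
      have hmi : Cm.index.Prime := (h m).resolve_left fun h1 => hmm
        ((Subgroup.mem_centralizer_singleton_iff.1
          (show m' ∈ Subgroup.centralizer ({m} : Set G) by
            rw [Subgroup.index_eq_one.1 h1]; exact Subgroup.mem_top m')).symm)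
      -- the centralizer of `m * x`
      have hsub : Subgroup.centralizer ({m * x} : Set G) ≤ Cm ⊓ Cx := by
        intro g hg
        have h1 : Commute g (m * x) := Subgroup.mem_centralizer_singleton_iff.1 hg
        -- compare the components of `g (m * x) g⁻¹` in `Cy` and `W`
        obtain ⟨v, hv, c, hc, rfl⟩ := Subgroup.mem_sup_of_normal_left.1
          (show g ∈ V ⊔ Cy from hVC ▸ Subgroup.mem_top g)
        obtain ⟨w, hw, d, hd, rfl⟩ : ∃ w ∈ W, ∃ d ∈ V ⊓ Cy, w * d = v :=
          Subgroup.mem_sup_of_normal_left.1 (show v ∈ W ⊔ (V ⊓ Cy) from hsup.ge hv)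
        set b := d * c
        have hb : b ∈ Cy := mul_mem hd.2 hc
        have hbm : b * m * b⁻¹ ∈ M := by
          refine ⟨hCxn.conj_mem m hm.1 b, mul_mem (mul_mem hb hm.2) ((Subgroup.centralizer ({y} : Set G)).inv_mem hb)⟩
        have hbx : b * x * b⁻¹ ∈ W := hWn.conj_mem x hxW b
        have hwM : Commute w (b * m * b⁻¹) := by
          have := hCxW.ge hbm.1 w hw
          exact this
        have hwx : Commute w (b * x * b⁻¹) :=
          congrArg Subtype.val (mul_comm' (M := W) ⟨w, hw⟩ ⟨_, hbx⟩)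
        have h2 : b * m * b⁻¹ * (b * x * b⁻¹) = m * x := by
          have h3 : w * (b * m * b⁻¹ * (b * x * b⁻¹)) * w⁻¹ = m * x := by
            have h4 : w * d * c * (m * x) * (w * d * c)⁻¹ = m * x := by rw [h1.eq, mul_inv_cancel_right]
            rw [← h4]; simp only [b]; group
          rwa [(hwM.mul_right hwx).eq, mul_inv_cancel_right] at h3
        have h5 : m⁻¹ * (b * m * b⁻¹) = x * (b * x * b⁻¹)⁻¹ := by
          rw [inv_mul_eq_iff_eq_mul, ← mul_assoc, eq_mul_inv_iff_mul_eq, h2]
        have h6 : x * (b * x * b⁻¹)⁻¹ ∈ D :=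
          ⟨mul_mem hxW (W.inv_mem hbx), h5 ▸ Subgroup.mul_mem _ ((Subgroup.centralizer ({y} : Set G)).inv_mem hm.2) hbm.2⟩
        rw [hD1, Subgroup.mem_bot, mul_inv_eq_one] at h6
        rw [← h6, mul_inv_cancel, inv_mul_eq_one] at h5
        have hbCm : b ∈ Cm := Subgroup.mem_centralizer_singleton_iff.2
          (mul_inv_eq_iff_eq_mul.1 h5.symm)
        have hbCx : b ∈ Cx := Subgroup.mem_centralizer_singleton_iff.2
          (mul_inv_eq_iff_eq_mul.1 h6.symm)
        rw [show w * d * c = w * b from mul_assoc _ _ _]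
        refine ⟨mul_mem (Subgroup.mem_centralizer_singleton_iff.2 (hCxW.ge hm.1 w hw)) hbCm,
          mul_mem (hWCx hw) hbCx⟩
      have hyCm : y ∈ Cm := Subgroup.mem_centralizer_singleton_iff.2
        (Subgroup.mem_centralizer_singleton_iff.1 hm.2).symm
      have h7 := (Subgroup.index_dvd_of_le hsub)
      have h8 : (Cm ⊓ Cx).index = Cm.index * q := by
        have h9 : Cx.relIndex Cm = q := by
          refine ((Nat.dvd_prime hq).1 ?_).resolve_left
            fun e => hyx (Subgroup.relIndex_eq_one.1 e hyCm)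
          rw [← hxq]; exact Subgroup.relIndex_dvd_index_of_normal Cx Cm
        rw [← Subgroup.relIndex_mul_index (inf_le_left : Cm ⊓ Cx ≤ Cm), inf_comm,
          Subgroup.inf_relIndex_right, h9, mul_comm]
      rcases h (m * x) with h9 | h9
      · rw [h9, h8] at h7
        exact hq.ne_one (Nat.dvd_one.1 ((dvd_mul_left _ _).trans h7))
      · have h10 : Cm.index * q ∣ (Subgroup.centralizer ({m * x} : Set G)).index := h8 ▸ h7
        have h11 := h9.eq_one_or_self_of_dvd _ h10
        rcases h11 with h11 | h11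
        · exact hq.ne_one (Nat.dvd_one.1 (h11 ▸ dvd_mul_left _ _))
        · exact Nat.not_prime_mul hmi.ne_one hq.ne_one (h11 ▸ h9)
    have htop := hgenG (Subgroup.centralizer ({m} : Set G))
      (fun m' hm' => Subgroup.mem_centralizer_singleton_iff.2 (hab m' hm').symm)
      (Subgroup.mem_centralizer_singleton_iff.2 (Subgroup.mem_centralizer_singleton_iff.1 hm.1).symm)
      (Subgroup.mem_centralizer_singleton_iff.2 (Subgroup.mem_centralizer_singleton_iff.1 hm.2).symm)
    exact Subgroup.mem_center_iff.2 fun g =>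
      Subgroup.mem_centralizer_singleton_iff.1 (htop ▸ Subgroup.mem_top g)
  have hMeq : Subgroup.center G = M :=
    le_antisymm (le_inf (Subgroup.center_le_centralizer _) (Subgroup.center_le_centralizer _)) hMZ
  refine ⟨p, q, hp, hq, hpq, by rw [← Subgroup.index_eq_card, hMeq, hMidx], fun hc => ?_⟩
  have h1 : ⁅x, y⁆ ∈ Subgroup.center G := by
    rw [← QuotientGroup.eq_one_iff]
    exact commutatorElement_eq_one_iff_mul_comm.2 (mul_comm' (x : G ⧸ Subgroup.center G) y) |>
      fun h' => by simpa [commutatorElement_def] using h'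
  rw [hMeq] at h1
  have h2 : ⁅x, y⁆ ∈ D := ⟨by
    rw [commutatorElement_def, mul_assoc x, mul_assoc x]
    exact mul_mem hxW (hWn.conj_mem x⁻¹ (inv_mem hxW) y), h1.2⟩
  rw [hD1, Subgroup.mem_bot, commutatorElement_eq_one_iff_mul_comm] at h2
  exact hyx (Subgroup.mem_centralizer_singleton_iff.2 h2.symm)

theorem class_two (h : Hyp G) (hn : Group.IsNilpotent G) :
    Subgroup.upperCentralSeries G 2 = ⊤ := by
  rw [eq_top_iff]
  intro x _
  rw [Subgroup.mem_upperCentralSeries_succ_iff]
  intro y
  rw [Subgroup.upperCentralSeries_one, Subgroup.mem_center_iff]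
  intro z
  set L := Subgroup.centralizer ({z} : Set G)
  have hmem : ⁅x, y⁆ ∈ L := by
    rcases h z with h1 | h1
    · rw [Subgroup.index_eq_one] at h1
      rw [show L = ⊤ from h1]; exact Subgroup.mem_top _
    · have hco : IsCoatom L := by
        refine ⟨fun e => h1.ne_one (Subgroup.index_eq_one.2 e), fun K hK => ?_⟩
        rw [← Subgroup.index_eq_one]
        refine (h1.eq_one_or_self_of_dvd _ (Subgroup.index_dvd_of_le hK.le)).resolve_right fun e =>
          hK.ne (Subgroup.eq_of_le_of_card_ge hK.le (le_of_eq ?_))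
        have h3 := K.card_mul_index
        rw [← L.card_mul_index, e] at h3
        exact Nat.eq_of_mul_eq_mul_right h1.pos h3
      haveI : L.Normal := Subgroup.NormalizerCondition.normal_of_coatom L
        Group.normalizerCondition_of_isNilpotent hco
      rw [← QuotientGroup.eq_one_iff]
      haveI : IsCyclic (G ⧸ L) := by
        haveI := Fact.mk h1
        exact isCyclic_of_prime_card (Subgroup.index_eq_card L).symm
      rw [show ((⁅x, y⁆ : G) : G ⧸ L) = ⁅(x : G ⧸ L), (y : G ⧸ L)⁆ from
        map_commutatorElement (QuotientGroup.mk' L) x y, commutatorElement_eq_one_iff_mul_comm]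
      letI := IsCyclic.commGroup (α := G ⧸ L)
      exact mul_comm _ _
  have := Subgroup.mem_centralizer_singleton_iff.1 hmem
  simpa [commutatorElement_def] using this.symm

end Cfsg.Agent.SolvStruct.PrimeClassSizes
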