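import Mathlib

/-!
# The principal ideal theorem

The transfer of a finite group into the abelianization of its derived subgroup is trivial.
The proof uses Witt's splitting module `A × I` for `A = G'/G''` and `I` the augmentation ideal
of the abelianization, and the determinant of a relation matrix.
-/

set_option autoImplicit false
set_option linter.unusedSectionVars false

namespace Cfsg.Agent.SolvStruct.PrincipalIdeal

universe u

variable (G : Type u) [Group G]

/-- `G'/G''`, written additively. -/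
abbrev A' : Type u := Additive (Abelianization ↥(commutator G))

/-- The abelianization as a quotient. -/
abbrev Q' : Type u := G ⧸ commutator G

variable {G}

theorem quot_comm (a b : Q' G) : a * b = b * a := by
  obtain ⟨a, rfl⟩ := QuotientGroup.mk_surjective a
  obtain ⟨b, rfl⟩ := QuotientGroup.mk_surjective b
  rw [← QuotientGroup.mk_mul, ← QuotientGroup.mk_mul, QuotientGroup.eq]
  exact Subgroup.commutator_mem_commutator (Subgroup.mem_top (b⁻¹)) (Subgroup.mem_top (a⁻¹))
    |> fun h => by simpa [commutator_def, commutatorElement_def, mul_assoc] using h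

/-- The image in `A'` of an element of the derived subgroup. -/
noncomputable def el (x : G) (h : (x : Q' G) = 1) : A' G :=
  Additive.ofMul (Abelianization.of ⟨x, (QuotientGroup.eq_one_iff x).1 h⟩)

theorem el_congr {x y : G} (h : (x : Q' G) = 1) (e : x = y) (h' : (y : Q' G) = 1) :
    el x h = el y h' := by subst e; rfl

theorem el_one (h : ((1 : G) : Q' G) = 1) : el (1 : G) h = 0 :=
  congrArg Additive.ofMul (map_one (Abelianization.of (G := ↥(commutator G))))

theorem el_add {x y : G} (hx : (x : Q' G) = 1) (hy : (y : Q' G) = 1) :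
    el x hx + el y hy = el (x * y) (by rw [QuotientGroup.mk_mul, hx, hy, one_mul]) :=
  (congrArg Additive.ofMul (map_mul (Abelianization.of (G := ↥(commutator G))) _ _)).symm

theorem el_neg {x : G} (hx : (x : Q' G) = 1) :
    el x⁻¹ (by rw [QuotientGroup.mk_inv, hx, inv_one]) = - el x hx :=
  congrArg Additive.ofMul (map_inv (Abelianization.of (G := ↥(commutator G)))
    ⟨x, (QuotientGroup.eq_one_iff x).1 hx⟩)

theorem exists_el (a : A' G) : ∃ x : G, ∃ hx : (x : Q' G) = 1, a = el x hx := by
  induction a using Additive.rec with | _ a => ?_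
  obtain ⟨⟨x, hx⟩, rfl⟩ := QuotientGroup.mk_surjective (a : ↥(commutator G) ⧸ commutator ↥(commutator G))
  exact ⟨x, (QuotientGroup.eq_one_iff x).2 hx, rfl⟩

/-- Conjugation by `g` on `A'`. -/
noncomputable def cA (g : G) : A' G →+ A' G :=
  MonoidHom.toAdditive (Abelianization.map (MulAut.conjNormal g : MulAut ↥(commutator G)).toMonoidHom)

theorem cA_el (g : G) {x : G} (hx : (x : Q' G) = 1) :
    cA g (el x hx) = el (g * x * g⁻¹) (by simp [hx]) := by
  show Additive.ofMul (Abelianization.map _ (Abelianization.of _)) = _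
  rw [Abelianization.map_of]
  rfl

theorem cA_mul (g g' : G) (a : A' G) : cA g (cA g' a) = cA (g * g') a := by
  obtain ⟨x, hx, rfl⟩ := exists_el a
  rw [cA_el, cA_el, cA_el]
  exact el_congr _ (by group) _

theorem cA_eq {g g' : G} (h : (g : Q' G) = g') (a : A' G) : cA g a = cA g' a := by
  obtain ⟨x, hx, rfl⟩ := exists_el a
  have hk : ((g'⁻¹ * g : G) : Q' G) = 1 := by simp [h]
  rw [cA_el, cA_el]
  have key : el (g'⁻¹ * g * x * (g'⁻¹ * g)⁻¹) (by simp [hk, hx, h]) = el x hx := by
    have h1 := el_add (show ((g'⁻¹ * g * x : G) : Q' G) = 1 by simp [hx, h])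
      (show (((g'⁻¹ * g)⁻¹ : G) : Q' G) = 1 by simp [h])
    rw [← h1, ← el_add hk hx, el_neg hk]
    abel
  have h2 := congrArg (cA g') key
  rw [cA_el, cA_el] at h2
  exact (el_congr _ (by group) _).trans h2

open scoped Classical in
/-- A normalized section of `G → Q'`. -/
noncomputable def s (q : Q' G) : G := if q = 1 then 1 else Quotient.out q

@[simp] theorem mk_s (q : Q' G) : ((s q : G) : Q' G) = q := by
  unfold s
  split_ifs with h
  · rw [h]; rfl
  · exact QuotientGroup.out_eq' q

@[simp] theorem s_one : s (1 : Q' G) = (1 : G) := if_pos rfl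

/-- The cocycle of the section. -/
noncomputable def f (q r : Q' G) : A' G := el (s q * s r * (s (q * r))⁻¹) (by simp)

theorem f_one_left (r : Q' G) : f 1 r = 0 :=
  (el_congr _ (by simp) (QuotientGroup.mk_one _)).trans (el_one _)

theorem f_one_right (q : Q' G) : f q 1 = 0 :=
  (el_congr _ (by simp) (QuotientGroup.mk_one _)).trans (el_one _)

theorem cocycle (q q' r : Q' G) :
    cA (s q) (f q' r) + f q (q' * r) = f q q' + f (q * q') r := by
  simp only [f, cA_el, el_add]
  exact el_congr _ (by simp only [mul_assoc q q' r]; group) _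

section

variable [Finite G]

noncomputable local instance : Fintype (Q' G) := Fintype.ofFinite _

variable (G) in
/-- The augmentation ideal of `ℤ[Q']`, as functions with sum zero. -/
noncomputable def Z : AddSubgroup (Q' G → ℤ) :=
  AddMonoidHom.ker (∑ q : Q' G, Pi.evalAddMonoidHom (fun _ : Q' G => ℤ) q)

theorem mem_Z {z : Q' G → ℤ} : z ∈ Z G ↔ ∑ q : Q' G, z q = 0 := by
  simp [Z, AddMonoidHom.mem_ker, AddMonoidHom.finsetSum_apply]

variable (G) in
/-- Witt's module. -/
abbrev W' : Type u := A' G × ↥(Z G)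

theorem sum_shift (q : Q' G) (z : ↥(Z G)) : (fun r => (z : Q' G → ℤ) (q⁻¹ * r)) ∈ Z G := by
  rw [mem_Z]
  exact (Equiv.sum_comp (Equiv.mulLeft q⁻¹) (fun r => (z : Q' G → ℤ) r)).trans (mem_Z.1 z.2)

/-- The action of `q` on Witt's module. -/
noncomputable def act (q : Q' G) : W' G →+ W' G where
  toFun m := (cA (s q) m.1 + ∑ r : Q' G, (m.2 : Q' G → ℤ) r • f q r, ⟨_, sum_shift q m.2⟩)
  map_zero' := by
    refine Prod.ext ?_ (Subtype.ext (funext fun r => ?_)) <;> simp
  map_add' m m' := by
    refine Prod.ext ?_ (Subtype.ext (funext fun r => ?_))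
    · simp only [Prod.fst_add, Prod.snd_add, map_add, AddSubgroup.coe_add, Pi.add_apply, add_smul,
        Finset.sum_add_distrib]
      abel
    · simp

theorem act_one (m : W' G) : act 1 m = m := by
  refine Prod.ext ?_ (Subtype.ext (funext fun r => ?_))
  · obtain ⟨x, hx, hm⟩ := exists_el m.1
    show cA (s 1) m.1 + _ = _
    simp only [f_one_left, smul_zero, Finset.sum_const_zero, add_zero, hm, cA_el]
    exact el_congr _ (by simp) _
  · show (m.2 : Q' G → ℤ) (1⁻¹ * r) = _
    simp

theorem act_mul (q q' : Q' G) (m : W' G) : act (q * q') m = act q (act q' m) := by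
  refine Prod.ext ?_ (Subtype.ext (funext fun r => ?_))
  · show cA (s (q * q')) m.1 + ∑ r : Q' G, (m.2 : Q' G → ℤ) r • f (q * q') r =
      cA (s q) (cA (s q') m.1 + ∑ r : Q' G, (m.2 : Q' G → ℤ) r • f q' r) +
        ∑ r : Q' G, (m.2 : Q' G → ℤ) (q'⁻¹ * r) • f q r
    have hre : ∑ r : Q' G, (m.2 : Q' G → ℤ) (q'⁻¹ * r) • f q r =
        ∑ r : Q' G, (m.2 : Q' G → ℤ) r • f q (q' * r) := by
      rw [← Equiv.sum_comp (Equiv.mulLeft q')]
      simp
    rw [map_add, map_sum, cA_mul, cA_eq (g := s q * s q') (g' := s (q * q')) (by simp),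
      add_assoc, hre, ← Finset.sum_add_distrib]
    simp only [map_zsmul, ← smul_add, cocycle]
    simp only [smul_add, Finset.sum_add_distrib, ← Finset.sum_smul, mem_Z.1 m.2.2, zero_smul,
      zero_add]
  · show (m.2 : Q' G → ℤ) ((q * q')⁻¹ * r) = (m.2 : Q' G → ℤ) (q'⁻¹ * (q⁻¹ * r))
    simp [mul_assoc]

/-- The representation of `Q'` on Witt's module. -/
noncomputable def rho : Q' G →* Module.End ℤ (W' G) where
  toFun q := (act q).toIntLinearMap
  map_one' := LinearMap.ext act_one
  map_mul' q q' := LinearMap.ext (act_mul q q')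

open scoped Classical in
theorem single_sub_mem (q : Q' G) : (Pi.single q 1 - Pi.single 1 1 : Q' G → ℤ) ∈ Z G := by
  simp [mem_Z, Finset.sum_sub_distrib, Finset.sum_pi_single']

open scoped Classical in
/-- The derivation `G → W'`. -/
noncomputable def D (g : G) : W' G :=
  (el (g * (s (g : Q' G))⁻¹) (by simp), ⟨_, single_sub_mem (g : Q' G)⟩)

open scoped Classical in
theorem act_D_fst (q : Q' G) (g : G) :
    (act q (D g)).1 = el (s q * g * (s (q * (g : Q' G)))⁻¹) (by simp) := by
  show cA (s q) _ + ∑ r : Q' G, (Pi.single (g : Q' G) 1 - Pi.single 1 1 : Q' G → ℤ) r • f q r = _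
  simp only [Pi.sub_apply, sub_smul, Finset.sum_sub_distrib, Pi.single_apply, ite_smul, one_smul,
    zero_smul, Finset.sum_ite_eq', Finset.mem_univ, if_true, f_one_right, sub_zero]
  simp only [f, D, cA_el, el_add]
  exact el_congr _ (by group) _

open scoped Classical in
theorem D_mul (g h : G) : D (g * h) = D g + act (g : Q' G) (D h) := by
  refine Prod.ext ?_ (Subtype.ext (funext fun r => ?_))
  · rw [Prod.fst_add, act_D_fst]
    simp only [D, el_add]
    exact el_congr _ (by rw [QuotientGroup.mk_mul]; group) _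
  · show (Pi.single ((g * h : G) : Q' G) 1 - Pi.single 1 1 : Q' G → ℤ) r =
      (Pi.single (g : Q' G) 1 - Pi.single 1 1 : Q' G → ℤ) r +
        (Pi.single (h : Q' G) 1 - Pi.single 1 1 : Q' G → ℤ) ((g : Q' G)⁻¹ * r)
    simp only [Pi.sub_apply, Pi.single_apply, inv_mul_eq_iff_eq_mul, QuotientGroup.mk_mul,
      mul_one]
    ring

/-- The norm of `Q'` kills the values of the derivation. -/
theorem norm_D_eq_zero (g₀ : G) : ∑ q : Q' G, act q (D g₀) = 0 := by
  classical
  haveI := Fintype.ofFinite G
  letI : CommGroup (Q' G) := { (inferInstance : Group (Q' G)) with mul_comm := quot_comm }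
  let R := MonoidAlgebra ℤ (Q' G)
  let Φ : R →ₐ[ℤ] Module.End ℤ (W' G) := MonoidAlgebra.lift ℤ (Module.End ℤ (W' G)) (Q' G) rho
  let aug : R →ₐ[ℤ] ℤ := MonoidAlgebra.lift ℤ ℤ (Q' G) 1
  have hΦ : ∀ (q : Q' G) (n : ℤ) (m : W' G), Φ (MonoidAlgebra.single q n) m = n • act q m :=
    fun q n m => by
      show MonoidAlgebra.lift ℤ (Module.End ℤ (W' G)) (Q' G) rho (MonoidAlgebra.single q n) m = _
      rw [MonoidAlgebra.lift_single]
      rfl
  have haug : ∀ (q : Q' G) (n : ℤ), aug (MonoidAlgebra.single q n) = n := fun q n => by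
    show MonoidAlgebra.lift ℤ ℤ (Q' G) 1 (MonoidAlgebra.single q n) = _
    rw [MonoidAlgebra.lift_single]
    simp
  -- the combinations with coefficients in the augmentation ideal
  let Wd : AddSubgroup (W' G) :=
    { carrier := {m | ∃ i : G → R, (∀ g, aug (i g) = 0) ∧ m = ∑ g, Φ (i g) (D g)}
      zero_mem' := ⟨0, fun g => map_zero aug, by simp⟩
      add_mem' := by
        rintro _ _ ⟨i, hi, rfl⟩ ⟨j, hj, rfl⟩
        exact ⟨i + j, fun g => by simp [hi, hj], by simp [Finset.sum_add_distrib]⟩
      neg_mem' := by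
        rintro _ ⟨i, hi, rfl⟩
        exact ⟨-i, fun g => by simp [hi], by simp [Finset.sum_neg_distrib]⟩ }
  have hW : ∀ (q : Q' G) (h : G), act q (D h) - D h ∈ Wd := fun q h => by
    refine ⟨Pi.single h (MonoidAlgebra.single q 1 - 1), fun g => ?_, ?_⟩
    · by_cases hg : g = h
      · subst hg; simp [haug, map_sub]
      · simp [Pi.single_eq_of_ne hg]
    · rw [Finset.sum_eq_single h (fun g _ hg => by simp [Pi.single_eq_of_ne hg]) (by simp)]
      simp [map_sub, hΦ]
  let ψ : G →* Multiplicative (W' G ⧸ Wd) := MonoidHom.mk'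
    (fun g => Multiplicative.ofAdd (QuotientAddGroup.mk (D g))) fun g h => by
      rw [← ofAdd_add, ← QuotientAddGroup.mk_add, EmbeddingLike.apply_eq_iff_eq,
        QuotientAddGroup.eq, D_mul]
      have := hW (g : Q' G) h
      rw [← neg_mem_iff] at this
      convert this using 1
      abel
  let ψb : Q' G →* Multiplicative (W' G ⧸ Wd) :=
    QuotientGroup.lift (commutator G) ψ (Abelianization.commutator_subset_ker ψ)
  -- the relation lattice
  let Λ : (G → ℤ) →ₗ[ℤ] Additive (Q' G) :=
    ∑ g : G, (LinearMap.proj g : (G → ℤ) →ₗ[ℤ] ℤ).smulRight (Additive.ofMul (g : Q' G))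
  have hΛ : ∀ r : G → ℤ, Λ r = ∑ g, r g • Additive.ofMul (g : Q' G) := fun r => by
    simp [Λ]
  have hsurj : Function.Surjective Λ := fun a => by
    induction a using Additive.rec with | _ a => ?_
    obtain ⟨g, rfl⟩ := QuotientGroup.mk_surjective a
    refine ⟨Pi.single g 1, ?_⟩
    rw [hΛ, Finset.sum_eq_single g (fun h _ hh => by simp [Pi.single_eq_of_ne hh]) (by simp)]
    simp
  set L := LinearMap.ker Λ
  have hm : ∀ v : G → ℤ, ((Nat.card (Q' G) : ℕ) : ℤ) • v ∈ L := fun v => by
    rw [LinearMap.mem_ker, map_zsmul, natCast_zsmul]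
    induction Λ v using Additive.rec with | _ a => ?_
    exact congrArg Additive.ofMul (pow_card_eq_one' (x := a))
  have hfin : Module.finrank ℤ L = Fintype.card G := by
    refine le_antisymm ((Submodule.finrank_le L).trans (Module.finrank_pi ℤ).le) ?_
    let emb : (G → ℤ) →ₗ[ℤ] L :=
      LinearMap.codRestrict L (((Nat.card (Q' G) : ℕ) : ℤ) • LinearMap.id) hm
    have hinj : Function.Injective emb := fun v w h => by
      have h1 := congrArg Subtype.val h
      exact smul_right_injective (G → ℤ) (Int.natCast_ne_zero.2 (Nat.card_pos.ne')) h1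
    exact (Module.finrank_pi ℤ).ge.trans (LinearMap.finrank_le_finrank_of_injective hinj)
  let bL : Module.Basis G ℤ L :=
    (Module.finBasisOfFinrankEq ℤ L hfin).reindex (Fintype.equivFin G).symm
  have hdet : ((Matrix.of fun j g => ((bL j : L) : G → ℤ) g).det).natAbs = Nat.card (Q' G) := by
    have h1 := Submodule.natAbs_det_basis_change (Pi.basisFun ℤ G) L bL
    rw [Nat.card_congr (LinearMap.quotKerEquivOfSurjective Λ hsurj).toEquiv,
      Nat.card_congr Additive.toMul] at h1
    rw [← h1, Module.Basis.det_apply, ← Matrix.det_transpose]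
    congr 2
  have hrow : ∀ j : G, ∑ g, ((bL j : L) : G → ℤ) g • D g ∈ Wd := by
    intro j
    have h1 : Λ (bL j : L) = 0 := (bL j).2
    rw [hΛ] at h1
    have h2 := congrArg (MonoidHom.toAdditive ψb) h1
    rw [map_zero, map_sum] at h2
    simp only [map_zsmul] at h2
    rw [← QuotientAddGroup.eq_zero_iff]
    rw [← QuotientAddGroup.mk'_apply, map_sum]
    simp only [map_zsmul, QuotientAddGroup.mk'_apply]
    exact h2
  choose i hi hiD using hrow
  let μ : Matrix G G R :=
    Matrix.of fun j g => algebraMap ℤ R (((bL j : L) : G → ℤ) g) - i j g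
  have hμ : ∀ j, ∑ g, Φ (μ j g) (D g) = 0 := fun j => by
    simp only [μ, Matrix.of_apply, map_sub, LinearMap.sub_apply, Finset.sum_sub_distrib,
      ← hiD j, sub_eq_zero, AlgHom.commutes, Module.algebraMap_end_apply]
  set c := μ.det with hc
  have hcD : ∀ k : G, Φ c (D k) = 0 := fun k => by
    have h1 : ∑ g, Φ ((μ.adjugate * μ) k g) (D g) = 0 := by
      simp only [Matrix.mul_apply, map_sum, LinearMap.sum_apply, map_mul, Module.End.mul_apply]
      rw [Finset.sum_comm]
      refine Finset.sum_eq_zero fun j _ => ?_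
      rw [← map_sum, hμ j, map_zero]
    rw [Matrix.adjugate_mul, Finset.sum_eq_single k (fun g _ hg => by
      simp [Matrix.one_apply_ne hg.symm]) (by simp)] at h1
    simpa [Matrix.one_apply_eq] using h1
  have hexp : c = ∑ t : Q' G, MonoidAlgebra.single t (c.coeff t) := by
    refine MonoidAlgebra.ext (Finsupp.ext fun h => ?_)
    simp [MonoidAlgebra.coeff_sum, Finsupp.single_apply]
  have hconst : ∀ t, c.coeff t = c.coeff 1 := by
    intro t
    obtain ⟨k, hk⟩ := QuotientGroup.mk_surjective t⁻¹
    have h1 := congrArg (fun m : W' G => (m.2 : Q' G → ℤ) 1) (hcD k)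
    rw [hexp] at h1
    simp only [map_sum, LinearMap.sum_apply, hΦ, Prod.snd_sum, Prod.smul_snd,
      AddSubgroup.val_finset_sum, Finset.sum_apply, AddSubgroup.coe_zsmul, Pi.smul_apply,
      smul_eq_mul, Prod.snd_zero, AddSubgroup.coe_zero, Pi.zero_apply] at h1
    change ∑ t : Q' G, c.coeff t *
      ((Pi.single (k : Q' G) 1 - Pi.single 1 1 : Q' G → ℤ) (t⁻¹ * 1)) = 0 at h1
    simp only [Pi.sub_apply, Pi.single_apply, mul_one, mul_sub, mul_ite, mul_zero, hk,
      inv_inj, inv_eq_one, Finset.sum_sub_distrib, Finset.sum_ite_eq', Finset.mem_univ, if_true,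
      sub_eq_zero] at h1
    exact h1
  have haugc : (Nat.card (Q' G) : ℤ) * c.coeff 1 =
      (Matrix.of fun j g => ((bL j : L) : G → ℤ) g).det := by
    have h1 : aug c = (Matrix.of fun j g => ((bL j : L) : G → ℤ) g).det := by
      rw [hc, AlgHom.map_det]
      congr 1
      ext j g
      simp [μ, hi j g, map_sub]
    rw [← h1, hexp]
    simp only [map_sum, haug, hconst, Finset.sum_const, Finset.card_univ,
      Nat.card_eq_fintype_card, nsmul_eq_mul]
    simp [MonoidAlgebra.coeff_sum, Finsupp.single_apply, hconst]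
  have h3 : Φ c (D g₀) = c.coeff 1 • ∑ q : Q' G, act q (D g₀) := by
    conv_lhs => rw [hexp]
    simp only [map_sum, LinearMap.sum_apply, hΦ, hconst, Finset.smul_sum]
  rw [hcD] at h3
  have hunit : c.coeff 1 = 1 ∨ c.coeff 1 = -1 := by
    refine (Int.natAbs_eq_iff (n := 1)).1 ?_
    have h4 := congrArg Int.natAbs haugc
    rw [hdet, Int.natAbs_mul, Int.natAbs_natCast] at h4
    exact Nat.eq_of_mul_eq_mul_left Nat.card_pos (h4.trans (mul_one _).symm)
  rcases hunit with h | h <;> rw [h] at h3
  · simpa using h3.symm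
  · simpa using h3.symm

/-- The principal ideal theorem. -/
theorem transfer_eq_one :
    MonoidHom.transfer (Abelianization.of : ↥(commutator G) →* Abelianization ↥(commutator G)) =
      (1 : G →* Abelianization ↥(commutator G)) := by
  classical
  refine MonoidHom.ext fun g => ?_
  have hsec : ∀ r : Q' G, (((s r⁻¹)⁻¹ : G) : Q' G) = r := fun r => by simp
  let T : (commutator G).LeftTransversal :=
    ⟨_, Subgroup.isComplement_range_left (f := fun r : Q' G => (s r⁻¹)⁻¹) hsec⟩
  rw [MonoidHom.transfer_def _ T, MonoidHom.one_apply]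
  refine Additive.ofMul.injective ?_
  rw [ofMul_one, Subgroup.leftTransversals.diff]
  have h0 := congrArg Prod.fst (norm_D_eq_zero g)
  rw [Prod.fst_sum, Prod.fst_zero] at h0
  simp only [act_D_fst] at h0
  rw [ofMul_prod, ← h0]
  refine Fintype.sum_equiv (Equiv.inv (Q' G)) _ _ fun q => ?_
  refine congrArg (fun a => Additive.ofMul (Abelianization.of a)) (Subtype.ext ?_)
  show ((T.2.leftQuotientEquiv q : G))⁻¹ * ((g • T).2.leftQuotientEquiv q : G) = _
  have h1 : ∀ r : Q' G, (T.2.leftQuotientEquiv r : G) = (s r⁻¹)⁻¹ := fun r =>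
    Subgroup.IsComplement.leftQuotientEquiv_apply hsec r
  rw [Subgroup.smul_apply_eq_smul_apply_inv_smul, h1, h1, smul_eq_mul, inv_inv,
    ← mul_assoc]
  have hq : ((g⁻¹ • q : Q' G))⁻¹ = Equiv.inv (Q' G) q * (g : Q' G) := by
    obtain ⟨y, rfl⟩ := QuotientGroup.mk_surjective q
    show ((g⁻¹ * y : G) : Q' G)⁻¹ = (y : Q' G)⁻¹ * (g : Q' G)
    simp
  rw [hq]
  rfl

end

end Cfsg.Agent.SolvStruct.PrincipalIdeal
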