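import Cfsg.Agent.Lib.Subnormal.Join

/-!
# Wielandt's subnormality criterion with conjugates by conjugates of elements of the subgroup
-/

set_option autoImplicit false

namespace Cfsg.Agent.SolvStruct.SubnormalConj

open scoped Pointwise
open Cfsg.Agent.Coprime

theorem isSubnormal_aux :
    ∀ (n : ℕ) {G : Type*} [Group G] [Finite G], Nat.card G = n → ∀ A : Subgroup G,
      (∀ a ∈ A, ∀ g : G, (A.subgroupOf (A ⊔ MulAut.conj (g⁻¹ * a * g) • A)).IsSubnormal) →
        A.IsSubnormal := by
  intro n
  induction n using Nat.strongRecOn with | ind n ih => ?_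
  intro G _ _ hn A h
  by_contra hA
  have hsub : ∀ L : Subgroup G, A ≤ L → L ≠ ⊤ → (A.subgroupOf L).IsSubnormal := by
    intro L hAL hL
    have hlt : Nat.card L < n := hn ▸ lt_of_le_of_ne (Subgroup.card_le_card_group L)
      fun h => hL (Subgroup.eq_top_of_card_eq L h)
    refine ih _ hlt rfl _ fun a ha g => ?_
    set b : L := g⁻¹ * a * g
    rw [Subgroup.conj_smul_subgroupOf hAL b]
    have hle : MulAut.conj (b : G) • A ≤ L :=
      (Subgroup.pointwise_smul_le_pointwise_smul_iff.mpr hAL).trans
        (le_of_eq (Subgroup.conj_smul_eq_self_of_mem b.2))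
    rw [← Subgroup.subgroupOf_sup hAL hle]
    let f : (A ⊔ MulAut.conj (b : G) • A).subgroupOf L →* ↥(A ⊔ MulAut.conj (b : G) • A) :=
      (L.subtype.comp (Subgroup.subtype _)).codRestrict _ fun y => y.2
    exact (h a ha g).comap f
  have hAtop : A ≠ ⊤ := fun h => hA (h ▸ Subgroup.IsSubnormal.top)
  obtain ⟨M, hM, hAM⟩ := (eq_top_or_exists_le_coatom A).resolve_left hAtop
  set C := Subgroup.normalClosure (A : Set G)
  have hCN : C ≤ Subgroup.normalizer (M : Set G) := by
    apply (Subgroup.closure_le _).mpr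
    intro z hz
    obtain ⟨a, ha, hc⟩ := Group.mem_conjugatesOfSet_iff.mp hz
    obtain ⟨x, rfl⟩ := isConj_iff.mp hc
    have hb : ∀ a ∈ A, ∀ g : G, MulAut.conj (g⁻¹ * a * g) • A ≤ M := by
      intro a ha g
      by_cases htop : A ⊔ MulAut.conj (g⁻¹ * a * g) • A = ⊤
      · exact absurd ((h a ha g).trans le_sup_left (htop ▸ Subgroup.IsSubnormal.top)) hA
      obtain ⟨K, hK, hle⟩ := (eq_top_or_exists_le_coatom _).resolve_left htop
      rw [← Subnormal.Join.zipper A hA hsub K M hK hM (le_sup_left.trans hle) hAM]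
      exact le_sup_right.trans hle
    have h1 := hb a ha x⁻¹
    rw [inv_inv] at h1
    set b := x * a * x⁻¹
    have hA' : A ≤ MulAut.conj b⁻¹ • M := by
      rw [← conj_inv_smul_smul b A]
      exact Subgroup.pointwise_smul_le_pointwise_smul_iff.mpr h1
    have hcoatom : IsCoatom (MulAut.conj b⁻¹ • M) := by
      refine ⟨fun he => hM.1 ?_, fun K hK => ?_⟩
      · exact Subgroup.eq_top_of_card_eq M (by rw [← card_conj_smul b⁻¹ M, he, Subgroup.card_top])
      · have h2 : M < MulAut.conj b • K := by
          refine lt_of_le_of_ne (fun y hy => ?_) fun he => hK.ne ?_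
          · rw [mem_conj_smul]
            refine hK.le ?_
            rw [mem_conj_smul]
            simpa [mul_assoc] using hy
          · rw [he, conj_inv_smul_smul]
        have h3 := hM.2 _ h2
        exact Subgroup.eq_top_of_card_eq K (by rw [← card_conj_smul b K, h3, Subgroup.card_top])
    have heq := Subnormal.Join.zipper A hA hsub _ M hcoatom hM hA' hAM
    have h4 : b⁻¹ ∈ Subgroup.normalizer (M : Set G) := conj_smul_eq_self_iff.mp heq
    simpa using inv_mem h4
  have hC : C = ⊤ := by
    by_contra hne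
    exact hA ((hsub C Subgroup.le_normalClosure hne).trans
      Subgroup.le_normalClosure (Subgroup.normalClosure_normal (s := (A : Set G))).isSubnormal)
  haveI : M.Normal := Subgroup.normalizer_eq_top_iff.mp (top_le_iff.mp (hC ▸ hCN))
  exact hM.1 (top_le_iff.mp (hC ▸ Subgroup.normalClosure_le_normal hAM))

end Cfsg.Agent.SolvStruct.SubnormalConj
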