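import Cfsg.Prelude.Def_HallClasses
import Cfsg.Agent.SolvStruct.WielandtHall
import Cfsg.Agent.Lib.Hall.Solvable
import Cfsg.Agent.Lib.Transfer.Frobenius

/-!
# `D_π` from a Hall subgroup with a nilpotent `σ`-part and `D_τ`
-/

set_option autoImplicit false

namespace Cfsg.Agent.SolvStruct.HallDPi

open Cfsg Cfsg.Agent.Coprime
open scoped Pointwise

universe u

variable {G : Type u} [Group G] [Finite G]

/-- An element normalizing `Q` centralizes it when no prime of its order divides the index of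
the centralizer. -/
theorem mem_centralizer_of_not_dvd_index (Q : Subgroup G) {x : G}
    (hx : x ∈ Subgroup.normalizer (Q : Set G))
    (h : ∀ r : ℕ, r.Prime → r ∣ orderOf x → ¬ r ∣ (Subgroup.centralizer (Q : Set G)).index) :
    x ∈ Subgroup.centralizer (Q : Set G) := by
  set N := Subgroup.normalizer (Q : Set G)
  set C := Subgroup.centralizer (Q : Set G)
  haveI : (C.subgroupOf N).Normal :=
    (Subgroup.normal_subgroupOf_iff_le_normalizer (Subgroup.centralizer_le_normalizer _)).2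
      fun n hn => Subgroup.mem_normalizer_iff.2 fun c => by
        have key : ∀ n ∈ N, ∀ c ∈ C, n * c * n⁻¹ ∈ C := fun n hn c hc q hq => by
          have h1 := hc _ ((Subgroup.mem_normalizer_iff.1 (inv_mem hn) q).1 hq)
          have h2 := congrArg (fun z => n * z * n⁻¹) h1
          simpa [mul_assoc] using h2
        refine ⟨key n hn c, fun h => ?_⟩
        simpa [mul_assoc] using key n⁻¹ (inv_mem hn) _ h
  have hcop : (orderOf x).Coprime C.index := Nat.coprime_of_dvd h
  have hidx : (C.subgroupOf N).index ∣ C.index :=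
    Dvd.intro _ (Subgroup.relIndex_mul_index (Subgroup.centralizer_le_normalizer _))
  refine Transfer.NormalPComplement.mem_of_pow_mem (hcop.coprime_dvd_right hidx) ?_
  exact Subgroup.mem_subgroupOf.1 (Subgroup.pow_index_mem (C.subgroupOf N) ⟨x, hx⟩)

theorem index_conj_smul (g : G) (H : Subgroup G) : (MulAut.conj g • H).index = H.index :=
  WielandtHall.index_eq_of_card_eq (card_conj_smul g H)

theorem commute_conj_smul {A B : Subgroup G} (h : ∀ a ∈ A, ∀ b ∈ B, a * b = b * a) (g : G) :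
    MulAut.conj g • A ≤ Subgroup.centralizer ((MulAut.conj g • B : Subgroup G) : Set G) := by
  intro a ha b hb
  rw [mem_conj_smul] at ha
  rw [SetLike.mem_coe, mem_conj_smul] at hb
  have h1 := congrArg (fun z => g * z * g⁻¹) (h _ ha _ hb)
  simpa [mul_assoc] using h1.symm

section

variable (σ τ : Set ℕ) (H Hs Ht : Subgroup G)

/-- Every `σ ∪ τ`-subgroup lies in a conjugate of `H`. -/
theorem exists_le_conj (hd : Disjoint σ τ) (hH : Cfsg.IsPiHall (σ ∪ τ) H)
    (hs : Cfsg.IsPiSubgroup σ Hs) (ht : Cfsg.IsPiSubgroup τ Ht) (hsn : Group.IsNilpotent Hs)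
    (hjoin : Hs ⊔ Ht = H) (hcomm : ∀ a ∈ Hs, ∀ b ∈ Ht, a * b = b * a)
    (hD : Cfsg.IsDPiGroup τ G) (U : Subgroup G) (hU : Cfsg.IsPiSubgroup (σ ∪ τ) U) :
    ∃ g : G, U ≤ MulAut.conj g • H := by
  have hdis : ∀ p, p ∈ σ → p ∉ τ := fun p h1 h2 => Set.disjoint_left.1 hd h1 h2
  -- the orders
  have hHst : Nat.card H = Nat.card Hs * Nat.card Ht := by
    have hcop : (Nat.card Hs).Coprime (Nat.card Ht) :=
      Nat.coprime_of_dvd fun p hp h1 h2 => hdis p (hs p hp h1) (ht p hp h2)
    rw [← hjoin]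
    refine card_sup_of_coprime (fun a ha => Subgroup.centralizer_le_normalizer _ ?_) hcop
    exact fun b hb => hcomm b hb a ha
  have hsidx : Hs.index = Nat.card Ht * H.index := by
    have h1 := Hs.card_mul_index
    rw [← H.card_mul_index, hHst, mul_assoc] at h1
    exact Nat.eq_of_mul_eq_mul_left Nat.card_pos h1
  have htidx : Ht.index = Nat.card Hs * H.index := by
    have h1 := Ht.card_mul_index
    rw [← H.card_mul_index, hHst, mul_comm (Nat.card Hs), mul_assoc] at h1
    exact Nat.eq_of_mul_eq_mul_left Nat.card_pos h1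
  have hsHall : ∀ r : ℕ, r.Prime → r ∈ σ → ¬ r ∣ Hs.index := fun r hr hrσ h => by
    rw [hsidx] at h
    rcases hr.dvd_mul.1 h with h | h
    · exact hdis r hrσ (ht r hr h)
    · exact hH.2 r hr (Or.inl hrσ) h
  have htHall : ∀ r : ℕ, r.Prime → r ∈ τ → ¬ r ∣ Ht.index := fun r hr hrτ h => by
    rw [htidx] at h
    rcases hr.dvd_mul.1 h with h | h
    · exact hdis r (hs r hr h) hrτ
    · exact hH.2 r hr (Or.inr hrτ) h
  have hscop : (Nat.card Hs).Coprime Hs.index :=
    Nat.coprime_of_dvd fun r hr h1 h2 => hsHall r hr (hs r hr h1) h2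
  have hdvd : ∀ r : ℕ, r.Prime → r ∈ σ → r ∣ Nat.card G → r ∣ Nat.card Hs := fun r hr hrσ h => by
    rw [← Hs.card_mul_index] at h
    exact (hr.dvd_mul.1 h).resolve_right (hsHall r hr hrσ)
  -- normal complements for the primes in `σ`
  have hcond : ∀ p : ℕ, p.Prime → p ∈ σ → ∀ Q : Subgroup G, IsPGroup p Q →
      ∀ x ∈ Subgroup.normalizer (Q : Set G), (orderOf x).Coprime p →
      (∀ r : ℕ, r.Prime → r ∣ orderOf x → r ∈ σ ∪ τ) → x ∈ Subgroup.centralizer (Q : Set G) := by
    intro p hp hpσ Q hQ x hx hxp hxπ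
    haveI := Fact.mk hp
    obtain ⟨g, hg⟩ := WielandtHall.le_conj_nilpotent_hall _ G Hs rfl hsn hscop Q fun r hr hrQ => by
      obtain ⟨k, hk⟩ := hQ.exists_card_eq
      rw [hk] at hrQ
      obtain rfl := (Nat.prime_dvd_prime_iff_eq hr hp).1 (hr.dvd_of_dvd_pow hrQ)
      exact hdvd r hr hpσ ((hk ▸ hrQ : r ∣ Nat.card Q).trans Q.card_subgroup_dvd_card)
    refine mem_centralizer_of_not_dvd_index Q hx fun r hr hrx hrC => ?_
    rcases hxπ r hr hrx with hrσ | hrτ
    · haveI := Fact.mk hr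
      set H' := MulAut.conj g • Hs
      haveI : Group.IsNilpotent H' :=
        Group.nilpotent_of_mulEquiv (Subgroup.equivSMul (MulAut.conj g) Hs)
      have hrG : r ∣ Nat.card G := hrx.trans (orderOf_dvd_natCard x)
      have hcop' : (Nat.card H').Coprime H'.index := by
        rwa [card_conj_smul, index_conj_smul]
      obtain ⟨T⟩ := (inferInstance : Nonempty (Sylow r H'))
      obtain ⟨P, hP⟩ := Transfer.NilpotentHall.exists_sylow_map_eq hcop'
        (by rw [card_conj_smul]; exact hdvd r hr hrσ hrG) T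
      refine P.not_dvd_index (hrC.trans (Subgroup.index_dvd_of_le ?_))
      rw [hP]
      rintro _ ⟨t, ht', rfl⟩
      refine Subgroup.mem_centralizer_iff.2 fun z hz => ?_
      obtain ⟨V, hV⟩ :=
        (hQ.comap_of_injective H'.subtype H'.subtype_injective).exists_le_sylow
      have hne : r ≠ p := fun e =>
        hp.ne_one (Nat.eq_one_of_dvd_coprimes hxp (e ▸ hrx) dvd_rfl)
      exact congrArg Subtype.val (Subgroup.commute_of_normal_of_disjoint (V : Subgroup H') T
        inferInstance inferInstance (IsPGroup.disjoint_of_ne p r hne.symm _ _ V.2 T.2)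
        ⟨z, hg hz⟩ t (hV hz) ht').eq
    · refine htHall r hr hrτ ?_
      rw [← index_conj_smul g]
      refine hrC.trans (Subgroup.index_dvd_of_le ?_)
      exact (commute_conj_smul (fun b hb a ha => (hcomm a ha b hb).symm) g).trans
        (Subgroup.centralizer_le hg)
  have horder : ∀ x ∈ U, ∀ r : ℕ, r.Prime → r ∣ orderOf x → r ∈ σ ∪ τ := fun x hx r hr hrx =>
    hU r hr (hrx.trans ((Subgroup.orderOf_mk x hx).symm ▸ orderOf_dvd_natCard (⟨x, hx⟩ : U)))
  have hcompl : ∀ p : ℕ, ∀ [Fact p.Prime], p ∈ σ → (Nat.card (pResidual p U)).Coprime p := by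
    intro p _ hpσ
    refine Transfer.NormalPComplement.hasNormalPComplement_iff_pResidual.1
      (Transfer.Frobenius.hasNormalPComplement_iff_condition.2 fun Q hQ x hx hxo q hq => ?_)
    have h1 := hcond p Fact.out hpσ (Q.map U.subtype) (hQ.map _) (x : G)
      (Subgroup.le_normalizer_map U.subtype ⟨x, hx, rfl⟩) (by rwa [Subgroup.orderOf_coe])
      (horder x x.2) (q : G) ⟨q, hq, rfl⟩
    exact Subtype.ext h1
  set K : Subgroup U := ⨅ p : {p : ℕ // p.Prime ∧ p ∈ σ}, pResidual p.1 U with hKdef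
  haveI hKn : K.Normal := by
    refine Subgroup.normal_iInf_normal fun p => ?_
    haveI := Fact.mk p.2.1
    exact Transfer.NormalPComplement.pResidual_normal
  have hKσ : ∀ r : ℕ, r.Prime → r ∈ σ → ¬ r ∣ Nat.card K := fun r hr hrσ h => by
    haveI := Fact.mk hr
    refine hr.ne_one (Nat.eq_one_of_dvd_coprimes (hcompl r hrσ) (h.trans ?_) dvd_rfl)
    exact Subgroup.card_dvd_of_le (iInf_le _ (⟨r, hr, hrσ⟩ : {p : ℕ // p.Prime ∧ p ∈ σ}))
  have hKτ : ∀ r : ℕ, r.Prime → r ∈ τ → ¬ r ∣ K.index := fun r hr hrτ h => by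
    haveI := Fact.mk hr
    obtain ⟨P⟩ := (inferInstance : Nonempty (Sylow r U))
    refine P.not_dvd_index (h.trans (Subgroup.index_dvd_of_le fun y hy => ?_))
    refine Subgroup.mem_iInf.2 fun p => ?_
    haveI := Fact.mk p.2.1
    refine Transfer.NormalPComplement.mem_pResidual_of_coprime ?_
    obtain ⟨k, hk⟩ := IsPGroup.iff_orderOf.1 P.2 ⟨y, hy⟩
    rw [Subgroup.orderOf_mk] at hk
    rw [hk]
    exact Nat.Coprime.pow_left _ ((Nat.coprime_primes hr p.2.1).2 fun e =>
      hdis p.1 p.2.2 (e ▸ hrτ))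
  have hKπ : ∀ r : ℕ, r.Prime → r ∣ Nat.card K → r ∈ τ := fun r hr h =>
    (hU r hr (h.trans K.card_subgroup_dvd_card)).resolve_left fun hrσ => hKσ r hr hrσ h
  have hKiπ : ∀ r : ℕ, r.Prime → r ∣ K.index → r ∈ σ := fun r hr h =>
    (hU r hr (h.trans K.index_dvd_card)).resolve_right fun hrτ => hKτ r hr hrτ h
  obtain ⟨S, hS⟩ := Subgroup.exists_right_complement'_of_coprime (N := K)
    (Nat.coprime_of_dvd fun r hr h1 h2 => hdis r (hKiπ r hr h2) (hKπ r hr h1))
  -- a conjugate of `Ht` contains `K`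
  set KG := K.map U.subtype
  have hKG : Cfsg.IsPiSubgroup τ KG := fun r hr h =>
    hKπ r hr (by rwa [Subgroup.card_map_of_injective U.subtype_injective] at h)
  have hmax : Maximal (Cfsg.IsPiSubgroup τ) Ht :=
    ⟨ht, fun V hV hle => (Hall.isPiHall_eq_of_le ⟨ht, htHall⟩ hV hle).ge⟩
  obtain ⟨M, hKM, hM⟩ := (Set.toFinite {V : Subgroup G | Cfsg.IsPiSubgroup τ V}).exists_le_maximal
    (show KG ∈ {V : Subgroup G | Cfsg.IsPiSubgroup τ V} from hKG)
  obtain ⟨g, rfl⟩ := hD Ht M hmax hM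
  rw [← conj_smul_eq_map] at hKM
  set C := Subgroup.centralizer (KG : Set G)
  set H' := MulAut.conj g • Hs with hH'
  have hH'C : H' ≤ C := (commute_conj_smul hcomm g).trans (Subgroup.centralizer_le hKM)
  have hUN : U ≤ Subgroup.normalizer (KG : Set G) := by
    refine (Subgroup.normal_subgroupOf_iff_le_normalizer (Subgroup.map_subtype_le K)).1 ?_
    rw [Subgroup.subgroupOf, Subgroup.comap_map_eq_self_of_injective U.subtype_injective]
    exact hKn
  have hSσ : ∀ r : ℕ, r.Prime → r ∣ Nat.card S → r ∈ σ := fun r hr h =>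
    hKiπ r hr (hS.symm.index_eq_card ▸ h)
  have hSC : S.map U.subtype ≤ C := by
    rintro _ ⟨y, hy, rfl⟩
    refine mem_centralizer_of_not_dvd_index KG (hUN y.2) fun r hr hry hrC => ?_
    refine hsHall r hr (hSσ r hr ?_) ?_
    · rw [Subgroup.coe_subtype, Subgroup.orderOf_coe, ← Subgroup.orderOf_mk y hy] at hry
      exact hry.trans (orderOf_dvd_natCard _)
    · rw [← index_conj_smul g]
      exact hrC.trans (Subgroup.index_dvd_of_le hH'C)
  haveI : Group.IsNilpotent H' :=
    Group.nilpotent_of_mulEquiv (Subgroup.equivSMul (MulAut.conj g) Hs)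
  obtain ⟨c, hc⟩ := WielandtHall.le_conj_nilpotent_hall _ C (H'.subgroupOf C) rfl
    (Group.nilpotent_of_mulEquiv (Subgroup.subgroupOfEquivOfLe hH'C).symm) (by
      rw [Nat.card_congr (Subgroup.subgroupOfEquivOfLe hH'C).toEquiv, hH', card_conj_smul]
      refine hscop.coprime_dvd_right ?_
      rw [← index_conj_smul g]
      exact Dvd.intro _ (Subgroup.relIndex_mul_index hH'C))
    ((S.map U.subtype).subgroupOf C) fun r hr h => by
      rw [Nat.card_congr (Subgroup.subgroupOfEquivOfLe hSC).toEquiv,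
        Subgroup.card_map_of_injective U.subtype_injective] at h
      rw [Nat.card_congr (Subgroup.subgroupOfEquivOfLe hH'C).toEquiv, hH', card_conj_smul]
      refine hdvd r hr (hSσ r hr h) ?_
      exact h.trans (S.card_subgroup_dvd_card.trans U.card_subgroup_dvd_card)
  refine ⟨(c : G) * g, ?_⟩
  rw [conj_smul_mul]
  calc U = KG ⊔ S.map U.subtype := by
        rw [← Subgroup.map_sup, hS.sup_eq_top, ← MonoidHom.range_eq_map, Subgroup.range_subtype]
    _ ≤ _ := sup_le ?_ ?_
  · intro k hk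
    have hck : (c : G)⁻¹ * k * c = k := by
      rw [mul_assoc, show k * (c : G) = c * k from c.2 k hk, inv_mul_cancel_left]
    rw [mem_conj_smul, hck]
    refine Subgroup.pointwise_smul_le_pointwise_smul_iff.2 ?_ (hKM hk)
    exact le_sup_right.trans hjoin.le
  · intro s hs'
    have h1 := hc (show (⟨s, hSC hs'⟩ : C) ∈ (S.map U.subtype).subgroupOf C from hs')
    rw [mem_conj_smul, Subgroup.mem_subgroupOf] at h1
    rw [mem_conj_smul]
    refine Subgroup.pointwise_smul_le_pointwise_smul_iff.2 ?_ h1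
    exact le_sup_left.trans hjoin.le

/-- The `D_π`-property. -/
theorem isDPiGroup (hd : Disjoint σ τ) (hH : Cfsg.IsPiHall (σ ∪ τ) H)
    (hs : Cfsg.IsPiSubgroup σ Hs) (ht : Cfsg.IsPiSubgroup τ Ht) (hsn : Group.IsNilpotent Hs)
    (hjoin : Hs ⊔ Ht = H) (hcomm : ∀ a ∈ Hs, ∀ b ∈ Ht, a * b = b * a)
    (hD : Cfsg.IsDPiGroup τ G) : Cfsg.IsDPiGroup (σ ∪ τ) G := by
  intro A B hA hB
  have h : ∀ V : Subgroup G, Maximal (Cfsg.IsPiSubgroup (σ ∪ τ)) V →
      ∃ g : G, V = MulAut.conj g • H := fun V hV => by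
    obtain ⟨g, hg⟩ := exists_le_conj σ τ H Hs Ht hd hH hs ht hsn hjoin hcomm hD V hV.prop
    exact ⟨g, le_antisymm hg (hV.2 (Hall.isPi_conj_smul hH.1 g) hg)⟩
  obtain ⟨a, rfl⟩ := h A hA
  obtain ⟨b, rfl⟩ := h B hB
  exact ⟨b * a⁻¹, by rw [← conj_smul_eq_map, ← conj_smul_mul, inv_mul_cancel_right]⟩

end

end Cfsg.Agent.SolvStruct.HallDPi
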