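import Mathlib
import Cfsg.Agent.Lib.Involutions.AltSylowNormalizer

/-!
# Elements of symmetric groups lying in a unique Sylow 2-subgroup
-/

set_option autoImplicit false
set_option linter.unusedSectionVars false

namespace Cfsg.Agent.SolvStruct.UniqueSylowPerm

open Equiv Function
open Cfsg.Agent.Involutions.AltSylowNormalizer
open Cfsg.Agent.Involutions.AltUniqueMax

variable {α : Type*} [Fintype α] [DecidableEq α]

/-- An involutive permutation with at most one fixed point. -/
def IsPairing (π : Perm α) : Prop :=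
  (∀ a, π (π a) = a) ∧ ∀ a b, π a = a → π b = b → a = b

theorem two_transitive (a b c d : α) (hab : a ≠ b) (hcd : c ≠ d) :
    ∃ g ∈ (MonoidHom.id (Perm α)).range, g a = c ∧ g b = d := by
  refine ⟨swap (swap a c b) d * swap a c, ⟨_, rfl⟩, ?_, ?_⟩
  · rw [Perm.mul_apply, swap_apply_left, swap_apply_of_ne_of_ne ?_ hcd]
    intro h
    exact hab ((swap a c).injective ((swap_apply_left a c).trans h))
  · rw [Perm.mul_apply, swap_apply_left]

theorem swap_respects {π : Perm α} (hπ : ∀ a, π (π a) = a) (a b : α) :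
    swap a (π a) b = b ∨ swap a (π a) b = π b := by
  by_cases h1 : b = a
  · subst h1; exact Or.inr (swap_apply_left _ _)
  by_cases h2 : b = π a
  · subst h2; exact Or.inr (by rw [swap_apply_right, hπ])
  exact Or.inl (swap_apply_of_ne_of_ne h1 h2)

theorem mul_comm_apply {f g : Perm α} (h : f * g = g * f) (a : α) : f (g a) = g (f a) :=
  Equiv.congr_fun h a

/-- A pairing is determined by the transpositions of its pairs among those commuting with them. -/
theorem pairing_eq {π π' : Perm α} (hπ : IsPairing π) (hπ' : IsPairing π')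
    (h : ∀ a, swap a (π a) * π' = π' * swap a (π a)) : π' = π := by
  have hmoved : ∀ a, π a ≠ a → π' a = π a := by
    intro a ha
    have h1 := mul_comm_apply (h a) a
    rw [swap_apply_left] at h1
    by_cases h2 : π' a = a
    · rw [h2, swap_apply_left] at h1
      exact absurd (hπ'.2 _ _ h2 h1.symm).symm ha
    by_contra h3
    rw [swap_apply_of_ne_of_ne h2 h3] at h1
    exact ha (π'.injective h1).symm
  refine Equiv.ext fun a => ?_
  by_cases ha : π a = a
  · rw [ha]
    by_contra hb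
    have hb' : π (π' a) ≠ π' a := fun e => hb (hπ.2 _ _ e ha)
    have h1 := hmoved _ hb'
    rw [hπ'.1] at h1
    have h2 : π' a = a := by
      conv_rhs => rw [← ha]
      rw [show π a = π (π (π' a)) by rw [← h1], hπ.1]
    exact hb h2
  · exact hmoved a ha

theorem swap_mem {π : Perm α} (hπ : ∀ a, π (π a) = a) (P : Sylow 2 (Perm α))
    (hc : ∀ r ∈ (P : Subgroup (Perm α)), r * π = π * r) (a : α) :
    swap a (π a) ∈ (P : Subgroup (Perm α)) :=
  mem_of_respects_pairs (ι := MonoidHom.id _) Function.injective_id P hπ hc (swap_respects hπ a)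

theorem exists_pairing_sylow (P : Sylow 2 (Perm α)) :
    ∃ π, IsPairing π ∧ ∀ r ∈ (P : Subgroup (Perm α)), r * π = π * r := by
  obtain ⟨π, hπ, hπf, hπc, -⟩ := exists_pairing' P.2
  exact ⟨π, ⟨hπ, fun a b ha hb => fixed_unique (ι := MonoidHom.id _) two_transitive P ((hπf a).1 ha) ((hπf b).1 hb)⟩, hπc⟩

theorem exists_sylow_of_pairing {x π : Perm α} (hx : IsPGroup 2 (Subgroup.zpowers x)) (hπ : IsPairing π)
    (hc : x * π = π * x) :
    ∃ P : Sylow 2 (Perm α), x ∈ P ∧ ∀ r ∈ (P : Subgroup (Perm α)), r * π = π * r := by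
  haveI : Fact (Nat.Prime 2) := ⟨Nat.prime_two⟩
  let C : Subgroup (Perm α) := Subgroup.centralizer ({π} : Set (Perm α))
  have hxC : x ∈ C := Subgroup.mem_centralizer_singleton_iff.2 hc
  obtain ⟨T, hT⟩ := (hx.comap_subtype (K := C)).exists_le_sylow
  obtain ⟨P, hP⟩ := (T.2.map C.subtype).exists_le_sylow
  obtain ⟨π', hπ', hc'⟩ := exists_pairing_sylow P
  have e : π' = π := by
    refine pairing_eq hπ hπ' fun a => hc' _ (hP ?_)
    have hsC : swap a (π a) ∈ C := Subgroup.mem_centralizer_singleton_iff.2 (by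
      rw [Equiv.mul_swap_eq_swap_mul π, hπ.1, swap_comm])
    refine ⟨⟨_, hsC⟩, ?_, rfl⟩
    exact mem_of_respects_pairs (ι := C.subtype) C.subtype_injective T hπ.1
      (fun r _ => Subgroup.mem_centralizer_singleton_iff.1 r.2) (γ := ⟨_, hsC⟩) (swap_respects hπ.1 a)
  refine ⟨P, hP ⟨⟨x, hxC⟩, hT ?_, rfl⟩, e ▸ hc'⟩
  exact Subgroup.mem_zpowers x

/-- The period of a point. -/
noncomputable def per (x : Perm α) (a : α) : ℕ := minimalPeriod x a

theorem pow_apply_eq_iff (x : Perm α) (a : α) (i : ℕ) : (x ^ i) a = a ↔ per x a ∣ i := by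
  rw [Perm.coe_pow]
  exact isPeriodicPt_iff_minimalPeriod_dvd

theorem per_two_pow {x : Perm α} {k : ℕ} (hk : orderOf x = 2 ^ k) (a : α) : ∃ l, per x a = 2 ^ l := by
  have h := (pow_apply_eq_iff x a (2 ^ k)).1 (by rw [← hk, pow_orderOf_eq_one]; rfl)
  obtain ⟨l, -, hl⟩ := (Nat.dvd_prime_pow Nat.prime_two).1 h
  exact ⟨l, hl⟩

theorem per_half {x : Perm α} {k : ℕ} (hk : orderOf x = 2 ^ k) {a : α} (ha : x a ≠ a) :
    ∃ m, 1 ≤ m ∧ per x a = 2 * m := by
  obtain ⟨l, hl⟩ := per_two_pow hk a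
  rcases Nat.eq_zero_or_pos l with rfl | hl0
  · exfalso
    refine ha ?_
    have := (pow_apply_eq_iff x a 1).2 (by rw [hl]; exact dvd_rfl)
    rwa [pow_one] at this
  · obtain ⟨j, rfl⟩ : ∃ j, l = j + 1 := ⟨l - 1, by omega⟩
    exact ⟨2 ^ j, Nat.one_le_two_pow, by rw [hl, pow_succ']⟩

theorem pow_apply_apply (x : Perm α) (i j : ℕ) (a : α) : (x ^ i) ((x ^ j) a) = (x ^ (i + j)) a := by
  rw [pow_add, Perm.mul_apply]

theorem commute_pow {x π : Perm α} (hc : x * π = π * x) (i : ℕ) (a : α) :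
    (x ^ i) (π a) = π ((x ^ i) a) :=
  mul_comm_apply ((Commute.pow_left (show Commute x π from hc) i).eq) a

theorem per_apply_of_comm {x π : Perm α} (hc : x * π = π * x) (a : α) : per x (π a) = per x a := by
  refine Nat.dvd_antisymm ?_ ?_
  · rw [← pow_apply_eq_iff, commute_pow hc, (pow_apply_eq_iff x a _).2 dvd_rfl]
  · rw [← pow_apply_eq_iff]
    have h := (pow_apply_eq_iff x (π a) (per x (π a))).2 dvd_rfl
    rw [commute_pow hc] at h
    exact π.injective h

/-- The criterion, stated with periods. -/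
def Cond (x : Perm α) : Prop :=
  (∀ a b c, x a = a → x b = b → x c = c → a = b ∨ a = c ∨ b = c) ∧
    ∀ a b, x a ≠ a → x b ≠ b → per x a = per x b → ∃ i : ℕ, (x ^ i) a = b

/-- In a pairing commuting with `x`, a moved point is paired with its half-turn. -/
theorem pairing_moved {x π : Perm α} {k : ℕ} (hk : orderOf x = 2 ^ k) (hx : Cond x) (hπ : IsPairing π)
    (hc : x * π = π * x) {a : α} (ha : x a ≠ a) : π a = (x ^ (per x a / 2)) a := by
  have hpa : x (π a) ≠ π a := fun e => ha (π.injective ((mul_comm_apply hc a).symm.trans e))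
  obtain ⟨i, hi⟩ := hx.2 a (π a) ha hpa (per_apply_of_comm hc a).symm
  have hne : π a ≠ a := fun e => ha (hπ.2 _ _ (by rw [← mul_comm_apply hc, e]) e)
  have h2 : (x ^ (i + i)) a = a := by
    rw [← pow_apply_apply, hi, commute_pow hc, hi, hπ.1]
  obtain ⟨m, hm, hpm⟩ := per_half hk ha
  have hdiv := (pow_apply_eq_iff x a _).1 h2
  rw [hpm, ← two_mul] at hdiv
  obtain ⟨c, hc'⟩ := Nat.dvd_of_mul_dvd_mul_left (by norm_num) hdiv
  rw [hpm, show 2 * m / 2 = m by omega, ← hi]
  rcases Nat.even_or_odd c with ⟨d, hd⟩ | ⟨d, hd⟩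
  · exfalso
    refine hne (hi.symm.trans ((pow_apply_eq_iff x a i).2 ?_))
    rw [hpm, hc', hd]
    exact ⟨d, by ring⟩
  · rw [show i = m + 2 * m * d by rw [hc', hd]; ring, pow_add, Perm.mul_apply,
      (pow_apply_eq_iff x a (2 * m * d)).2 (by rw [hpm]; exact dvd_mul_right _ _)]

theorem pairing_unique {x π π' : Perm α} {k : ℕ} (hk : orderOf x = 2 ^ k) (hx : Cond x)
    (hπ : IsPairing π) (hπ' : IsPairing π') (hc : x * π = π * x) (hc' : x * π' = π' * x) : π = π' := by
  have hfix : ∀ {ρ : Perm α}, x * ρ = ρ * x → ∀ b, x b = b → x (ρ b) = ρ b :=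
    fun hρ b hb => by rw [mul_comm_apply hρ, hb]
  refine Equiv.ext fun a => ?_
  by_cases ha : x a = a
  · have key : ∀ {ρ ρ' : Perm α}, IsPairing ρ → IsPairing ρ' → x * ρ = ρ * x → x * ρ' = ρ' * x →
        ρ a = a → ρ' a = a := by
      intro ρ ρ' hρ hρ' hcρ hcρ' h
      by_contra hne
      have hb := hfix hcρ' a ha
      have hρb : ρ (ρ' a) ≠ ρ' a := fun e => hne (hρ.2 _ _ e h)
      rcases hx.1 a (ρ' a) (ρ (ρ' a)) ha hb (hfix hcρ _ hb) with e | e | e
      · exact hne e.symm
      · have : ρ a = ρ' a := (congrArg ρ e).trans (hρ.1 _)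
        exact hne (this.symm.trans h)
      · exact hρb e.symm
    by_cases h1 : π a = a
    · rw [h1, key hπ hπ' hc hc' h1]
    · have h2 : π' a ≠ a := fun h => h1 (key hπ' hπ hc' hc h)
      rcases hx.1 a (π a) (π' a) ha (hfix hc a ha) (hfix hc' a ha) with e | e | e
      · exact absurd e.symm h1
      · exact absurd e.symm h2
      · exact e
  · rw [pairing_moved hk hx hπ hc ha, pairing_moved hk hx hπ' hc' ha]

/-- A Sylow subgroup containing `x` is determined by its pairing and its image on the pairs. -/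
theorem unique_of_cond : ∀ (n : ℕ) (β : Type) [Fintype β] [DecidableEq β], Fintype.card β = n →
    ∀ (x : Perm β) (k : ℕ), orderOf x = 2 ^ k → Cond x →
      ∀ P P' : Sylow 2 (Perm β), x ∈ P → x ∈ P' → P = P' := by
  intro n
  induction n using Nat.strong_induction_on with
  | _ n ih =>
  intro β _ _ hn x k hk hx P P' hP hP'
  classical
  haveI : Fact (Nat.Prime 2) := ⟨Nat.prime_two⟩
  obtain ⟨π, hπ, hc⟩ := exists_pairing_sylow P
  obtain ⟨π', hπ', hc'⟩ := exists_pairing_sylow P'
  have e := pairing_unique hk hx hπ hπ' (hc x hP) (hc' x hP')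
  subst e
  rcases subsingleton_or_nontrivial β with hβ | hβ
  · exact Sylow.ext (Subsingleton.elim _ _)
  let em : β ↪ ℕ := (Fintype.equivFin β).toEmbedding.trans Fin.valEmbedding
  have hPC : (P : Subgroup (Perm β)) ≤ Subgroup.centralizer ({π} : Set (Perm β)) :=
    fun r hr => Subgroup.mem_centralizer_singleton_iff.2 (hc r hr)
  have hPC' : (P' : Subgroup (Perm β)) ≤ Subgroup.centralizer ({π} : Set (Perm β)) :=
    fun r hr => Subgroup.mem_centralizer_singleton_iff.2 (hc' r hr)
  let C := Subgroup.centralizer ({π} : Set (Perm β))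
  let φ : C →* Perm (Pair π em) := onPairs hπ.1 em
  have hsurj : Function.Surjective φ := by
    intro σ
    obtain ⟨c, hcc, hcσ⟩ := exists_lift hπ.1 em σ
    exact ⟨⟨c, Subgroup.mem_centralizer_singleton_iff.2 hcc⟩, Equiv.ext fun b => Subtype.ext (hcσ b)⟩
  obtain ⟨a₀, ha₀⟩ : ∃ a, π a ≠ a := by
    by_contra! h
    obtain ⟨u, v, huv⟩ := exists_pair_ne β
    exact huv (hπ.2 u v (h u) (h v))
  have hlt : Fintype.card (Pair π em) < n := by
    rw [← hn]
    exact Fintype.card_subtype_lt (p := fun a => em a < em (π a)) (x := π (rep π em a₀))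
      (by rw [hπ.1]; exact not_lt.2 (rep_lt hπ.1 em ha₀).le)
  have hxC : x ∈ C := hPC hP
  -- the action of `x` on the pairs
  have hxpow : ∀ (i : ℕ) (b : Pair π em), ((φ ⟨x, hxC⟩ ^ i) b).1 = rep π em ((x ^ i) b.1) := by
    intro i b
    rw [← map_pow]
    rfl
  have hiff : ∀ (i : ℕ) (b : Pair π em),
      (φ ⟨x, hxC⟩ ^ i) b = b ↔ (x ^ i) b.1 = b.1 ∨ (x ^ i) b.1 = π b.1 := by
    intro i b
    rw [Subtype.ext_iff, hxpow]
    constructor
    · intro h
      rcases rep_eq π em ((x ^ i) b.1) with e | e <;> rw [e] at h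
      · exact Or.inl h
      · exact Or.inr ((hπ.1 _).symm.trans (congrArg π h))
    · rintro (h | h) <;> rw [h]
      · exact rep_self π em b.2
      · rw [rep_pi hπ.1, rep_self π em b.2]
  have hperiod : ∀ (b : Pair π em) (i : ℕ), x b.1 ≠ b.1 →
      ((φ ⟨x, hxC⟩ ^ i) b = b ↔ per x b.1 ∣ 2 * i) := by
    intro b i hb
    obtain ⟨m, hm, hpm⟩ := per_half hk hb
    have hπb := pairing_moved hk hx hπ (hc x hP) hb
    rw [hpm, show 2 * m / 2 = m by omega] at hπb
    rw [hiff, hpm]
    constructor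
    · rintro (h | h)
      · exact ((hpm ▸ (pow_apply_eq_iff x _ _).1 h)).trans (dvd_mul_left i 2)
      · have h2 : (x ^ (i + i)) b.1 = b.1 := by
          rw [← pow_apply_apply, h, commute_pow (hc x hP), h, hπ.1]
        rw [two_mul i]
        exact hpm ▸ (pow_apply_eq_iff x _ _).1 h2
    · intro h
      obtain ⟨c, rfl⟩ := Nat.dvd_of_mul_dvd_mul_left (by norm_num) h
      rcases Nat.even_or_odd c with ⟨d, hd⟩ | ⟨d, hd⟩
      · left
        rw [pow_apply_eq_iff, hpm, hd]
        exact ⟨d, by ring⟩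
      · right
        rw [hπb, show m * c = m + 2 * m * d by rw [hd]; ring, pow_add, Perm.mul_apply,
          (pow_apply_eq_iff x b.1 (2 * m * d)).2 (by rw [hpm]; exact dvd_mul_right _ _)]
  have hcond : Cond (φ ⟨x, hxC⟩) := by
    refine ⟨?_, ?_⟩
    · -- two fixed pairs of the same kind coincide
      have same : ∀ b b' : Pair π em, φ ⟨x, hxC⟩ b = b → φ ⟨x, hxC⟩ b' = b' →
          (x b.1 = b.1 ↔ x b'.1 = b'.1) → b = b' := by
        intro b b' hb hb' hkind
        by_cases hfx : x b.1 = b.1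
        · have hfx' := hkind.1 hfx
          have hfb : x (π b.1) = π b.1 := by rw [mul_comm_apply (hc x hP), hfx]
          rcases hx.1 b.1 b'.1 (π b.1) hfx hfx' hfb with e | e | e
          · exact Subtype.ext e
          · exact absurd e.symm (pair_moves b)
          · exfalso
            have h1 := b'.2
            rw [e, hπ.1] at h1
            exact lt_asymm h1 b.2
        · have hfx' : x b'.1 ≠ b'.1 := fun h => hfx (hkind.2 h)
          have hp : ∀ u : Pair π em, φ ⟨x, hxC⟩ u = u → x u.1 ≠ u.1 → per x u.1 = 2 := by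
            intro u hu hu'
            have h := (hperiod u 1 hu').1 (by rw [pow_one]; exact hu)
            obtain ⟨m, hm, hpm⟩ := per_half hk hu'
            have h3 := Nat.le_of_dvd (by norm_num) h
            omega
          obtain ⟨i, hi⟩ := hx.2 b.1 b'.1 hfx hfx' ((hp b hb hfx).trans (hp b' hb' hfx').symm)
          have h1 : (φ ⟨x, hxC⟩ ^ i) b = b' := Subtype.ext (by rw [hxpow, hi, rep_self π em b'.2])
          rw [← h1, Perm.coe_pow, Function.iterate_fixed hb]
      intro a b c ha hb hc3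
      by_cases h1 : x a.1 = a.1 <;> by_cases h2 : x b.1 = b.1 <;> by_cases h3 : x c.1 = c.1
      all_goals first
        | exact Or.inl (same a b ha hb ⟨fun _ => ‹_›, fun _ => ‹_›⟩)
        | exact Or.inr (Or.inl (same a c ha hc3 ⟨fun _ => ‹_›, fun _ => ‹_›⟩))
        | exact Or.inr (Or.inr (same b c hb hc3 ⟨fun _ => ‹_›, fun _ => ‹_›⟩))
        | exact Or.inl (same a b ha hb ⟨fun h => absurd h h1, fun h => absurd h h2⟩)
        | exact Or.inr (Or.inl (same a c ha hc3 ⟨fun h => absurd h h1, fun h => absurd h h3⟩))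
        | exact Or.inr (Or.inr (same b c hb hc3 ⟨fun h => absurd h h2, fun h => absurd h h3⟩))
    · intro b b' hb hb' hper
      have hmv : ∀ u : Pair π em, φ ⟨x, hxC⟩ u ≠ u → x u.1 ≠ u.1 := fun u hu h =>
        hu (by rw [← pow_one (φ ⟨x, hxC⟩), hiff, pow_one]; exact Or.inl h)
      have hb1 := hmv b hb
      have hb1' := hmv b' hb'
      obtain ⟨m, hm, hpm⟩ := per_half hk hb1
      obtain ⟨m', hm', hpm'⟩ := per_half hk hb1'
      have hsame : per x b.1 = per x b'.1 := by
        have h1 : per x b'.1 ∣ 2 * m := by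
          rw [← hperiod b' m hb1', pow_apply_eq_iff, ← hper, ← pow_apply_eq_iff, hperiod b m hb1, hpm]
        have h2 : per x b.1 ∣ 2 * m' := by
          rw [← hperiod b m' hb1, pow_apply_eq_iff, hper, ← pow_apply_eq_iff, hperiod b' m' hb1', hpm']
        rw [hpm'] at h1
        rw [hpm] at h2
        rw [hpm, hpm']
        exact Nat.dvd_antisymm h2 h1
      obtain ⟨i, hi⟩ := hx.2 b.1 b'.1 hb1 hb1' hsame
      exact ⟨i, Subtype.ext (by rw [hxpow, hi, rep_self π em b'.2])⟩
  obtain ⟨k', -, hk'⟩ := (Nat.dvd_prime_pow Nat.prime_two).1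
    (show orderOf (φ ⟨x, hxC⟩) ∣ 2 ^ k from hk ▸ (orderOf_map_dvd φ _).trans (by rw [← Subgroup.orderOf_coe]))
  have himg := ih _ hlt (Pair π em) rfl (φ ⟨x, hxC⟩) k' hk' hcond
    ((P.subtype hPC).mapSurjective hsurj) ((P'.subtype hPC').mapSurjective hsurj)
    (by
      show _ ∈ (((P.subtype hPC).mapSurjective hsurj : Sylow 2 (Perm (Pair π em))) : Subgroup (Perm (Pair π em)))
      rw [Sylow.coe_mapSurjective]
      exact ⟨⟨x, hxC⟩, hP, rfl⟩)
    (by
      show _ ∈ (((P'.subtype hPC').mapSurjective hsurj : Sylow 2 (Perm (Pair π em))) : Subgroup (Perm (Pair π em)))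
      rw [Sylow.coe_mapSurjective]
      exact ⟨⟨x, hxC⟩, hP', rfl⟩)
  refine Sylow.ext (P'.3 P.2 ?_)
  intro r' hr'
  have h1 : φ ⟨r', hPC' hr'⟩ ∈ ((P'.subtype hPC').mapSurjective hsurj : Subgroup (Perm (Pair π em))) := by
    rw [Sylow.coe_mapSurjective]
    exact ⟨⟨r', hPC' hr'⟩, hr', rfl⟩
  rw [← himg, Sylow.coe_mapSurjective] at h1
  obtain ⟨r, hr, he⟩ := h1
  have hker : φ (r⁻¹ * ⟨r', hPC' hr'⟩) = 1 := by rw [map_mul, map_inv, he, inv_mul_cancel]
  have hmem : ((r⁻¹ * ⟨r', hPC' hr'⟩ : C) : Perm β) ∈ (P : Subgroup (Perm β)) := by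
    refine mem_of_respects_pairs (ι := MonoidHom.id _) Function.injective_id P hπ.1 hc fun a => ?_
    set c : C := r⁻¹ * ⟨r', hPC' hr'⟩
    have hcc : (c : Perm β) * π = π * c := Subgroup.mem_centralizer_singleton_iff.1 c.2
    show (c : Perm β) a = a ∨ (c : Perm β) a = π a
    by_cases ha : π a = a
    · exact Or.inl (hπ.2 _ _ (by rw [← mul_comm_apply hcc, ha]) ha)
    have h2 := congrArg (fun σ : Perm (Pair π em) => (σ ⟨_, rep_lt hπ.1 em ha⟩).1) hker
    simp only [Perm.one_apply] at h2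
    change rep π em ((c : Perm β) (rep π em a)) = rep π em a at h2
    rw [rep_apply_rep hπ.1 em hcc] at h2
    rcases rep_eq π em ((c : Perm β) a) with h | h <;> rcases rep_eq π em a with h' | h' <;>
      rw [h, h'] at h2
    · exact Or.inl h2
    · exact Or.inr h2
    · exact Or.inr (by rw [← hπ.1 ((c : Perm β) a), h2])
    · exact Or.inl (π.injective h2)
  have hr2 : (r : Perm β) ∈ (P : Subgroup (Perm β)) := hr
  have := mul_mem hr2 hmem
  simpa using this

/-- A failure of the criterion gives two Sylow subgroups. -/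
theorem cond_of_unique {β : Type*} [Fintype β] [DecidableEq β] (x : Perm β) (k : ℕ) (hk : orderOf x = 2 ^ k)
    (hu : ∀ P P' : Sylow 2 (Perm β), x ∈ P → x ∈ P' → P = P') : Cond x := by
  classical
  haveI : Fact (Nat.Prime 2) := ⟨Nat.prime_two⟩
  have hxp : IsPGroup 2 (Subgroup.zpowers x) := IsPGroup.of_card (n := k) (by rw [Nat.card_zpowers, hk])
  obtain ⟨P, hP⟩ := hxp.exists_le_sylow
  have hxP : x ∈ P := hP (Subgroup.mem_zpowers x)
  have hfix : ∀ a b c, x a = a → x b = b → x c = c → a = b ∨ a = c ∨ b = c := by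
    intro a b c ha hb hc
    by_contra hne
    push Not at hne
    obtain ⟨hab, hac, hbc⟩ := hne
    let y : Perm β := swap a b * swap a c
    have hy : y.IsThreeCycle := Perm.isThreeCycle_swap_mul_swap_same hab hac hbc
    have hyx : y * x = x * y := by
      have h1 : ∀ u v, x u = u → x v = v → swap u v * x = x * swap u v := fun u v hu hv => by
        rw [Equiv.mul_swap_eq_swap_mul x, hu, hv]
      show swap a b * swap a c * x = x * (swap a b * swap a c)
      rw [mul_assoc, h1 a c ha hc, ← mul_assoc, h1 a b ha hb, mul_assoc]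
    have hyP : y • P = P := by
      refine hu _ _ ?_ hxP
      show x ∈ ((y • P : Sylow 2 (Perm β)) : Subgroup (Perm β))
      rw [Sylow.coe_subgroup_smul]
      exact ⟨x, hxP, by simp [MulAut.smul_def, hyx]⟩
    have h1 := perm_eq_one _ β rfl P y (by rw [hy.orderOf]; decide) fun r hr =>
      (Subgroup.mem_normalizer_iff.1 (Sylow.smul_eq_iff_mem_normalizer.1 hyP) r).1 hr
    have h2 := hy.orderOf
    rw [h1, orderOf_one] at h2
    omega
  refine ⟨hfix, fun a b ha hb hper => ?_⟩
  by_contra hab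
  push Not at hab
  have hperpow : ∀ (i : ℕ) y, per x ((x ^ i) y) = per x y := fun i y =>
    per_apply_of_comm ((Commute.self_pow x i).eq) y
  -- the half turn
  let h : β → β := fun y =>
    if x y = y then (if h' : ∃ z, x z = z ∧ z ≠ y then h'.choose else y) else (x ^ (per x y / 2)) y
  have hh : ∀ y, h (h y) = y := by
    intro y
    by_cases hy : x y = y
    · by_cases h' : ∃ z, x z = z ∧ z ≠ y
      · have e : h y = h'.choose := by simp only [h, if_pos hy, dif_pos h']
        obtain ⟨hz, hzy⟩ := h'.choose_spec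
        rw [e]
        have h'' : ∃ z, x z = z ∧ z ≠ h'.choose := ⟨y, hy, hzy.symm⟩
        simp only [h, if_pos hz, dif_pos h'']
        obtain ⟨hw, hwz⟩ := h''.choose_spec
        rcases hfix _ _ _ hy hz hw with e | e | e
        · exact absurd e.symm hzy
        · exact e.symm
        · exact absurd e.symm hwz
      · simp only [h, if_pos hy, dif_neg h']
    · obtain ⟨m, hm, hpm⟩ := per_half hk hy
      have e : h y = (x ^ m) y := by simp only [h, if_neg hy, hpm, show 2 * m / 2 = m by omega]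
      have hy' : x ((x ^ m) y) ≠ (x ^ m) y := fun e => hy ((x ^ m).injective
        ((mul_comm_apply (Commute.pow_self x m).eq y).trans e))
      rw [e]
      simp only [h, if_neg hy', hperpow, hpm, show 2 * m / 2 = m by omega]
      rw [pow_apply_apply, ← two_mul, pow_apply_eq_iff, hpm]
  have hhx : ∀ y, h (x y) = x (h y) := by
    intro y
    by_cases hy : x y = y
    · rw [hy]
      have : x (h y) = h y := by
        simp only [h, if_pos hy]
        split_ifs with h'
        · exact h'.choose_spec.1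
        · exact hy
      rw [this]
    · have hy' : x (x y) ≠ x y := fun e => hy (x.injective e)
      have := hperpow 1 y
      rw [pow_one] at this
      simp only [h, if_neg hy, if_neg hy', this]
      exact mul_comm_apply (Commute.pow_self x _).eq y
  have hh1 : ∀ u v, h u = u → h v = v → u = v := by
    have key : ∀ u, h u = u → x u = u ∧ ¬ ∃ z, x z = z ∧ z ≠ u := by
      intro u hu'
      by_cases hy : x u = u
      · refine ⟨hy, fun h' => ?_⟩
        simp only [h, if_pos hy, dif_pos h'] at hu'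
        exact h'.choose_spec.2 hu'
      · exfalso
        obtain ⟨m, hm, hpm⟩ := per_half hk hy
        simp only [h, if_neg hy, hpm, show 2 * m / 2 = m by omega] at hu'
        have h2 := (pow_apply_eq_iff x u m).1 hu'
        rw [hpm] at h2
        have := Nat.le_of_dvd hm h2
        omega
    intro u v hu' hv'
    by_contra huv
    exact (key u hu').2 ⟨v, (key v hv').1, Ne.symm huv⟩
  -- the crossed pairing
  have hcyc : ∀ (i j : ℕ) (u v : β), per x u = per x v → (x ^ i) u = (x ^ j) u → (x ^ i) v = (x ^ j) v := by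
    have H : ∀ (i j : ℕ) (u v : β), i ≤ j → per x u = per x v → (x ^ i) u = (x ^ j) u → (x ^ i) v = (x ^ j) v := by
      intro i j u v hij huv hu'
      obtain ⟨d, rfl⟩ := Nat.exists_eq_add_of_le hij
      rw [pow_add, Perm.mul_apply] at hu'
      have h1 := (pow_apply_eq_iff x u d).1 ((x ^ i).injective hu').symm
      rw [pow_add, Perm.mul_apply, (pow_apply_eq_iff x v d).2 (huv ▸ h1)]
    intro i j u v huv hu'
    rcases le_total i j with hij | hij
    · exact H i j u v hij huv hu'
    · exact (H j i u v hij huv hu'.symm).symm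
  have hdis : ∀ i j : ℕ, (x ^ i) a ≠ (x ^ j) b := by
    intro i j e
    -- move to `b`
    refine hab (per x b * j + i - j) ?_
    have hp : 1 ≤ per x b := by obtain ⟨m, hm, hpm⟩ := per_half hk hb; omega
    have hle : j ≤ per x b * j + i := le_add_right (Nat.le_mul_of_pos_left j hp)
    refine (x ^ j).injective ?_
    rw [pow_apply_apply, show j + (per x b * j + i - j) = per x b * j + i by omega, pow_add, Perm.mul_apply, e,
      pow_apply_apply, add_comm, pow_add, Perm.mul_apply, (pow_apply_eq_iff x b _).2 (dvd_mul_right _ _)]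
  let f : β → β := fun y =>
    if h₁ : ∃ i : ℕ, (x ^ i) a = y then (x ^ h₁.choose) b
    else if h₂ : ∃ i : ℕ, (x ^ i) b = y then (x ^ h₂.choose) a else h y
  have hfa : ∀ i : ℕ, f ((x ^ i) a) = (x ^ i) b := by
    intro i
    have h₁ : ∃ j : ℕ, (x ^ j) a = (x ^ i) a := ⟨i, rfl⟩
    simp only [f, dif_pos h₁]
    exact hcyc _ _ _ _ hper h₁.choose_spec
  have hfb : ∀ i : ℕ, f ((x ^ i) b) = (x ^ i) a := by
    intro i
    have h₂ : ∃ j : ℕ, (x ^ j) b = (x ^ i) b := ⟨i, rfl⟩
    have h₁ : ¬ ∃ j : ℕ, (x ^ j) a = (x ^ i) b := fun ⟨j, hj⟩ => hdis j i hj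
    simp only [f, dif_neg h₁, dif_pos h₂]
    exact hcyc _ _ _ _ hper.symm h₂.choose_spec
  have horb : ∀ (u y : β) (i : ℕ), per x u ≠ 0 → (x ^ i) u = x y → ∃ j : ℕ, (x ^ j) u = y := by
    intro u y i hu0 hi
    refine ⟨i + (per x u - 1), x.injective ?_⟩
    rw [← hi, ← Perm.mul_apply, ← pow_succ', show i + (per x u - 1) + 1 = i + per x u by omega, pow_add,
      Perm.mul_apply, (pow_apply_eq_iff x u _).2 dvd_rfl]
  have hperne : ∀ u, per x u ≠ 0 := fun u => by
    obtain ⟨l, hl⟩ := per_two_pow hk u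
    rw [hl]; exact pow_ne_zero _ two_ne_zero
  have hhorb : ∀ (u y : β), x u ≠ u → (∀ i : ℕ, (x ^ i) u ≠ y) → ∀ i : ℕ, (x ^ i) u ≠ h y := by
    intro u y hu' hy i e
    have hmv : x (h y) ≠ h y := by
      rw [← e]
      intro h3
      exact hu' ((x ^ i).injective ((mul_comm_apply (Commute.pow_self x i).eq u).trans h3))
    have := hh y
    simp only [h] at this
    rw [if_neg hmv] at this
    refine hy (per x (h y) / 2 + i) ?_
    rw [← pow_apply_apply, e]
    exact this
  have hff : ∀ y, f (f y) = y := by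
    intro y
    by_cases h₁ : ∃ i : ℕ, (x ^ i) a = y
    · obtain ⟨i, rfl⟩ := h₁
      rw [hfa, hfb]
    by_cases h₂ : ∃ i : ℕ, (x ^ i) b = y
    · obtain ⟨i, rfl⟩ := h₂
      rw [hfb, hfa]
    have e : f y = h y := by simp only [f, dif_neg h₁, dif_neg h₂]
    rw [e]
    push Not at h₁ h₂
    have h1' : ¬ ∃ i : ℕ, (x ^ i) a = h y := fun ⟨i, hi⟩ => hhorb a y ha h₁ i hi
    have h2' : ¬ ∃ i : ℕ, (x ^ i) b = h y := fun ⟨i, hi⟩ => hhorb b y hb h₂ i hi
    simp only [f, dif_neg h1', dif_neg h2']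
    exact hh y
  have hfx : ∀ y, f (x y) = x (f y) := by
    intro y
    by_cases h₁ : ∃ i : ℕ, (x ^ i) a = y
    · obtain ⟨i, rfl⟩ := h₁
      rw [hfa, ← Perm.mul_apply, ← pow_succ', hfa, pow_succ', Perm.mul_apply]
    by_cases h₂ : ∃ i : ℕ, (x ^ i) b = y
    · obtain ⟨i, rfl⟩ := h₂
      rw [hfb, ← Perm.mul_apply, ← pow_succ', hfb, pow_succ', Perm.mul_apply]
    have h1' : ¬ ∃ i : ℕ, (x ^ i) a = x y := fun ⟨i, hi⟩ => h₁ (horb a y i (hperne a) hi)
    have h2' : ¬ ∃ i : ℕ, (x ^ i) b = x y := fun ⟨i, hi⟩ => h₂ (horb b y i (hperne b) hi)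
    simp only [f, dif_neg h₁, dif_neg h₂, dif_neg h1', dif_neg h2']
    exact hhx y
  have hf1 : ∀ u v, f u = u → f v = v → u = v := by
    have key : ∀ u, f u = u → h u = u := by
      intro u hu'
      by_cases h₁ : ∃ i : ℕ, (x ^ i) a = u
      · obtain ⟨i, rfl⟩ := h₁
        rw [hfa] at hu'
        exact absurd hu'.symm (hdis i i)
      by_cases h₂ : ∃ i : ℕ, (x ^ i) b = u
      · obtain ⟨i, rfl⟩ := h₂
        rw [hfb] at hu'
        exact absurd hu' (hdis i i)
      simpa only [f, dif_neg h₁, dif_neg h₂] using hu'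
    exact fun u v hu' hv' => hh1 u v (key u hu') (key v hv')
  let π₀ : Perm β := Function.Involutive.toPerm h hh
  let π₁ : Perm β := Function.Involutive.toPerm f hff
  obtain ⟨Q₀, hQ₀, hc₀⟩ := exists_sylow_of_pairing hxp (π := π₀) ⟨hh, hh1⟩ (Equiv.ext fun y => (hhx y).symm)
  obtain ⟨Q₁, hQ₁, hc₁⟩ := exists_sylow_of_pairing hxp (π := π₁) ⟨hff, hf1⟩ (Equiv.ext fun y => (hfx y).symm)
  have e := hu Q₀ Q₁ hQ₀ hQ₁
  subst e
  have h01 : π₁ = π₀ := pairing_eq (π := π₀) ⟨hh, hh1⟩ ⟨hff, hf1⟩ fun y => hc₁ _ (swap_mem hh Q₀ hc₀ y)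
  have h2 := Equiv.congr_fun h01 a
  change f a = h a at h2
  have h3 := hfa 0
  simp only [pow_zero, Perm.one_apply] at h3
  rw [h3] at h2
  simp only [h, if_neg ha] at h2
  exact hab _ h2.symm

/-- The criterion in terms of the cycle type. -/
theorem cond_iff (x : Perm α) :
    Cond x ↔ Fintype.card α ≤ x.support.card + 2 ∧ x.cycleType.Nodup := by
  classical
  have hfix : (∀ a b c, x a = a → x b = b → x c = c → a = b ∨ a = c ∨ b = c) ↔
      Fintype.card α ≤ x.support.card + 2 := by
    have hcard : x.supportᶜ.card = Fintype.card α - x.support.card := Finset.card_compl _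
    have hle : x.support.card ≤ Fintype.card α := Finset.card_le_univ _
    constructor
    · intro h
      by_contra hlt
      obtain ⟨a, ha, b, hb, c, hc, hab, hac, hbc⟩ := Finset.two_lt_card.1 (show 2 < x.supportᶜ.card by omega)
      simp only [Finset.mem_compl, Perm.mem_support, not_not] at ha hb hc
      rcases h a b c ha hb hc with e | e | e
      · exact hab e
      · exact hac e
      · exact hbc e
    · intro h a b c ha hb hc
      by_contra hne
      push Not at hne
      have h3 := Finset.two_lt_card.2 (⟨a, by simpa using ha, b, by simpa using hb, c, by simpa using hc, hne.1,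
        hne.2.1, hne.2.2⟩ : ∃ a ∈ x.supportᶜ, ∃ b ∈ x.supportᶜ, ∃ c ∈ x.supportᶜ, a ≠ b ∧ a ≠ c ∧ b ≠ c)
      omega
  have hperc : ∀ a, x a ≠ a → per x a = (x.cycleOf a).support.card := by
    intro a ha
    have hc := x.isCycle_cycleOf ha
    refine Nat.dvd_antisymm ?_ ?_
    · rw [← pow_apply_eq_iff, ← hc.orderOf, ← x.cycleOf_pow_apply_self, pow_orderOf_eq_one]; rfl
    · rw [← hc.orderOf]
      refine orderOf_dvd_of_pow_eq_one ?_
      rw [hc.pow_eq_one_iff' (x := a) (by rwa [x.cycleOf_apply_self])]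
      rw [x.cycleOf_pow_apply_self, pow_apply_eq_iff]
  rw [Cond, hfix, Perm.cycleType_def, Multiset.nodup_map_iff_inj_on x.cycleFactorsFinset.nodup]
  refine and_congr_right fun _ => ⟨fun h c hc d hd hcd => ?_, fun h a b ha hb hab => ?_⟩
  · simp only [Finset.mem_val] at hc hd
    obtain ⟨a, ha⟩ := (Perm.mem_cycleFactorsFinset_iff.1 hc).1.nonempty_support
    obtain ⟨b, hb⟩ := (Perm.mem_cycleFactorsFinset_iff.1 hd).1.nonempty_support
    have hca : c = x.cycleOf a := Perm.cycle_is_cycleOf ha hc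
    have hdb : d = x.cycleOf b := Perm.cycle_is_cycleOf hb hd
    have ha' : x a ≠ a := Perm.mem_support.1 (Perm.mem_cycleFactorsFinset_support_le hc ha)
    have hb' : x b ≠ b := Perm.mem_support.1 (Perm.mem_cycleFactorsFinset_support_le hd hb)
    obtain ⟨i, hi⟩ := h a b ha' hb' (by rw [hperc a ha', hperc b hb', ← hca, ← hdb]; exact hcd)
    rw [hca, hdb]
    exact Perm.SameCycle.cycleOf_eq ⟨(i : ℤ), by rw [zpow_natCast]; exact hi⟩
  · have e := h (x.cycleOf a) (Perm.cycleOf_mem_cycleFactorsFinset_iff.2 (Perm.mem_support.2 ha))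
      (x.cycleOf b) (Perm.cycleOf_mem_cycleFactorsFinset_iff.2 (Perm.mem_support.2 hb))
      (show (x.cycleOf a).support.card = (x.cycleOf b).support.card by rw [← hperc a ha, ← hperc b hb, hab])
    exact ((Perm.sameCycle_iff_cycleOf_eq_of_mem_support (Perm.mem_support.2 ha) (Perm.mem_support.2 hb)).2 e).exists_nat_pow_eq

end Cfsg.Agent.SolvStruct.UniqueSylowPerm
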