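import Mathlib

/-!
# `p`-groups with two class sizes have central quotient of exponent `p`
-/

set_option autoImplicit false

namespace Cfsg.Agent.SolvStruct.TwoClassSizes

variable {P : Type*} [Group P]

/-- The product of the conjugates of `a` by `g ^ i`, `i < n`. -/
theorem mul_pow_eq (a g : P) : ∀ n : ℕ,
    (a * g) ^ n = ((List.range n).map fun i => g ^ i * a * (g ^ i)⁻¹).prod * g ^ n
  | 0 => by simp
  | n + 1 => by
    rw [pow_succ, mul_pow_eq a g n, List.range_succ, List.map_append, List.prod_append]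
    simp only [List.map_cons, List.map_nil, List.prod_cons, List.prod_nil, mul_one]
    group

variable [Finite P] {p a : ℕ} [hp : Fact p.Prime]

theorem pow_mem_center (hP : IsPGroup p P)
    (hcs : ∀ u : P, u ∉ Subgroup.center P → (Subgroup.centralizer ({u} : Set P)).index = p ^ a)
    (x₀ : P) : x₀ ^ p ∈ Subgroup.center P := by
  classical
  by_contra hx₀
  set Z := Subgroup.center P with hZ
  have hcomm : ∀ {u v : P}, v ∈ Subgroup.centralizer ({u} : Set P) → Commute v u :=
    fun h => Subgroup.mem_centralizer_singleton_iff.1 h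
  have hle : ∀ u : P, ∀ n : ℕ,
      Subgroup.centralizer ({u} : Set P) ≤ Subgroup.centralizer ({u ^ n} : Set P) :=
    fun u n v hv => Subgroup.mem_centralizer_singleton_iff.2 ((hcomm hv).pow_right n)
  have hcard : ∀ u : P, u ∉ Z → ∀ v : P, v ∉ Z →
      Subgroup.centralizer ({u} : Set P) ≤ Subgroup.centralizer ({v} : Set P) →
      Subgroup.centralizer ({u} : Set P) = Subgroup.centralizer ({v} : Set P) := by
    intro u hu v hv h
    refine Subgroup.eq_of_le_of_card_ge h (le_of_eq ?_)
    have h1 := (Subgroup.centralizer ({u} : Set P)).card_mul_index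
    rw [← (Subgroup.centralizer ({v} : Set P)).card_mul_index, hcs u hu, hcs v hv] at h1
    exact (Nat.eq_of_mul_eq_mul_right (pow_pos hp.out.pos a) h1).symm
  -- every noncentral element has a noncentral power whose `p`-th power is central
  have hlast : ∀ u : P, u ∉ Z → ∃ n : ℕ, u ^ n ∉ Z ∧ (u ^ n) ^ p ∈ Z ∧
      Subgroup.centralizer ({u} : Set P) = Subgroup.centralizer ({u ^ n} : Set P) := by
    intro u hu
    have hex : ∃ k, u ^ p ^ k ∈ Z := by
      obtain ⟨k, hk⟩ := hP u
      exact ⟨k, hk ▸ one_mem _⟩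
    have h1 : Nat.find hex ≠ 0 := fun h => hu (by simpa [h] using Nat.find_spec hex)
    obtain ⟨k, hk⟩ := Nat.exists_eq_succ_of_ne_zero h1
    have hnot : u ^ p ^ k ∉ Z := Nat.find_min hex (by omega)
    refine ⟨p ^ k, hnot, ?_, hcard u hu _ hnot (hle u _)⟩
    rw [← pow_mul, ← pow_succ]
    simpa [hk] using Nat.find_spec hex
  -- an element of `Z₂` outside `Z`
  have hZtop : Z ≠ ⊤ := fun h => hx₀ (h ▸ Subgroup.mem_top _)
  haveI : Nontrivial (P ⧸ Z) := QuotientGroup.nontrivial_iff.2 hZtop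
  haveI := (hP.to_quotient Z).center_nontrivial
  obtain ⟨⟨cq, hcq⟩, hcq1⟩ := exists_ne (1 : Subgroup.center (P ⧸ Z))
  obtain ⟨c₀, rfl⟩ := QuotientGroup.mk_surjective cq
  have hc₀ : c₀ ∉ Z := fun h => hcq1 (Subtype.ext ((QuotientGroup.eq_one_iff c₀).2 h))
  have hc₀2 : ∀ y : P, y * c₀ * y⁻¹ * c₀⁻¹ ∈ Z := fun y => by
    rw [← QuotientGroup.eq_one_iff]
    simp [Subgroup.mem_center_iff.1 hcq (y : P ⧸ Z)]
  obtain ⟨n₀, hc, hcp, -⟩ := hlast c₀ hc₀
  set c := c₀ ^ n₀
  have hc2 : ∀ y : P, y * c * y⁻¹ * c⁻¹ ∈ Z := fun y => by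
    rw [← QuotientGroup.eq_one_iff]
    have h1 : (c : P ⧸ Z) ∈ Subgroup.center (P ⧸ Z) := by
      rw [QuotientGroup.mk_pow]
      exact pow_mem hcq _
    simp [Subgroup.mem_center_iff.1 h1 (y : P ⧸ Z)]
  set A := Subgroup.centralizer ({c} : Set P) with hA
  -- centralizers of elements with noncentral `p`-th power
  have hx : ∀ x : P, x ^ p ∉ Z → Subgroup.centralizer ({x} : Set P) = A ∧
      ∀ y ∈ A, y ∉ Z → Subgroup.centralizer ({y} : Set P) = A := by
    intro x hxp
    have hxZ : x ∉ Z := fun h => hxp (pow_mem h _)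
    have hxx := hcard x hxZ (x ^ p) hxp (hle x p)
    -- `C(x)` is contained in the centralizer of each of its elements
    have hab : ∀ y, y ∈ Subgroup.centralizer ({x} : Set P) → y ∉ Z →
        Subgroup.centralizer ({y} : Set P) = Subgroup.centralizer ({x} : Set P) := by
      intro y hy hyZ
      obtain ⟨n, hn, hnp, hne⟩ := hlast y hyZ
      set w := y ^ n
      have hwx : Commute w x := (hcomm hy).pow_left n
      have hxwp : (x * w) ^ p = x ^ p * w ^ p := hwx.symm.mul_pow p
      have hxwZ : (x * w) ^ p ∉ Z := by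
        rw [hxwp]
        exact fun h => hxp ((Subgroup.mul_mem_cancel_right _ hnp).1 h)
      have hxwZ' : x * w ∉ Z := fun h => hxwZ (pow_mem h _)
      have h1 : Subgroup.centralizer ({(x * w) ^ p} : Set P) =
          Subgroup.centralizer ({x ^ p} : Set P) := by
        ext v
        simp only [Subgroup.mem_centralizer_singleton_iff]
        rw [hxwp]
        have hz : v * w ^ p = w ^ p * v := Subgroup.mem_center_iff.1 hnp v
        constructor
        · intro h
          refine mul_right_cancel (b := w ^ p) ?_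
          rw [mul_assoc v, h, mul_assoc, ← hz, mul_assoc]
        · intro h
          rw [← mul_assoc, h, mul_assoc, hz, mul_assoc]
      have h2 : Subgroup.centralizer ({x} : Set P) ≤ Subgroup.centralizer ({w} : Set P) := by
        intro v hv
        have h3 : v ∈ Subgroup.centralizer ({x * w} : Set P) := by
          rw [hcard (x * w) hxwZ' _ hxwZ (hle _ p), h1, ← hxx]
          exact hv
        refine Subgroup.mem_centralizer_singleton_iff.2 ?_
        have h4 := (hcomm hv).inv_right.mul_right (hcomm h3)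
        rwa [← mul_assoc, inv_mul_cancel, one_mul] at h4
      rw [hne]
      exact (hcard x hxZ w hn h2).symm
    -- `c` lies in `C(x)`
    have hcx : c ∈ Subgroup.centralizer ({x} : Set P) := by
      rw [hxx]
      refine Subgroup.mem_centralizer_singleton_iff.2 ?_
      set z := x * c * x⁻¹ * c⁻¹ with hz
      have hzc := Subgroup.mem_center_iff.1 (hc2 x)
      have hk : ∀ k : ℕ, x ^ k * c * (x ^ k)⁻¹ = z ^ k * c := by
        intro k
        induction k with
        | zero => simp
        | succ k ih =>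
          calc x ^ (k + 1) * c * (x ^ (k + 1))⁻¹
              = x * (x ^ k * c * (x ^ k)⁻¹) * x⁻¹ := by rw [pow_succ']; group
            _ = x * z ^ k * c * x⁻¹ := by rw [ih, ← mul_assoc]
            _ = z ^ k * x * c * x⁻¹ := by rw [((show Commute x z from hzc x).pow_right k).eq]
            _ = z ^ (k + 1) * c := by rw [pow_succ, hz]; group
      have h1 : z ^ p = 1 := by
        have h2 : (x * c * x⁻¹) ^ p = (z * c) ^ p := by rw [hz]; group
        rw [conj_pow, (show Commute z c from (hzc c).symm).mul_pow,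
          Subgroup.mem_center_iff.1 hcp x, mul_inv_cancel_right] at h2
        exact mul_right_cancel (h2.symm.trans (one_mul _).symm)
      have h2 := hk p
      rw [h1, one_mul, mul_inv_eq_iff_eq_mul] at h2
      exact h2.symm
    have hAx : A = Subgroup.centralizer ({x} : Set P) := hab c hcx hc
    exact ⟨hAx.symm, fun y hy hyZ => by rw [hAx] at hy ⊢; exact hab y hy hyZ⟩
  obtain ⟨hxA, hAy⟩ := hx x₀ hx₀
  have hxA' : x₀ ∈ A := hxA ▸ Subgroup.mem_centralizer_singleton_iff.2 rfl
  have hout : ∀ g : P, g ∉ A → g ^ p ∈ Z := fun g hg => by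
    by_contra h
    exact hg ((hx g h).1 ▸ Subgroup.mem_centralizer_singleton_iff.2 rfl)
  have hAn : ∀ g : P, ∀ y ∈ A, g * y * g⁻¹ ∈ A := by
    intro g y hy
    refine Subgroup.mem_centralizer_singleton_iff.2 ?_
    have h1 := ((hcomm hy).map (MulAut.conj g).toMonoidHom)
    simp only [MulEquiv.coe_toMonoidHom, MulAut.conj_apply] at h1
    set z := g * c * g⁻¹ * c⁻¹ with hz
    have h2 : g * c * g⁻¹ = z * c := by rw [hz]; group
    rw [h2] at h1
    have h3 : Commute (g * y * g⁻¹) z := Subgroup.mem_center_iff.1 (hc2 g) _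
    have h4 := h3.inv_right.mul_right h1
    rwa [inv_mul_cancel_left] at h4
  have hAc : ∀ y ∈ A, ∀ v ∈ A, Commute y v := fun y hy v hv => by
    by_cases hvZ : v ∈ Z
    · exact Subgroup.mem_center_iff.1 hvZ y
    · refine hcomm ?_
      rw [hAy v hv hvZ]; exact hy
  -- two independent elements outside `A` commuting with each other
  have hZA : Z ≤ A := Subgroup.center_le_centralizer _
  obtain ⟨g, hgA⟩ : ∃ g : P, g ∉ A := by
    by_contra h
    push Not at h
    exact hc (Subgroup.mem_center_iff.2 fun y => hcomm (h y))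
  have hgZ : g ∉ Z := fun h => hgA (hZA h)
  set C := Subgroup.centralizer ({g} : Set P) with hC
  have hCA : ∀ y ∈ A, y ∈ C → y ∈ Z := fun y hy hyC => by
    by_contra h
    refine hgA ?_
    rw [← hAy y hy h]
    exact Subgroup.mem_centralizer_singleton_iff.2 (hcomm hyC).symm
  -- an element of `C` outside `Z⟨g⟩`
  obtain ⟨h, hhC, hind⟩ : ∃ h ∈ C, ∀ j : ℕ, g ^ j * h ∉ A := by
    by_contra hcon
    push Not at hcon
    have hcardAC : Nat.card A = Nat.card C := by
      have h1 := A.card_mul_index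
      rw [← C.card_mul_index, hA, hC, hcs c hc, hcs g hgZ] at h1
      exact Nat.eq_of_mul_eq_mul_right (pow_pos hp.out.pos a) h1
    -- `C ⊆ ⋃_{j<p} g^j Z` while `A` contains the `p²` distinct cosets `x₀^j Z`
    have hsub : (C : Set P) ⊆ (fun jz : Fin p × Z => g ^ (jz.1 : ℕ) * jz.2) '' Set.univ := by
      intro v hv
      obtain ⟨j, hj⟩ := hcon v hv
      have hjZ : g ^ j * v ∈ Z := hCA _ hj (mul_mem (pow_mem
        (Subgroup.mem_centralizer_singleton_iff.2 rfl) _) hv)
      have hgp : ∀ m : ℕ, g ^ (p * m) ∈ Z := fun m => by rw [pow_mul]; exact pow_mem (hout g hgA) m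
      have hv2 : g ^ ((p - 1) * j) * (g ^ j * v) = g ^ (p * j) * v := by
        rw [← mul_assoc, ← pow_add]
        congr 2
        rw [← Nat.succ_mul, Nat.succ_eq_add_one, Nat.sub_add_cancel hp.out.pos]
      refine ⟨(⟨((p - 1) * j) % p, Nat.mod_lt _ hp.out.pos⟩,
        ⟨g ^ (p * (((p - 1) * j) / p)) * (g ^ j * v) * (g ^ (p * j))⁻¹,
          mul_mem (mul_mem (hgp _) hjZ) (inv_mem (hgp _))⟩), Set.mem_univ _, ?_⟩
      show g ^ (((p - 1) * j) % p) *
        (g ^ (p * (((p - 1) * j) / p)) * (g ^ j * v) * (g ^ (p * j))⁻¹) = v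
      rw [← mul_assoc, ← mul_assoc, ← pow_add, Nat.mod_add_div, hv2,
        ← Subgroup.mem_center_iff.1 (hgp j) v, mul_inv_cancel_right]
    have h1 : Nat.card C ≤ p * Nat.card Z := by
      calc Nat.card C = (C : Set P).ncard := Nat.card_coe_set_eq (C : Set P)
        _ ≤ ((fun jz : Fin p × Z => g ^ (jz.1 : ℕ) * jz.2) '' Set.univ).ncard :=
            Set.ncard_le_ncard hsub (Set.toFinite _)
        _ ≤ (Set.univ : Set (Fin p × Z)).ncard := Set.ncard_image_le (Set.toFinite _)
        _ = p * Nat.card Z := by rw [Set.ncard_univ, Nat.card_prod, Nat.card_fin]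
    have h2 : p * p * Nat.card Z ≤ Nat.card A := by
      have hZC := (Z.subgroupOf A).card_mul_index
      rw [Nat.card_congr (Subgroup.subgroupOfEquivOfLe hZA).toEquiv, mul_comm] at hZC
      rw [← hZC]
      refine Nat.mul_le_mul_right _ ?_
      haveI : (Z.subgroupOf A).Normal := inferInstance
      rw [Subgroup.index_eq_card]
      refine le_trans ?_ (Nat.le_of_dvd Nat.card_pos
        (orderOf_dvd_natCard ((⟨x₀, hxA'⟩ : A) : A ⧸ Z.subgroupOf A)))
      obtain ⟨k, hk⟩ := IsPGroup.iff_orderOf.1 ((hP.to_subgroup A).to_quotient (Z.subgroupOf A))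
        ((⟨x₀, hxA'⟩ : A) : A ⧸ Z.subgroupOf A)
      rw [hk, ← pow_two]
      refine Nat.pow_le_pow_right hp.out.pos (by_contra fun hk2 => hx₀ ?_)
      have h3 : ((⟨x₀, hxA'⟩ : A) : A ⧸ Z.subgroupOf A) ^ p = 1 :=
        orderOf_dvd_iff_pow_eq_one.1 (hk ▸ (pow_dvd_pow p (Nat.lt_succ_iff.1
          (not_le.1 hk2))).trans (dvd_of_eq (pow_one p)))
      rw [← QuotientGroup.mk_pow, QuotientGroup.eq_one_iff] at h3
      exact h3
    have h4 := (h2.trans hcardAC.le).trans h1
    exact absurd (Nat.le_of_mul_le_mul_right h4 Nat.card_pos)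
      (not_le.2 (lt_mul_of_one_lt_left hp.out.pos hp.out.one_lt))
  have hgh : Commute h g := hcomm hhC
  -- norms
  have hnorm : ∀ u : P, u ∉ A →
      ((List.range p).map fun i => u ^ i * x₀ * (u ^ i)⁻¹).prod ∈ Z := by
    intro u hu
    have h1 := mul_pow_eq x₀ u p
    have h2 : x₀ * u ∉ A := fun hh => hu ((Subgroup.mul_mem_cancel_left _ hxA').1 hh)
    have h3 := mul_mem (hout _ h2) (inv_mem (hout _ hu))
    rwa [h1, mul_inv_cancel_right] at h3
  -- work in the abelian group `A`
  letI : CommGroup A := { (inferInstance : Group A) with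
    mul_comm := fun y v => Subtype.ext (hAc y y.2 v v.2).eq }
  let cj : P → A := fun u => ⟨u * x₀ * u⁻¹, hAn u x₀ hxA'⟩
  let ZA : Subgroup A := Z.subgroupOf A
  have hprod : ∀ u : P, u ∉ A → ∏ i ∈ Finset.range p, cj (u ^ i) ∈ ZA := by
    intro u hu
    have h1 : ∀ n, ((∏ i ∈ Finset.range n, cj (u ^ i) : A) : P) =
        ((List.range n).map fun i => u ^ i * x₀ * (u ^ i)⁻¹).prod := by
      intro n
      induction n with
      | zero => simp
      | succ n ih =>
        rw [Finset.prod_range_succ, Subgroup.coe_mul, ih, List.range_succ, List.map_append,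
          List.prod_append]
        simp [cj]
    rw [Subgroup.mem_subgroupOf, h1]
    exact hnorm u hu
  set N := ∏ i ∈ Finset.range p, cj (g ^ i) with hN
  have hNZ : N ∈ ZA := hprod g hgA
  have hper : ∀ (k i : ℕ), cj (g ^ k * h ^ i) = cj (g ^ (k % p) * h ^ i) := fun k i => by
    refine Subtype.ext ?_
    show g ^ k * h ^ i * x₀ * (g ^ k * h ^ i)⁻¹ =
      g ^ (k % p) * h ^ i * x₀ * (g ^ (k % p) * h ^ i)⁻¹
    have hz : g ^ (p * (k / p)) ∈ Z := by rw [pow_mul]; exact pow_mem (hout g hgA) _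
    have hzc := Subgroup.mem_center_iff.1 hz (g ^ (k % p) * h ^ i * x₀ * (g ^ (k % p) * h ^ i)⁻¹)
    conv_lhs => rw [← Nat.mod_add_div k p, pow_add]
    calc g ^ (k % p) * g ^ (p * (k / p)) * h ^ i * x₀ *
          (g ^ (k % p) * g ^ (p * (k / p)) * h ^ i)⁻¹
        = g ^ (p * (k / p)) * (g ^ (k % p) * h ^ i * x₀ * (g ^ (k % p) * h ^ i)⁻¹) *
            (g ^ (p * (k / p)))⁻¹ := by
          rw [((Commute.refl g).pow_pow (k % p) (p * (k / p))).eq]; group
      _ = _ := by rw [← hzc, mul_inv_cancel_right]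
  have hrow : ∀ i, i < p → i ≠ 0 → ∏ j ∈ Finset.range p, cj (g ^ (i * j) * h ^ i) = N := by
    intro i hi hi0
    have h1 : ∏ j ∈ Finset.range p, cj (g ^ (i * j) * h ^ i) =
        ∏ k ∈ Finset.range p, cj (g ^ k * h ^ i) := by
      simp only [hper (i * _) i]
      refine Finset.prod_bij (fun j _ => i * j % p) (fun j _ => Finset.mem_range.2
        (Nat.mod_lt _ hp.out.pos)) (fun j hj j' hj' e => ?_) (fun k hk => ?_) fun j _ => rfl
      · have hcop : Nat.Coprime p i :=
          hp.out.coprime_iff_not_dvd.2 fun hd => absurd (Nat.le_of_dvd (Nat.pos_of_ne_zero hi0) hd)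
            (not_le.2 hi)
        have h2 := Nat.ModEq.cancel_left_of_coprime hcop (show i * j ≡ i * j' [MOD p] from e)
        exact h2.eq_of_lt_of_lt (Finset.mem_range.1 hj) (Finset.mem_range.1 hj')
      · obtain ⟨m, -, hm⟩ := Nat.exists_mul_mod_eq_one_of_coprime
          ((hp.out.coprime_iff_not_dvd.2 fun hd => absurd
            (Nat.le_of_dvd (Nat.pos_of_ne_zero hi0) hd) (not_le.2 hi)).symm) hp.out.one_lt
        refine ⟨m * k % p, Finset.mem_range.2 (Nat.mod_lt _ hp.out.pos), ?_⟩
        rw [Nat.mul_mod, Nat.mod_mod, ← Nat.mul_mod, ← mul_assoc, Nat.mul_mod, hm, one_mul,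
          Nat.mod_mod, Nat.mod_eq_of_lt (Finset.mem_range.1 hk)]
    rw [h1]
    let φ : A →* A := MonoidHom.mk'
      (fun y => ⟨h ^ i * y * (h ^ i)⁻¹, hAn _ y y.2⟩) fun y v => Subtype.ext (by
        show h ^ i * ((y : P) * v) * (h ^ i)⁻¹ =
          h ^ i * (y : P) * (h ^ i)⁻¹ * (h ^ i * (v : P) * (h ^ i)⁻¹)
        group)
    have h2 : ∀ k, cj (g ^ k * h ^ i) = φ (cj (g ^ k)) := fun k => Subtype.ext (by
      show g ^ k * h ^ i * x₀ * (g ^ k * h ^ i)⁻¹ = h ^ i * (g ^ k * x₀ * (g ^ k)⁻¹) * (h ^ i)⁻¹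
      rw [((hgh.symm).pow_pow k i).eq]; group)
    rw [Finset.prod_congr rfl fun k _ => h2 k, ← map_prod, ← hN]
    refine Subtype.ext ?_
    show h ^ i * (N : P) * (h ^ i)⁻¹ = N
    have h3 : h ^ i * (N : P) = N * h ^ i := Subgroup.mem_center_iff.1 hNZ (h ^ i)
    rw [h3, mul_inv_cancel_right]
  have hall : ∏ i ∈ Finset.range p, ∏ j ∈ Finset.range p, cj (g ^ (i * j) * h ^ i) ∈ ZA := by
    rw [Finset.prod_comm]
    refine Subgroup.prod_mem _ fun j _ => ?_
    have h1 : ∀ i, cj (g ^ (i * j) * h ^ i) = cj ((g ^ j * h) ^ i) := fun i => by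
      rw [((hgh.symm).pow_left j).mul_pow, ← pow_mul, mul_comm j i]
    simp only [h1]
    exact hprod _ (hind j)
  rw [← Finset.mul_prod_erase _ _ (Finset.mem_range.2 hp.out.pos)] at hall
  refine hx₀ ?_
  have h1 : ∏ i ∈ (Finset.range p).erase 0,
      ∏ j ∈ Finset.range p, cj (g ^ (i * j) * h ^ i) ∈ ZA := by
    refine Subgroup.prod_mem _ fun i hi => ?_
    rw [hrow i (Finset.mem_range.1 (Finset.mem_erase.1 hi).2) (Finset.mem_erase.1 hi).1]
    exact hNZ
  have h2 := (Subgroup.mul_mem_cancel_right _ h1).1 hall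
  simp only [zero_mul, pow_zero, mul_one, Finset.prod_const, Finset.card_range] at h2
  rw [Subgroup.mem_subgroupOf, SubmonoidClass.coe_pow] at h2
  simpa [cj] using h2

end Cfsg.Agent.SolvStruct.TwoClassSizes
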