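import Cfsg.Agent.Lib.PGroups.UniqueSubgroup
import Cfsg.Agent.Lib.Cores.Fitting
import Cfsg.Agent.OddLocal.CN
import Mathlib.GroupTheory.SchurZassenhaus

/-!
# Nilpotent groups all of whose proper centralizers are cyclic
-/

set_option autoImplicit false

namespace Cfsg.Agent.SolvStruct.CyclicCentralizers

open Subgroup

variable {G : Type*} [Group G] [Finite G]

theorem eq_of_card_eq_of_cyclic {C : Subgroup G} [IsCyclic C] {H K : Subgroup G} (hH : H ≤ C)
    (hK : K ≤ C) (h : Nat.card H = Nat.card K) : H = K := by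
  classical
  haveI := Fintype.ofFinite C
  have key : ∀ L : Subgroup G, L ≤ C → Nat.card L = Nat.card H →
      (L.subgroupOf C : Set C) = {u : C | u ^ Nat.card H = 1} := by
    intro L hL hc
    refine Set.eq_of_subset_of_ncard_le (fun u hu => ?_) ?_ (Set.toFinite _)
    · refine Subtype.ext ?_
      have := pow_card_eq_one' (x := (⟨(u : G), hu⟩ : L))
      rw [hc] at this
      simpa using congrArg Subtype.val this
    · rw [← Nat.card_coe_set_eq (L.subgroupOf C : Set C), SetLike.coe_sort_coe,
        Nat.card_congr (subgroupOfEquivOfLe hL).toEquiv, hc,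
        Set.ncard_eq_toFinset_card', Set.toFinset_setOf]
      exact IsCyclic.card_pow_eq_one_le Nat.card_pos
  have h1 := (key H hH rfl).trans (key K hK h.symm).symm
  rw [← map_subgroupOf_eq_of_le hH, ← map_subgroupOf_eq_of_le hK, SetLike.coe_injective h1]

theorem forward (hG : Group.IsNilpotent G) (hna : ¬ IsMulCommutative G)
    (h : ∀ x : G, x ∉ center G → IsCyclic (centralizer ({x} : Set G))) :
    ∃ (k m : ℕ), 1 ≤ k ∧ Odd m ∧
      Nonempty (G ≃* QuaternionGroup (2 ^ k) × Multiplicative (ZMod m)) := by
  haveI := hG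
  -- a noncentral element of prime power order
  obtain ⟨p, hp, P, x, hxP, hx⟩ : ∃ p : ℕ, p.Prime ∧ ∃ P : Sylow p G,
      ∃ x ∈ (P : Subgroup G), x ∉ center G := by
    by_contra hcon
    push Not at hcon
    refine hna ⟨⟨fun a b => ?_⟩⟩
    have htop : center G = ⊤ := Cores.eq_top_of_sylow_le fun q hq _ => by
      haveI := Fact.mk hq
      obtain ⟨Q⟩ := (inferInstance : Nonempty (Sylow q G))
      exact ⟨Q, hcon q hq Q⟩
    have ha : a ∈ center G := htop ▸ mem_top a
    exact (mem_center_iff.1 ha b).symm
  haveI := Fact.mk hp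
  have hPn : (P : Subgroup G).Normal :=
    inferInstance
  have hcomm : ∀ u ∈ (P : Subgroup G), ∀ g : G, (orderOf g).Coprime p → Commute g u := by
    intro u hu g hg
    refine OddLocal.CN.commute_of_coprime ?_
    obtain ⟨k, hk⟩ := IsPGroup.iff_orderOf.1 P.2 ⟨u, hu⟩
    rw [Subgroup.orderOf_mk] at hk
    rw [hk]
    exact hg.pow_right k
  set Cx := centralizer ({x} : Set G)
  haveI : IsCyclic Cx := h x hx
  -- an element of `P` not commuting with `x`
  obtain ⟨y, hyP, hxy⟩ : ∃ y ∈ (P : Subgroup G), ¬ Commute y x := by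
    by_contra hcon
    push Not at hcon
    have htop : Cx = ⊤ := Cores.eq_top_of_sylow_le fun q hq _ => by
      haveI := Fact.mk hq
      by_cases hqp : q = p
      · subst hqp
        exact ⟨P, fun u hu => mem_centralizer_singleton_iff.2 (hcon u hu)⟩
      · obtain ⟨Q⟩ := (inferInstance : Nonempty (Sylow q G))
        refine ⟨Q, fun u hu => mem_centralizer_singleton_iff.2 (hcomm x hxP u ?_)⟩
        obtain ⟨k, hk⟩ := IsPGroup.iff_orderOf.1 Q.2 ⟨u, hu⟩
        rw [Subgroup.orderOf_mk] at hk
        rw [hk]
        exact Nat.Coprime.pow_left _ ((Nat.coprime_primes hq hp).2 hqp)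
    exact hx (mem_center_iff.2 fun g =>
      mem_centralizer_singleton_iff.1 ((SetLike.ext_iff.1 htop g).2 (mem_top g)))
  haveI hPnt : Nontrivial (P : Subgroup G) := ⟨⟨⟨x, hxP⟩, 1, fun e => hxy (by
    rw [show x = 1 from congrArg Subtype.val e]; exact Commute.one_right y)⟩⟩
  obtain ⟨⟨z, hzc⟩, hz⟩ := exists_prime_orderOf_dvd_card' (G := center (P : Subgroup G)) p (by
    haveI := P.2.center_nontrivial
    obtain ⟨k, hk⟩ := (P.2.to_subgroup (center (P : Subgroup G))).exists_card_eq
    rw [hk]
    refine dvd_pow_self p fun h0 => ?_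
    have := Finite.one_lt_card (α := center (P : Subgroup G))
    rw [hk, h0, pow_zero] at this
    exact lt_irrefl 1 this)
  rw [Subgroup.orderOf_mk] at hz
  -- all elements of order `p` in `P` lie in `zpowers z`
  have huniq : ∀ H K : Subgroup (P : Subgroup G), Nat.card H = p → Nat.card K = p → H = K := by
    suffices hz' : ∀ H : Subgroup (P : Subgroup G), Nat.card H = p →
        H.map (P : Subgroup G).subtype = zpowers ((z : (P : Subgroup G)) : G) from
      fun H K hH hK => map_injective (P : Subgroup G).subtype_injective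
        ((hz' H hH).trans (hz' K hK).symm)
    intro H hH
    have hcard : Nat.card (H.map (P : Subgroup G).subtype) =
        Nat.card (zpowers ((z : (P : Subgroup G)) : G)) := by
      rw [card_map_of_injective (P : Subgroup G).subtype_injective, hH, Nat.card_zpowers,
        Subgroup.orderOf_coe, hz]
    by_cases hHc : H ≤ center (P : Subgroup G)
    · refine eq_of_card_eq_of_cyclic (C := Cx) ?_ ?_ hcard
      · rintro _ ⟨u, hu, rfl⟩
        exact mem_centralizer_singleton_iff.2
          (congrArg Subtype.val (mem_center_iff.1 (hHc hu) ⟨x, hxP⟩)).symm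
      · exact zpowers_le.2 (mem_centralizer_singleton_iff.2
          (congrArg Subtype.val (mem_center_iff.1 hzc ⟨x, hxP⟩)).symm)
    · obtain ⟨u, huH, hu⟩ := SetLike.not_le_iff_exists.1 hHc
      have hu' : (u : G) ∉ center G := fun h' => hu (mem_center_iff.2 fun w =>
        Subtype.ext (mem_center_iff.1 h' w))
      haveI := h _ hu'
      refine eq_of_card_eq_of_cyclic (C := centralizer ({(u : G)} : Set G)) ?_ ?_ hcard
      · rintro _ ⟨w, hw, rfl⟩
        haveI : IsCyclic H := isCyclic_of_prime_card hH
        exact mem_centralizer_singleton_iff.2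
          (congrArg (fun t : H => ((t : (P : Subgroup G)) : G))
            (mul_comm' (M := H) ⟨w, hw⟩ ⟨u, huH⟩))
      · exact zpowers_le.2 (mem_centralizer_singleton_iff.2
          (congrArg Subtype.val (mem_center_iff.1 hzc u)).symm)
  have hPna : ¬ ∀ a b : (P : Subgroup G), a * b = b * a := fun hc =>
    hxy (congrArg Subtype.val (hc ⟨y, hyP⟩ ⟨x, hxP⟩))
  rcases PGroups.UniqueSubgroup.isCyclic_or_quaternion P.2 huniq with hcyc | ⟨hp2, k, ⟨eP⟩⟩
  · haveI := hcyc
    letI := IsCyclic.commGroup (α := (P : Subgroup G))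
    exact absurd (fun a b => mul_comm a b) hPna
  subst hp2
  have hk : 1 ≤ k := by
    by_contra hk0
    obtain rfl : k = 0 := by omega
    refine hPna fun a b => eP.injective ?_
    rw [map_mul, map_mul]
    generalize eP a = u
    generalize eP b = v
    revert u v
    decide
  -- the complement
  obtain ⟨K, hK⟩ := exists_right_complement'_of_coprime (N := (P : Subgroup G))
    (P.card_coprime_index)
  have hKodd : Odd (Nat.card K) := by
    rw [Nat.odd_iff, ← Nat.two_dvd_ne_zero, ← hK.symm.index_eq_card]
    exact P.not_dvd_index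
  have hKc : ∀ g ∈ K, ∀ u ∈ (P : Subgroup G), Commute g u := fun g hg u hu => by
    refine hcomm u hu g ?_
    have h1 : orderOf g ∣ Nat.card K := Subgroup.orderOf_mk g hg ▸ orderOf_dvd_natCard (⟨g, hg⟩ : K)
    exact (Nat.coprime_two_right.2 hKodd).coprime_dvd_left h1
  haveI : IsCyclic K := isCyclic_of_injective
    (inclusion (show K ≤ Cx from fun g hg => mem_centralizer_singleton_iff.2 (hKc g hg x hxP)))
    (inclusion_injective _)
  let f : ↥(P : Subgroup G) × ↥K →* G := MonoidHom.mk' (fun uv => (uv.1 : G) * uv.2) fun a b => by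
    show ((a.1 : G) * b.1) * ((a.2 : G) * b.2) = (a.1 : G) * a.2 * ((b.1 : G) * b.2)
    rw [mul_assoc (a.1 : G), ← mul_assoc (b.1 : G), ← (hKc a.2 a.2.2 b.1 b.1.2).eq]
    group
  let e : ↥(P : Subgroup G) × ↥K ≃* G := MulEquiv.ofBijective f hK
  refine ⟨k, Nat.card K, hk, hKodd, ⟨e.symm.trans (eP.prodCongr ?_)⟩⟩
  exact mulEquivOfCyclicCardEq (by simp)

theorem backward {k m : ℕ} (hk : 1 ≤ k) (hm : Odd m)
    (x : QuaternionGroup (2 ^ k) × Multiplicative (ZMod m)) (hx : x ∉ center _) :
    IsCyclic (centralizer ({x} : Set (QuaternionGroup (2 ^ k) × Multiplicative (ZMod m)))) := by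
  haveI : NeZero m := ⟨hm.pos.ne'⟩
  haveI : NeZero (2 ^ k) := ⟨pow_ne_zero _ two_ne_zero⟩
  obtain ⟨q, c⟩ := x
  have hq : q ∉ center (QuaternionGroup (2 ^ k)) := fun h => hx (mem_center_iff.2 fun g =>
    Prod.ext (mem_center_iff.1 h g.1) (mul_comm _ _))
  set C := centralizer ({q} : Set (QuaternionGroup (2 ^ k))) with hCdef
  have hC : ∃ g : QuaternionGroup (2 ^ k), C ≤ zpowers g ∧ g ∈ C := by
    rw [hCdef]
    clear hCdef C hx
    rcases q with i | i
    ·
      refine ⟨.a 1, fun g hg => ?_, mem_centralizer_singleton_iff.2 ?_⟩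
      · match g with
        | .a j => exact mem_zpowers_iff.2 ⟨(j.val : ℤ), by
            rw [zpow_natCast, QuaternionGroup.a_one_pow, ZMod.natCast_zmod_val]⟩
        | .xa j =>
          exfalso
          refine hq (mem_center_iff.2 fun g => ?_)
          have h := mem_centralizer_singleton_iff.1 hg
          rw [QuaternionGroup.xa_mul_a, QuaternionGroup.a_mul_xa, QuaternionGroup.xa.injEq] at h
          have h2 : i = -i := by linear_combination h
          match g with
          | .a l => rw [QuaternionGroup.a_mul_a, QuaternionGroup.a_mul_a, add_comm]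
          | .xa l =>
            rw [QuaternionGroup.xa_mul_a, QuaternionGroup.a_mul_xa, QuaternionGroup.xa.injEq]
            linear_combination h2
      · rw [QuaternionGroup.a_mul_a, QuaternionGroup.a_mul_a, add_comm]
    ·
      refine ⟨.xa i, fun g hg => ?_, mem_centralizer_singleton_iff.2 rfl⟩
      have h := mem_centralizer_singleton_iff.1 hg
      have hdouble : ∀ j : ZMod (2 * 2 ^ k), j + j = 0 →
          j = 0 ∨ j = ((2 ^ k : ℕ) : ZMod (2 * 2 ^ k)) := by
        intro j hj
        rw [← ZMod.natCast_zmod_val j, ← Nat.cast_add, ZMod.natCast_eq_zero_iff] at hj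
        have hlt := j.val_lt
        obtain ⟨t, ht⟩ := hj
        rcases t with _ | _ | t
        · left; rw [← ZMod.natCast_zmod_val j, show j.val = 0 by omega, Nat.cast_zero]
        · right
          conv_lhs => rw [← ZMod.natCast_zmod_val j]
          rw [show j.val = 2 ^ k by omega]
        · exfalso
          have : 2 * 2 ^ k * 2 ≤ j.val + j.val := ht ▸ Nat.mul_le_mul_left _ (by omega)
          omega
      match g with
      | .a j =>
        rw [QuaternionGroup.a_mul_xa, QuaternionGroup.xa_mul_a, QuaternionGroup.xa.injEq] at h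
        rcases hdouble j (by linear_combination -h) with h1 | h1
        · rw [h1, show (QuaternionGroup.a 0 : QuaternionGroup (2 ^ k)) = 1 from rfl]
          exact one_mem _
        · exact mem_zpowers_iff.2 ⟨2, by
            rw [show (2 : ℤ) = ((2 : ℕ) : ℤ) from rfl, zpow_natCast, QuaternionGroup.xa_sq, h1]⟩
      | .xa j =>
        rw [QuaternionGroup.xa_mul_xa, QuaternionGroup.xa_mul_xa, QuaternionGroup.a.injEq] at h
        rcases hdouble (j - i) (by linear_combination -h) with h1 | h1
        · rw [sub_eq_zero.1 h1]; exact mem_zpowers _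
        · refine mem_zpowers_iff.2 ⟨3, ?_⟩
          rw [show (3 : ℤ) = ((3 : ℕ) : ℤ) from rfl, zpow_natCast, pow_succ, QuaternionGroup.xa_sq,
            QuaternionGroup.a_mul_xa, QuaternionGroup.xa.injEq]
          have h2 : ((2 ^ k : ℕ) : ZMod (2 * 2 ^ k)) + ((2 ^ k : ℕ) : ZMod (2 * 2 ^ k)) = 0 := by
            rw [← Nat.cast_add, ← two_mul, ZMod.natCast_self]
          linear_combination -h1 - h2
  obtain ⟨g, hg, hgC⟩ := hC
  haveI : IsCyclic C := by
    haveI : IsCyclic (zpowers g) := inferInstance
    exact isCyclic_of_injective (inclusion hg) (inclusion_injective _)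
  have hdvd : Nat.card C ∣ 2 ^ (k + 2) := by
    have h1 := C.card_subgroup_dvd_card
    rwa [Nat.card_eq_fintype_card (α := QuaternionGroup (2 ^ k)), QuaternionGroup.card,
      show 4 * 2 ^ k = 2 ^ (k + 2) by ring] at h1
  haveI : IsCyclic (C × Multiplicative (ZMod m)) := by
    refine Group.isCyclic_prod_iff.2 ⟨inferInstance, inferInstance, ?_⟩
    rw [Nat.card_eq_fintype_card (α := Multiplicative (ZMod m)), Fintype.card_multiplicative, ZMod.card]
    exact (Nat.Coprime.pow_left _ (Nat.coprime_two_left.2 hm)).coprime_dvd_left hdvd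
  let f : centralizer ({(q, c)} : Set (QuaternionGroup (2 ^ k) × Multiplicative (ZMod m))) →*
      C × Multiplicative (ZMod m) := MonoidHom.mk'
    (fun w => (⟨w.1.1, mem_centralizer_singleton_iff.2
      (congrArg Prod.fst (mem_centralizer_singleton_iff.1 w.2))⟩, w.1.2)) fun a b => rfl
  exact isCyclic_of_injective f fun a b hab => Subtype.ext (Prod.ext
    (congrArg (fun t : C × Multiplicative (ZMod m) => (t.1 : QuaternionGroup (2 ^ k))) hab)
    (congrArg (fun t : C × Multiplicative (ZMod m) => t.2) hab))

theorem transfer_iso {H : Type*} [Group H] (e : G ≃* H)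
    (h : ∀ x : H, x ∉ center H → IsCyclic (centralizer ({x} : Set H)))
    (x : G) (hx : x ∉ center G) : IsCyclic (centralizer ({x} : Set G)) := by
  haveI := h (e x) fun h' => hx (mem_center_iff.2 fun g => e.injective (by
    rw [map_mul, map_mul]; exact mem_center_iff.1 h' (e g)))
  let f : centralizer ({x} : Set G) →* centralizer ({e x} : Set H) := MonoidHom.mk'
    (fun w => ⟨e w, mem_centralizer_singleton_iff.2 (by
      rw [← map_mul, ← map_mul, mem_centralizer_singleton_iff.1 w.2])⟩)
    fun a b => Subtype.ext (map_mul e _ _)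
  exact isCyclic_of_injective f fun a b hab => Subtype.ext (e.injective (congrArg Subtype.val hab))

end Cfsg.Agent.SolvStruct.CyclicCentralizers
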