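import Mathlib

/-!
# Subgroups of order four of the Sylow 2-subgroup of `A₄ × A₄`
-/

set_option autoImplicit false
set_option maxRecDepth 10000
set_option synthInstance.maxSize 2000
set_option synthInstance.maxHeartbeats 200000
set_option maxHeartbeats 1000000

namespace Cfsg.Agent.SolvStruct.AltFourSquared

local notation "A" => (Subtype (fun x => x ∈ alternatingGroup (Fin 4)))

theorem sq_eq_one : ∀ w : A, w ^ 4 = 1 → w ^ 2 = 1 := by decide

theorem card_sq : (Finset.univ.filter fun w : A => w ^ 2 = 1).card = 4 := by decide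

theorem orbit₁ : ∀ u c : A, u ^ 2 = 1 → u ≠ 1 → c ^ 3 = 1 → c ≠ 1 →
    (c * u * c⁻¹) ^ 2 = 1 ∧ c * u * c⁻¹ ≠ u ∧ c * (c * u * c⁻¹) * c⁻¹ = u * (c * u * c⁻¹) := by
  decide

theorem orbit₂ : ∀ u c w : A, u ^ 2 = 1 → u ≠ 1 → c ^ 3 = 1 → c ≠ 1 → w ^ 2 = 1 → w ≠ 1 →
    w ≠ u → w = c * u * c⁻¹ ∨ w = c ^ 2 * u * (c ^ 2)⁻¹ := by
  decide

theorem orbit (u : A) (hu2 : u ^ 2 = 1) (hu : u ≠ 1) (c : A) (hc : c ^ 3 = 1) (hc1 : c ≠ 1) :
    (c * u * c⁻¹) ^ 2 = 1 ∧ c * u * c⁻¹ ≠ u ∧ c * (c * u * c⁻¹) * c⁻¹ = u * (c * u * c⁻¹) ∧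
      ∀ w : A, w ^ 2 = 1 → w ≠ 1 → w ≠ u → w = c * u * c⁻¹ ∨ w = c ^ 2 * u * (c ^ 2)⁻¹ :=
  ⟨(orbit₁ u c hu2 hu hc hc1).1, (orbit₁ u c hu2 hu hc hc1).2.1, (orbit₁ u c hu2 hu hc hc1).2.2,
    fun w => orbit₂ u c w hu2 hu hc hc1⟩

theorem exists_normalizing (X : Sylow 2 (A × A)) (Q : Sylow 3 (A × A)) (B : Subgroup (A × A))
    (hBX : B ≤ (X : Subgroup _)) (hB4 : Nat.card ↥B = 4)
    (h1 : B ⊓ ((X : Subgroup _) ⊓ Subgroup.prod ⊤ ⊥) = ⊥)
    (h2 : B ⊓ ((X : Subgroup _) ⊓ Subgroup.prod ⊥ ⊤) = ⊥) :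
    ∃ R : Subgroup (A × A), R ≤ (Q : Subgroup _) ∧ Nat.card ↥R = 3 ∧
      R ≠ (Q : Subgroup _) ⊓ Subgroup.prod ⊤ ⊥ ∧ R ≠ (Q : Subgroup _) ⊓ Subgroup.prod ⊥ ⊤ ∧
        R ≤ Subgroup.normalizer (B : Set _) := by
  classical
  haveI : Fact (Nat.Prime 3) := ⟨Nat.prime_three⟩
  haveI : Fact (Nat.Prime 2) := ⟨Nat.prime_two⟩
  have hA : Nat.card A = 12 := by rw [Nat.card_eq_fintype_card]; decide
  -- components of elements of `B`
  have hinv : ∀ b ∈ B, b.1 ^ 2 = 1 ∧ b.2 ^ 2 = 1 := by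
    intro b hb
    have h4 : b ^ 4 = 1 := by
      have := pow_card_eq_one' (x := (⟨b, hb⟩ : B))
      rw [hB4] at this
      exact congrArg Subtype.val this
    exact ⟨sq_eq_one _ (congrArg Prod.fst h4), sq_eq_one _ (congrArg Prod.snd h4)⟩
  have hfst : ∀ b ∈ B, b.2 = 1 → b = 1 := fun b hb e => by
    have : b ∈ B ⊓ ((X : Subgroup _) ⊓ Subgroup.prod ⊤ ⊥) :=
      ⟨hb, hBX hb, Subgroup.mem_prod.2 ⟨Subgroup.mem_top _, Subgroup.mem_bot.2 e⟩⟩
    rwa [h1, Subgroup.mem_bot] at this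
  have hsnd : ∀ b ∈ B, b.1 = 1 → b = 1 := fun b hb e => by
    have : b ∈ B ⊓ ((X : Subgroup _) ⊓ Subgroup.prod ⊥ ⊤) :=
      ⟨hb, hBX hb, Subgroup.mem_prod.2 ⟨Subgroup.mem_bot.2 e, Subgroup.mem_top _⟩⟩
    rwa [h2, Subgroup.mem_bot] at this
  -- the Sylow 3-subgroup is a product
  have hQ9 : Nat.card (Q : Subgroup (A × A)) = 9 := by
    have h9 : 3 ^ 2 ∣ Nat.card (A × A) := by rw [Nat.card_prod, hA]; norm_num
    have hd := Q.pow_dvd_card_of_pow_dvd_card h9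
    obtain ⟨k, hk⟩ := Q.2.exists_card_eq
    have hdvd := (Q : Subgroup (A × A)).card_subgroup_dvd_card
    rw [Nat.card_prod, hA, hk] at hdvd
    rw [hk] at hd ⊢
    have hk2 : 2 ≤ k := (Nat.pow_dvd_pow_iff_le_right (by norm_num)).1 hd
    have hk3 : k < 3 := by
      by_contra hcon
      push Not at hcon
      exact absurd ((pow_dvd_pow 3 hcon).trans hdvd) (by norm_num)
    obtain rfl : k = 2 := by omega
    norm_num
  set Q1 := (Q : Subgroup (A × A)).map (MonoidHom.fst A A)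
  set Q2 := (Q : Subgroup (A × A)).map (MonoidHom.snd A A)
  have hle : (Q : Subgroup (A × A)) ≤ Q1.prod Q2 := fun x hx =>
    Subgroup.mem_prod.2 ⟨⟨x, hx, rfl⟩, ⟨x, hx, rfl⟩⟩
  have hcard3 : ∀ f : A × A →* A, Nat.card ((Q : Subgroup (A × A)).map f) ∣ 3 := fun f => by
    have e1 := ((Q : Subgroup (A × A)).map f).card_subgroup_dvd_card
    have e2 := (Q : Subgroup (A × A)).card_map_dvd f
    rw [hA] at e1
    rw [hQ9] at e2
    exact Nat.dvd_gcd e1 e2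
  have hprod : Nat.card ↥(Q1.prod Q2) = Nat.card Q1 * Nat.card Q2 := by
    rw [Nat.card_congr (Subgroup.prodEquiv Q1 Q2).toEquiv, Nat.card_prod]
  have hQ : (Q : Subgroup (A × A)) = Q1.prod Q2 := by
    refine Subgroup.eq_of_le_of_card_ge hle ?_
    rw [hprod, hQ9]
    exact Nat.mul_le_mul (Nat.le_of_dvd (by norm_num) (hcard3 _))
      (Nat.le_of_dvd (by norm_num) (hcard3 _))
  have hboth : Nat.card Q1 = 3 ∧ Nat.card Q2 = 3 := by
    have h9 : Nat.card Q1 * Nat.card Q2 = 9 := by rw [← hprod, ← hQ, hQ9]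
    have a1 := Nat.le_of_dvd (by norm_num) (hcard3 (MonoidHom.fst A A))
    have a2 := Nat.le_of_dvd (by norm_num) (hcard3 (MonoidHom.snd A A))
    constructor <;> nlinarith
  obtain ⟨c, hc⟩ := exists_prime_orderOf_dvd_card' (G := Q1) 3 (by rw [hboth.1])
  obtain ⟨d, hd⟩ := exists_prime_orderOf_dvd_card' (G := Q2) 3 (by rw [hboth.2])
  rw [← Subgroup.orderOf_coe] at hc hd
  obtain ⟨hc3, hc1⟩ := (orderOf_eq_prime_iff).1 hc
  obtain ⟨hd3, hd1⟩ := (orderOf_eq_prime_iff).1 hd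
  -- two generators of `B`
  haveI : Nontrivial B := Finite.one_lt_card_iff_nontrivial.1 (by omega)
  obtain ⟨⟨b, hb⟩, hb1⟩ := exists_ne (1 : B)
  have hb1' : b ≠ 1 := fun e => hb1 (Subtype.ext e)
  have hu : b.1 ≠ 1 := fun e => hb1' (hsnd b hb e)
  have hu' : b.2 ≠ 1 := fun e => hb1' (hfst b hb e)
  obtain ⟨hv2, hvu, hvuv, -⟩ := orbit b.1 (hinv b hb).1 hu c hc3 hc1
  obtain ⟨b', hb', hb'v⟩ : ∃ b' ∈ B, b'.1 = (c : A) * b.1 * (c : A)⁻¹ := by
    have himg : (B : Set (A × A)).toFinset.image Prod.fst =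
        Finset.univ.filter fun w : A => w ^ 2 = 1 := by
      refine Finset.eq_of_subset_of_card_le (fun w hw => ?_) ?_
      · obtain ⟨x, hx, rfl⟩ := Finset.mem_image.1 hw
        exact Finset.mem_filter.2 ⟨Finset.mem_univ _, (hinv x (Set.mem_toFinset.1 hx)).1⟩
      · rw [card_sq, Finset.card_image_of_injOn, ← Set.ncard_eq_toFinset_card',
          ← Nat.card_coe_set_eq, SetLike.coe_sort_coe, hB4]
        intro x hx y hy e
        rw [Finset.mem_coe, Set.mem_toFinset] at hx hy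
        have h3 := hsnd (x⁻¹ * y) (mul_mem (inv_mem hx) hy) (by simp [e])
        exact inv_mul_eq_one.1 h3
    have hmem : (c : A) * b.1 * (c : A)⁻¹ ∈ Finset.univ.filter fun w : A => w ^ 2 = 1 :=
      Finset.mem_filter.2 ⟨Finset.mem_univ _, hv2⟩
    rw [← himg] at hmem
    obtain ⟨x, hx, hxe⟩ := Finset.mem_image.1 hmem
    exact ⟨x, Set.mem_toFinset.1 hx, hxe⟩
  have hb'1 : b'.2 ≠ 1 := fun e => by
    have := hfst b' hb' e
    rw [this, Prod.fst_one, eq_comm] at hb'v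
    exact hu (conj_eq_one_iff.1 hb'v)
  have hb'b : b'.2 ≠ b.2 := fun e => by
    have := hfst (b⁻¹ * b') (mul_mem (inv_mem hb) hb') (by simp [e])
    exact hvu (hb'v ▸ congrArg Prod.fst (inv_mul_eq_one.1 this).symm)
  -- choose the twist
  obtain ⟨e, he3, he1, heQ, hev⟩ : ∃ e : A, e ^ 3 = 1 ∧ e ≠ 1 ∧ e ∈ Q2 ∧
      b'.2 = e * b.2 * e⁻¹ := by
    obtain ⟨-, -, -, hor⟩ := orbit b.2 (hinv b hb).2 hu' d hd3 hd1
    rcases hor b'.2 (hinv b' hb').2 hb'1 hb'b with h | h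
    · exact ⟨d, hd3, hd1, d.2, h⟩
    · refine ⟨(d : A) ^ 2, ?_, ?_, pow_mem d.2 2, h⟩
      · rw [← pow_mul, mul_comm, pow_mul, hd3, one_pow]
      · intro e2
        exact hd1 (by rw [← hd3, pow_succ, e2, one_mul])
  obtain ⟨-, -, huv', -⟩ := orbit b.2 (hinv b hb).2 hu' e he3 he1
  set r : A × A := ((c : A), e)
  have hrQ : r ∈ (Q : Subgroup (A × A)) := hQ ▸ Subgroup.mem_prod.2 ⟨c.2, heQ⟩
  have hr : orderOf r = 3 := orderOf_eq_prime (Prod.ext hc3 he3) fun e' =>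
    hc1 (congrArg Prod.fst e')
  refine ⟨Subgroup.zpowers r, Subgroup.zpowers_le.2 hrQ, by rw [Nat.card_zpowers, hr], ?_, ?_,
    Subgroup.zpowers_le.2 ?_⟩
  · intro h
    have h3 := (h ▸ Subgroup.mem_zpowers r : r ∈ (Q : Subgroup _) ⊓ Subgroup.prod ⊤ ⊥).2
    exact he1 (Subgroup.mem_bot.1 (Subgroup.mem_prod.1 h3).2)
  · intro h
    have h3 := (h ▸ Subgroup.mem_zpowers r : r ∈ (Q : Subgroup _) ⊓ Subgroup.prod ⊥ ⊤).2
    exact hc1 (Subgroup.mem_bot.1 (Subgroup.mem_prod.1 h3).1)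
  have hB : B = Subgroup.closure {b, b'} := by
    have hle2 : Subgroup.closure {b, b'} ≤ B :=
      (Subgroup.closure_le _).2 (Set.insert_subset hb (Set.singleton_subset_iff.2 hb'))
    refine (Subgroup.eq_of_le_of_card_ge hle2 ?_).symm
    have hsub : ({1, b, b'} : Finset (A × A)) ⊆
        (Subgroup.closure {b, b'} : Set (A × A)).toFinset := by
      intro x hx
      simp only [Finset.mem_insert, Finset.mem_singleton] at hx
      rw [Set.mem_toFinset]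
      rcases hx with rfl | rfl | rfl
      · exact one_mem _
      · exact Subgroup.subset_closure (Set.mem_insert _ _)
      · exact Subgroup.subset_closure (Set.mem_insert_of_mem _ rfl)
    have h3 := Finset.card_le_card hsub
    rw [Finset.card_eq_three.2 ⟨1, b, b', fun e' => hb1' e'.symm,
      fun e' => hb'1 (by rw [← e']; rfl), fun e' => hb'b (by rw [e']), rfl⟩,
      ← Set.ncard_eq_toFinset_card', ← Nat.card_coe_set_eq, SetLike.coe_sort_coe] at h3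
    have h4 : Nat.card (Subgroup.closure {b, b'}) ∣ 4 :=
      (Subgroup.card_dvd_of_le hle2).trans hB4.dvd
    rw [hB4]
    have h5 : Nat.card (Subgroup.closure {b, b'}) ≤ 4 := Nat.le_of_dvd (by norm_num) h4
    by_contra hlt
    have h6 : Nat.card (Subgroup.closure {b, b'}) = 3 := by omega
    rw [h6] at h4
    norm_num at h4
  have hmap : B.map (MulAut.conj r).toMonoidHom ≤ B := by
    conv_lhs => rw [hB]
    rw [MonoidHom.map_closure, Subgroup.closure_le]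
    rintro _ ⟨x, rfl | rfl, rfl⟩
    · rw [show (MulAut.conj r).toMonoidHom x = b' from Prod.ext hb'v.symm hev.symm]
      exact hb'
    · rw [show (MulAut.conj r).toMonoidHom x = b * x from Prod.ext
        (by show (c : A) * x.1 * (c : A)⁻¹ = b.1 * x.1; rw [hb'v]; exact hvuv)
        (by show e * x.2 * e⁻¹ = b.2 * x.2; rw [hev]; exact huv')]
      exact mul_mem hb hb'
  have heq : B.map (MulAut.conj r).toMonoidHom = B := Subgroup.eq_of_le_of_card_ge hmap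
    (by rw [Subgroup.card_map_of_injective (MulAut.conj r).injective])
  exact Subgroup.mem_normalizer_iff.2 fun x => ⟨fun hx => hmap ⟨x, hx, rfl⟩, fun hx => by
    rw [← heq] at hx
    obtain ⟨y, hy, e'⟩ := hx
    rwa [(MulAut.conj r).injective e'] at hy⟩

end Cfsg.Agent.SolvStruct.AltFourSquared
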