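import Cfsg.Prelude.Def_Transfer
import Cfsg.Agent.Lib.Coprime.PGroup
import Cfsg.Agent.Lib.Coprime.Generation
import Cfsg.Agent.Lib.Cores.Fitting
import Cfsg.Agent.OddLocal.CN

/-!
# An elementary abelian 2-group acting on a nilpotent group of odd order
-/

set_option autoImplicit false

namespace Cfsg.Agent.SolvStruct.InvariantPrimeSubgroups

open scoped Pointwise

variable {S : Type*} [Group S] [Finite S] {I : Subgroup S}

/-- A prime-order element on which `I` acts by signs, not centralized by `J`. -/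
theorem exists_eigen [IsMulCommutative I] (hI2 : ∀ x ∈ I, x ^ 2 = 1) {J : Subgroup S} (hJI : J ≤ I)
    (X : Subgroup S) (hIX : I ≤ Subgroup.normalizer (X : Set S)) (hodd : Odd (Nat.card X))
    (hJX : ¬ J ≤ Subgroup.centralizer (X : Set S)) :
    ∃ a ∈ X, (orderOf a).Prime ∧ (∀ x ∈ I, x * a * x⁻¹ = a ∨ x * a * x⁻¹ = a⁻¹) ∧
      ∃ t ∈ J, t * a * t⁻¹ = a⁻¹ := by
  classical
  haveI : Finite (Subgroup S) := Finite.of_injective _ SetLike.coe_injective
  obtain ⟨W, -, ⟨⟨hWX, hIW, hJW⟩, hmin⟩⟩ := exists_minimal_le_of_wellFoundedLT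
    (fun W : Subgroup S => W ≤ X ∧ I ≤ Subgroup.normalizer (W : Set S) ∧
      ¬ J ≤ Subgroup.centralizer (W : Set S)) X ⟨le_rfl, hIX, hJX⟩
  have hodd' : Odd (Nat.card W) := by
    obtain ⟨k, hk⟩ := Subgroup.card_dvd_of_le hWX
    rw [hk] at hodd
    exact (Nat.odd_mul.1 hodd).1
  have hcommI : ∀ x ∈ I, ∀ y ∈ I, Commute x y := fun x hx y hy =>
    congrArg Subtype.val (mul_comm' (M := I) ⟨x, hx⟩ ⟨y, hy⟩)
  set K := I ⊓ Subgroup.centralizer (W : Set S) with hK
  obtain ⟨t, htJ, htK⟩ := SetLike.not_le_iff_exists.1 hJW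
  have htI := hJI htJ
  -- `I` acts on `W` as a group of order two
  have hgen : ∀ x ∈ I, x ∈ K ∨ x * t⁻¹ ∈ K := by
    intro x hx
    by_contra hcon
    push Not at hcon
    obtain ⟨hx1, hx2⟩ := hcon
    set B := Subgroup.closure {t, x}
    have hBI : B ≤ I := (Subgroup.closure_le _).2 (Set.insert_subset htI (Set.singleton_subset_iff.2 hx))
    haveI : IsMulCommutative B := ⟨⟨fun a b => Subtype.ext (hcommI a (hBI a.2) b (hBI b.2)).eq⟩⟩
    have hBK : ∀ b ∈ B, b ≠ 1 → b ∉ K := by
      intro b hb hb1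
      have hsub : B ≤ {
        carrier := {1, t, x, x * t}
        one_mem' := by simp
        mul_mem' := by
          have ht2 : t * t = 1 := by rw [← pow_two]; exact hI2 t htI
          have hx22 : x * x = 1 := by rw [← pow_two]; exact hI2 x hx
          have hc : t * x = x * t := hcommI t htI x hx
          have hc' : ∀ u, t * (x * u) = x * (t * u) := fun u => by rw [← mul_assoc, hc, mul_assoc]
          have ht3 : ∀ u, t * (t * u) = u := fun u => by rw [← mul_assoc, ht2, one_mul]
          have hx3 : ∀ u, x * (x * u) = u := fun u => by rw [← mul_assoc, hx22, one_mul]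
          intro a b ha hb
          simp only [Set.mem_insert_iff, Set.mem_singleton_iff] at ha hb ⊢
          rcases ha with ha | ha | ha | ha <;> rcases hb with hb | hb | hb | hb <;> rw [ha, hb] <;>
            simp [ht2, hx22, hc, hc', ht3, hx3, mul_assoc]
        inv_mem' := by
          have hti : t⁻¹ = t := inv_eq_of_mul_eq_one_right (by rw [← pow_two]; exact hI2 t htI)
          have hxi : x⁻¹ = x := inv_eq_of_mul_eq_one_right (by rw [← pow_two]; exact hI2 x hx)
          intro a ha
          simp only [Set.mem_insert_iff, Set.mem_singleton_iff] at ha ⊢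
          rcases ha with ha | ha | ha | ha <;> rw [ha] <;>
            simp [hti, hxi, (hcommI t htI x hx).eq] } :=
        (Subgroup.closure_le _).2 (Set.insert_subset (Or.inr (Or.inl rfl))
          (Set.singleton_subset_iff.2 (Or.inr (Or.inr (Or.inl rfl)))))
      rcases hsub hb with rfl | rfl | rfl | rfl
      · exact absurd rfl hb1
      · exact fun h => htK h.2
      · exact hx1
      · intro h
        refine hx2 ?_
        rwa [show t⁻¹ = t from inv_eq_of_mul_eq_one_right (by rw [← pow_two]; exact hI2 t htI)]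
    have hBc : ¬ IsCyclic B := by
      intro hc
      obtain ⟨⟨g, hg⟩, hgen⟩ := hc.exists_generator
      have h2 : ∀ y ∈ B, y = 1 ∨ y = g := by
        intro y hy
        obtain ⟨i, hi⟩ := Subgroup.mem_zpowers_iff.1 (hgen ⟨y, hy⟩)
        have hy' : g ^ i = y := congrArg Subtype.val hi
        rcases Int.even_or_odd' i with ⟨j, rfl | rfl⟩
        · left; rw [← hy', zpow_mul, show g ^ (2 : ℤ) = 1 by exact_mod_cast hI2 g (hBI hg), one_zpow]
        · right; rw [← hy', zpow_add, zpow_mul, show g ^ (2 : ℤ) = 1 by exact_mod_cast hI2 g (hBI hg),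
            one_zpow, one_mul, zpow_one]
      have ht1 : t ≠ 1 := fun e => htK (e ▸ one_mem _)
      have hx0 : x ≠ 1 := fun e => hx1 (e ▸ one_mem K)
      have e1 := (h2 t (Subgroup.subset_closure (Set.mem_insert _ _))).resolve_left ht1
      have e2 := (h2 x (Subgroup.subset_closure (Set.mem_insert_of_mem _ rfl))).resolve_left hx0
      refine hx2 ?_
      rw [e2, ← e1, mul_inv_cancel]
      exact one_mem _
    have hcop : (Nat.card B).Coprime (Nat.card W) := by
      have hB : IsPGroup 2 B := fun b => ⟨1, Subtype.ext (by simpa using hI2 b (hBI b.2))⟩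
      haveI : Fact (Nat.Prime 2) := ⟨Nat.prime_two⟩
      obtain ⟨k, hk⟩ := hB.exists_card_eq
      rw [hk]
      exact Nat.Coprime.pow_left k (Nat.coprime_two_left.2 hodd')
    have hfix := Coprime.fixedGen_eq hBc (hBI.trans hIW) hcop
    refine hJW ?_
    rw [Subgroup.le_centralizer_iff, ← hfix]
    refine iSup₂_le fun b hb => ?_
    obtain ⟨hbB, hb1⟩ := hb
    by_contra hne
    have hW' : W ⊓ Subgroup.centralizer ({b} : Set S) ≤ X ∧
        I ≤ Subgroup.normalizer ((W ⊓ Subgroup.centralizer ({b} : Set S) : Subgroup S) : Set S) ∧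
        ¬ J ≤ Subgroup.centralizer ((W ⊓ Subgroup.centralizer ({b} : Set S) : Subgroup S) : Set S) := by
      refine ⟨inf_le_left.trans hWX, fun y hy => ?_, fun h => hne (Subgroup.le_centralizer_iff.1 h)⟩
      rw [← Coprime.conj_smul_eq_self_iff, Subgroup.smul_inf, Coprime.conj_smul_eq_self_iff.2 (hIW hy)]
      congr 1
      ext v
      rw [Coprime.mem_conj_smul, Subgroup.mem_centralizer_singleton_iff,
        Subgroup.mem_centralizer_singleton_iff]
      have hyb : Commute y b := hcommI y hy b (hBI hbB)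
      constructor
      · intro h
        have h3 : Commute (y⁻¹ * v * y) b := h
        have := h3.map (MulAut.conj y).toMonoidHom
        simp only [MulEquiv.coe_toMonoidHom, MulAut.conj_apply, hyb.eq, mul_inv_cancel_right] at this
        simpa [mul_assoc] using this.eq
      · intro h
        have h3 : Commute v b := h
        exact ((hyb.inv_left.mul_left h3).mul_left hyb).eq
    have hle := hmin hW' inf_le_left
    exact hBK b hbB hb1 ⟨hBI hbB, fun w hw =>
      Subgroup.mem_centralizer_singleton_iff.1 (hle hw).2⟩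
  -- an element inverted by `t`
  obtain ⟨w, hw, hwt⟩ : ∃ w ∈ W, t * w * t⁻¹ ≠ w := by
    by_contra hcon
    push Not at hcon
    exact htK fun w hw => (mul_inv_eq_iff_eq_mul.1 (hcon w hw)).symm
  set x := w⁻¹ * (t * w * t⁻¹) with hx
  have hxW : x ∈ W := mul_mem (inv_mem hw) ((Subgroup.mem_normalizer_iff.1 (hIW htI) w).1 hw)
  have htt : t * t = 1 := by rw [← pow_two]; exact hI2 t htI
  have hxinv : t * x * t⁻¹ = x⁻¹ := by
    have hti : t⁻¹ = t := inv_eq_of_mul_eq_one_right htt
    rw [hx]
    simp only [hti, mul_inv_rev, inv_inv]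
    calc t * (w⁻¹ * (t * w * t)) * t = t * w⁻¹ * t * w * (t * t) := by group
      _ = t * w⁻¹ * t * w := by rw [htt, mul_one]
      _ = _ := by group
  have hx1 : orderOf x ≠ 1 := by
    rw [Ne, orderOf_eq_one_iff, hx, inv_mul_eq_one]
    exact fun e => hwt e.symm
  obtain ⟨p, hp, hpd⟩ := Nat.exists_prime_and_dvd hx1
  set a := x ^ (orderOf x / p)
  have ha : orderOf a = p := by
    rw [orderOf_pow' _ (Nat.div_pos (Nat.le_of_dvd (orderOf_pos x) hpd) hp.pos).ne',
      Nat.gcd_eq_right (Nat.div_dvd_of_dvd hpd), Nat.div_div_self hpd (orderOf_pos x).ne']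
  have haW : a ∈ W := pow_mem hxW _
  have hta : t * a * t⁻¹ = a⁻¹ := by
    show t * x ^ _ * t⁻¹ = _
    rw [← conj_pow, hxinv, inv_pow]
  refine ⟨a, hWX haW, ha ▸ hp, fun y hy => ?_, t, htJ, hta⟩
  rcases hgen y hy with h | h
  · exact Or.inl (mul_inv_eq_iff_eq_mul.2 (h.2 a haW).symm)
  · right
    have h1 : a⁻¹ * (y * t⁻¹) = y * t⁻¹ * a⁻¹ := h.2 a⁻¹ (inv_mem haW)
    calc y * a * y⁻¹ = y * t⁻¹ * (t * a * t⁻¹) * (y * t⁻¹)⁻¹ := by group
      _ = a⁻¹ := by rw [hta, ← h1, mul_inv_cancel_right]

/-- The decomposition. -/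
theorem exists_family [IsMulCommutative I] (hI2 : ∀ x ∈ I, x ^ 2 = 1) :
    ∀ (n : ℕ) (J : Subgroup S), J ≤ I → Nat.card J = 2 ^ n → ∀ X : Subgroup S,
      I ≤ Subgroup.normalizer (X : Set S) → Group.IsNilpotent X → Odd (Nat.card X) →
      J ⊓ Subgroup.centralizer (X : Set S) = ⊥ →
      ∃ f : Fin n → Subgroup S, (∀ i, (Nat.card ↥(f i)).Prime) ∧ (∀ i, f i ≤ X) ∧
        (∀ i, I ≤ Subgroup.normalizer ((f i) : Set S)) ∧
        (∀ i j, i ≠ j → ∀ a ∈ f i, ∀ b ∈ f j, a * b = b * a) ∧
        Nat.card ↥(⨆ i, f i) = ∏ i, Nat.card ↥(f i) ∧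
        J ⊓ Subgroup.centralizer ((⨆ i, f i : Subgroup S) : Set S) = ⊥ ∧
        (⨆ i, f i) ⊓ Subgroup.centralizer (J : Set S) = ⊥ := by
  intro n
  induction n with
  | zero =>
    intro J _ hJ X _ _ _ _
    have hJ1 : J = ⊥ := Subgroup.card_eq_one.1 (by simpa using hJ)
    have hbot : (⨆ i : Fin 0, (Fin.elim0 i : Subgroup S)) = ⊥ := by simp
    exact ⟨fun i => i.elim0, fun i => i.elim0, fun i => i.elim0, fun i => i.elim0,
      fun i => i.elim0, by rw [hbot]; simp, by rw [hJ1, bot_inf_eq], by rw [hbot, bot_inf_eq]⟩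
  | succ n ih =>
    intro J hJI hJ X hIX hXn hXodd hfaith
    have hJX : ¬ J ≤ Subgroup.centralizer (X : Set S) := fun h => by
      rw [inf_eq_left.2 h] at hfaith
      rw [hfaith, Subgroup.card_bot] at hJ
      exact absurd hJ.symm (Nat.one_lt_two_pow (by omega)).ne'
    obtain ⟨a, haX, hap, hsign, t, htJ, hta⟩ := exists_eigen hI2 hJI X hIX hXodd hJX
    haveI := Fact.mk hap
    set A := Subgroup.zpowers a with hA
    have hAX : A ≤ X := Subgroup.zpowers_le.2 haX
    have hIA : I ≤ Subgroup.normalizer (A : Set S) := by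
      intro y hy
      rw [← Coprime.conj_smul_eq_self_iff, Coprime.conj_smul_eq_map, hA, MonoidHom.map_zpowers]
      show Subgroup.zpowers (y * a * y⁻¹) = _
      rcases hsign y hy with e | e <;> rw [e]
      exact Subgroup.zpowers_inv
    have hainv : a ≠ a⁻¹ := by
      intro e
      have h2 : orderOf a ∣ 2 := orderOf_dvd_of_pow_eq_one (by
        rw [pow_two]; nth_rewrite 2 [e]; exact mul_inv_cancel a)
      have hodd : Odd (orderOf a) := by
        have hd : orderOf a ∣ Nat.card X := Subgroup.orderOf_mk a haX ▸ orderOf_dvd_natCard (⟨a, haX⟩ : X)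
        obtain ⟨k, hk⟩ := hd
        rw [hk] at hXodd
        exact (Nat.odd_mul.1 hXodd).1
      rw [(Nat.prime_dvd_prime_iff_eq hap Nat.prime_two).1 h2] at hodd
      exact absurd hodd (by decide)
    -- the kernel on `a`
    set J₀ := J ⊓ Subgroup.centralizer ({a} : Set S) with hJ₀
    have ht₀ : t ∉ J₀ := fun h => hainv (by
      rw [← hta, (show Commute t a from Subgroup.mem_centralizer_singleton_iff.1 h.2).eq,
        mul_inv_cancel_right])
    have hidx : J₀.relIndex J = 2 := by
      rw [Subgroup.relIndex, Subgroup.index_eq_two_iff]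
      refine ⟨⟨t, htJ⟩, fun b => ?_⟩
      have hbI := hJI b.2
      simp only [Subgroup.mem_subgroupOf, hJ₀, Subgroup.mem_inf, Subgroup.mem_centralizer_singleton_iff,
        Subgroup.coe_mul, b.2, mul_mem b.2 htJ, true_and]
      have hbt : (b : S) * t * a * ((b : S) * t)⁻¹ = ((b : S) * a * (b : S)⁻¹)⁻¹ := by
        calc _ = (b : S) * (t * a * t⁻¹) * (b : S)⁻¹ := by group
          _ = _ := by rw [hta]; group
      rcases hsign b hbI with e | e
      · right
        refine ⟨mul_inv_eq_iff_eq_mul.1 e, fun h => hainv ?_⟩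
        rw [e] at hbt
        rw [← hbt, h, mul_inv_cancel_right]
      · left
        refine ⟨?_, fun h => hainv ?_⟩
        · rw [e, inv_inv] at hbt
          exact mul_inv_eq_iff_eq_mul.1 hbt
        · rw [← e, h, mul_inv_cancel_right]
    have hJ₀c : Nat.card J₀ = 2 ^ n := by
      have h1 := Subgroup.relIndex_mul_relIndex ⊥ J₀ J bot_le inf_le_left
      rw [Subgroup.relIndex_bot_left, Subgroup.relIndex_bot_left, hidx, hJ, pow_succ] at h1
      exact Nat.eq_of_mul_eq_mul_right two_pos h1
    -- the centralizer of `a`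
    set Y := X ⊓ Subgroup.centralizer (A : Set S) with hY
    have hIY : I ≤ Subgroup.normalizer (Y : Set S) := by
      intro y hy
      rw [← Coprime.conj_smul_eq_self_iff, hY, Subgroup.smul_inf,
        Coprime.conj_smul_eq_self_iff.2 (hIX hy)]
      congr 1
      ext v
      rw [Coprime.mem_conj_smul, Subgroup.mem_centralizer_iff, Subgroup.mem_centralizer_iff]
      constructor <;> intro h u hu
      · have h1 := h (y⁻¹ * u * y) ((Subgroup.mem_normalizer_iff.1 (hIA hy) _).2 (by
          simpa [mul_assoc] using hu))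
        have := congrArg (fun z => y * z * y⁻¹) h1
        simpa [mul_assoc] using this
      · have h1 := h (y * u * y⁻¹) ((Subgroup.mem_normalizer_iff.1 (hIA hy) u).1 hu)
        have := congrArg (fun z => y⁻¹ * z * y) h1
        simpa [mul_assoc] using this
    haveI : Group.IsNilpotent Y := Cores.isNilpotent_to_le inf_le_left hXn
    have hYodd : Odd (Nat.card Y) := by
      obtain ⟨k, hk⟩ := Subgroup.card_dvd_of_le (inf_le_left : Y ≤ X)
      rw [hk] at hXodd
      exact (Nat.odd_mul.1 hXodd).1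
    -- `P × Q` lemma
    have hfaith₀ : J₀ ⊓ Subgroup.centralizer (Y : Set S) = ⊥ := by
      rw [eq_bot_iff, ← hfaith]
      refine le_inf (inf_le_left.trans inf_le_left) (Subgroup.le_centralizer_iff.2 ?_)
      set K := J₀ ⊓ Subgroup.centralizer (Y : Set S) with hK
      haveI := hXn
      suffices h : (Subgroup.centralizer (K : Set S)).subgroupOf X = ⊤ by
        exact Subgroup.subgroupOf_eq_top.1 h
      refine Cores.eq_top_of_sylow_le fun q hq _ => ?_
      haveI := Fact.mk hq
      obtain ⟨U⟩ := (inferInstance : Nonempty (Sylow q X))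
      refine ⟨U, fun u hu => ?_⟩
      rw [Subgroup.mem_subgroupOf]
      haveI : (U : Subgroup X).Normal := inferInstance
      haveI : (U : Subgroup X).Characteristic := U.characteristic_of_normal inferInstance
      by_cases hqa : q = orderOf a
      · set U' := (U : Subgroup X).map X.subtype with hU'
        have hKI : K ≤ I := (inf_le_left.trans inf_le_left).trans hJI
        have hKc : (Nat.card K).Coprime (orderOf a) := by
          have hK2 : IsPGroup 2 K := fun b => ⟨1, Subtype.ext (by simpa using hI2 b (hKI b.2))⟩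
          haveI : Fact (Nat.Prime 2) := ⟨Nat.prime_two⟩
          obtain ⟨k, hk⟩ := hK2.exists_card_eq
          rw [hk]
          refine Nat.Coprime.pow_left k ((Nat.coprime_primes Nat.prime_two hap).2 fun e => hainv ?_)
          exact (inv_eq_of_mul_eq_one_right (by rw [← pow_two, e, pow_orderOf_eq_one])).symm
        have hAq : IsPGroup (orderOf a) A := IsPGroup.of_card (n := 1) (by rw [Nat.card_zpowers, pow_one])
        have hAU : A ≤ U' := by
          intro v hv
          refine ⟨⟨v, hAX hv⟩, ?_, rfl⟩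
          obtain ⟨V, hV⟩ := ((hqa ▸ hAq : IsPGroup q A).comap_of_injective X.subtype
            X.subtype_injective).exists_le_sylow
          haveI := Sylow.unique_of_normal U inferInstance
          rw [Subsingleton.elim U V]
          exact hV hv
        have hKU : K ≤ Subgroup.normalizer (U' : Set S) := by
          have h1 : ∀ y ∈ Subgroup.normalizer (X : Set S), MulAut.conj y • U' = U' := by
            intro y hy
            have hmap : (U : Subgroup X).map ((X.normalizerMonoidHom ⟨y, hy⟩).toMonoidHom) =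
                (U : Subgroup X) := Subgroup.characteristic_iff_map_eq.1 inferInstance _
            rw [Coprime.conj_smul_eq_map, hU', Subgroup.map_map]
            conv_rhs => rw [← hmap, Subgroup.map_map]
            rfl
          exact fun y hy => Coprime.conj_smul_eq_self_iff.1 (h1 y (hIX (hKI hy)))
        refine Subgroup.le_centralizer_iff.1 (Coprime.le_centralizer_of_pxq (p := q) (P := A) (Q := K)
          (U := U') (hqa ▸ hAq) (hqa ▸ hKc) (U.2.map _) ?_ (hAU.trans Subgroup.le_normalizer) hKU ?_)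
          ⟨u, hu, rfl⟩
        · refine Subgroup.zpowers_le.2 fun k hk => ?_
          exact Subgroup.mem_centralizer_singleton_iff.1 hk.1.2
        · refine le_trans ?_ (Subgroup.le_centralizer_iff.1 (inf_le_right : K ≤ _))
          exact inf_le_inf_right _ (Subgroup.map_subtype_le _)
      · refine Subgroup.le_centralizer_iff.1 (inf_le_right : K ≤ Subgroup.centralizer (Y : Set S)) ?_
        refine ⟨u.2, ?_⟩
        rw [hA, Subgroup.zpowers_eq_closure, Subgroup.centralizer_closure]
        refine Subgroup.mem_centralizer_singleton_iff.2 ?_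
        obtain ⟨k, hk⟩ := IsPGroup.iff_orderOf.1 U.2 ⟨u, hu⟩
        rw [Subgroup.orderOf_mk] at hk
        exact congrArg Subtype.val (OddLocal.CN.commute_of_coprime (G := X) (a := u) (b := ⟨a, haX⟩) (by
          rw [hk, Subgroup.orderOf_mk]
          exact Nat.Coprime.pow_left _ ((Nat.coprime_primes hq hap).2 hqa))).eq
    obtain ⟨f, hf1, hf2, hf3, hf4, hf5, hf6, hf7⟩ :=
      ih J₀ (inf_le_left.trans hJI) hJ₀c Y hIY inferInstance hYodd hfaith₀
    set T := ⨆ i, f i with hT
    have hTY : T ≤ Y := iSup_le hf2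
    have haJ₀ : a ∈ Subgroup.centralizer (J₀ : Set S) := fun y hy =>
      Subgroup.mem_centralizer_singleton_iff.1 hy.2
    have hsupT : (⨆ i, (Fin.cons A f : Fin (n + 1) → Subgroup S) i) = T ⊔ A := by
      refine le_antisymm (iSup_le fun i => ?_) (sup_le (iSup_le fun i => ?_) ?_)
      · refine Fin.cases ?_ (fun j => ?_) i
        · exact le_sup_right
        · simpa using (le_iSup f j).trans le_sup_left
      · exact le_iSup_of_le i.succ (by simp)
      · exact le_iSup_of_le 0 (by simp)
    have hdisj : T ⊓ A = ⊥ := by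
      rw [eq_bot_iff, ← hf7]
      exact inf_le_inf_left _ (Subgroup.zpowers_le.2 haJ₀)
    have hTA : T ≤ Subgroup.centralizer (A : Set S) := hTY.trans inf_le_right
    refine ⟨Fin.cons A f, fun i => ?_, fun i => ?_, fun i => ?_, ?_, ?_, ?_, ?_⟩
    · refine Fin.cases ?_ (fun j => ?_) i
      · rw [Fin.cons_zero, Nat.card_zpowers]; exact hap
      · rw [Fin.cons_succ]; exact hf1 j
    · refine Fin.cases ?_ (fun j => ?_) i
      · rw [Fin.cons_zero]; exact hAX
      · rw [Fin.cons_succ]; exact (hf2 j).trans inf_le_left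
    · refine Fin.cases ?_ (fun j => ?_) i
      · rw [Fin.cons_zero]; exact hIA
      · rw [Fin.cons_succ]; exact hf3 j
    · intro i j hij
      refine Fin.cases ?_ (fun i' => ?_) i (motive := fun i => i ≠ j → ∀ x ∈ (Fin.cons A f :
        Fin (n + 1) → Subgroup S) i, ∀ y ∈ (Fin.cons A f : Fin (n + 1) → Subgroup S) j,
          x * y = y * x) hij
      · refine Fin.cases ?_ (fun j' => ?_) j (motive := fun j => (0 : Fin (n + 1)) ≠ j →
          ∀ x ∈ (Fin.cons A f : Fin (n + 1) → Subgroup S) 0, ∀ y ∈ (Fin.cons A f :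
            Fin (n + 1) → Subgroup S) j, x * y = y * x)
        · exact fun h => absurd rfl h
        · intro _ x hx y hy
          rw [Fin.cons_zero] at hx
          rw [Fin.cons_succ] at hy
          exact hTA (le_iSup f j' hy) x hx
      · refine Fin.cases ?_ (fun j' => ?_) j (motive := fun j => i'.succ ≠ j →
          ∀ x ∈ (Fin.cons A f : Fin (n + 1) → Subgroup S) i'.succ, ∀ y ∈ (Fin.cons A f :
            Fin (n + 1) → Subgroup S) j, x * y = y * x)
        · intro _ x hx y hy
          rw [Fin.cons_succ] at hx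
          rw [Fin.cons_zero] at hy
          exact (hTA (le_iSup f i' hx) y hy).symm
        · intro h x hx y hy
          rw [Fin.cons_succ] at hx hy
          exact hf4 i' j' (fun e => h (e ▸ rfl)) x hx y hy
    · rw [hsupT, Coprime.card_sup_of_disjoint
        (Subgroup.le_centralizer_iff.1 hTA |>.trans (Subgroup.centralizer_le_normalizer _))
        (disjoint_iff.2 hdisj), hf5, Fin.prod_univ_succ]
      simp [mul_comm]
    · rw [hsupT, eq_bot_iff, ← hf6]
      refine le_inf (fun y hy => ⟨hy.1, Subgroup.mem_centralizer_singleton_iff.2 ?_⟩) ?_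
      · exact (hy.2 a (le_sup_right (a := T) (Subgroup.mem_zpowers a))).symm
      · exact inf_le_right.trans (Subgroup.centralizer_le (le_sup_left (b := A)))
    · rw [hsupT, eq_bot_iff]
      rintro v ⟨hv, hvJ⟩
      haveI : A.Normal → True := fun _ => trivial
      obtain ⟨s, hs, b, hb, rfl⟩ : ∃ s ∈ T, ∃ b ∈ A, s * b = v := by
        have h1 : ((T ⊔ A : Subgroup S) : Set S) = (T : Set S) * A :=
          Subgroup.coe_mul_of_left_le_normalizer_right T A
            (hTA.trans (Subgroup.centralizer_le_normalizer _))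
        exact Set.mem_mul.1 (h1 ▸ hv)
      have hs' : s ∈ T ⊓ Subgroup.centralizer (J₀ : Set S) := by
        refine ⟨hs, ?_⟩
        have hb' : b ∈ Subgroup.centralizer (J₀ : Set S) := (Subgroup.zpowers_le.2 haJ₀) hb
        have h2 := mul_mem (Subgroup.centralizer_le (inf_le_left : J₀ ≤ J) hvJ) (inv_mem hb')
        rwa [mul_inv_cancel_right] at h2
      rw [hf7, Subgroup.mem_bot] at hs'
      subst hs'
      rw [one_mul] at hvJ ⊢
      obtain ⟨i, rfl⟩ := Subgroup.mem_zpowers_iff.1 hb
      have h3 : t * a ^ i * t⁻¹ = a ^ i := by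
        rw [hvJ t htJ, mul_inv_cancel_right]
      rw [← conj_zpow, hta, inv_zpow] at h3
      have h4 : (a ^ i) ^ 2 = 1 := by
        rw [pow_two]; nth_rewrite 1 [← h3]; exact inv_mul_cancel _
      rw [Subgroup.mem_bot]
      have h5 : a ^ (2 * i) = 1 := by
        rw [two_mul, zpow_add, ← pow_two]; exact h4
      have h6 : (orderOf a : ℤ) ∣ 2 * i := orderOf_dvd_iff_zpow_eq_one.2 h5
      have h7 : IsCoprime (orderOf a : ℤ) 2 := by
        refine Int.isCoprime_iff_nat_coprime.2 ?_
        simpa using (Nat.coprime_primes hap Nat.prime_two).2 fun e => hainv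
          (inv_eq_of_mul_eq_one_right (by rw [← pow_two, ← e, pow_orderOf_eq_one])).symm
      exact orderOf_dvd_iff_zpow_eq_one.1 (h7.dvd_of_dvd_mul_left h6)

theorem main [Group.IsSolvable S] (hF : Odd (Nat.card ↥(Cfsg.fittingSubgroup S)))
    (hI : Cfsg.IsElementaryAbelian 2 I) (n : ℕ) (hIn : Nat.card ↥I = 2 ^ n) :
    ∃ f : Fin n → Subgroup S, (∀ i, (Nat.card ↥(f i)).Prime) ∧ (∀ i, f i ≤ Cfsg.fittingSubgroup S) ∧
      (∀ i, I ≤ Subgroup.normalizer ((f i) : Set S)) ∧
      (∀ i j, i ≠ j → ∀ a ∈ f i, ∀ b ∈ f j, a * b = b * a) ∧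
      Nat.card ↥(⨆ i, f i) = ∏ i, Nat.card ↥(f i) ∧
      I ⊓ Subgroup.centralizer ((⨆ i, f i : Subgroup S) : Set S) = ⊥ := by
  haveI := hI.1
  haveI : Fact (Nat.Prime 2) := ⟨Nat.prime_two⟩
  have hfaith : I ⊓ Subgroup.centralizer (Cfsg.fittingSubgroup S : Set S) = ⊥ := by
    rw [eq_bot_iff, ← disjoint_iff.1 (Coprime.disjoint_of_coprime (N := I)
      (H := Cfsg.fittingSubgroup S) (by rw [hIn]; exact Nat.Coprime.pow_left n (Nat.coprime_two_left.2 hF)))]
    exact inf_le_inf_left _ Cores.centralizer_fittingSubgroup_le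
  obtain ⟨f, h1, h2, h3, h4, h5, h6, -⟩ := exists_family hI.2 n I le_rfl hIn
    (Cfsg.fittingSubgroup S)
    (by rw [Subgroup.normalizer_eq_top_iff.2 Cores.fittingSubgroup_normal]; exact le_top)
    Cores.fittingSubgroup_isNilpotent hF hfaith
  exact ⟨f, h1, h2, h3, h4, h5, h6⟩

end Cfsg.Agent.SolvStruct.InvariantPrimeSubgroups
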